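import Cfsg.Agent.TAB.F22.FxB_m3
import Cfsg.Agent.H452.FprSz
import Cfsg.Agent.S2126
import Cfsg.Agent.Lib.NilpotentCoprime
import Cfsg.Agent.SB.Exc.CI.Main_m3
import Cfsg.Agent.DS.Nt.Box
import Cfsg.Agent.SB.Low.TabD1_m3
import Cfsg.Agent.FastGrp
import Cfsg.Agent.Prune
set_option linter.all false

section
prune_inst 0x7ffcfef8efb8bddfffff7e7ffed9dffc3990dfffe6dffd4b7fe863ff0bdf030029e5fbad8de010ff1ef6e2bc10b87853fb7eeeffeb6fdc7ffffd5ff45ffbee0ff7febfa971d68c340ffc0ffffbf17f8e7f3fffffffffffffffffffffffffffbeffffffffffff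

-- part: SB/R1/Zass
section
prune_inst 0x100000000018001240002004400001900020080059800d420a067120004121014c800c101000228000000000001000400000000000000000000100001000400013340d00260000002003180c00000000000000000000000000041000000000000
set_option linter.all false
open scoped Cfsg.Agent.FastGrp

-- part: SB/R1/TI
section
/-!
# S5765: groups with `1 + |P|` Sylow `p`-subgroups, any two of them meeting trivially (helper61)

`Aut K` acts faithfully on the Sylow `p`-subgroups, `P` acts regularly on the other ones.  `fix_cases` describes the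
centralizer in `K` of a non-trivial automorphism, `four_of_par` treats the stabilizer of a Sylow `p`-subgroup.
-/

set_option autoImplicit false

namespace Cfsg.Agent.SB.R1

open Subgroup MulAction Cfsg Cfsg.Agent.H786.FC
open scoped Pointwise

theorem card_le_of_cover {Y D : Type*} [Finite Y] [Finite D] (r : D → Y → Prop) (hc : ∀ y, ∃ d, r d y) {c : ℕ}
    (h : ∀ d, Nat.card {y // r d y} ≤ c) : Nat.card Y ≤ Nat.card D * c := by
  classical
  have _ := Fintype.ofFinite D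
  have h1 : Nat.card Y ≤ Nat.card (Σ d : D, {y // r d y}) := by
    refine Nat.card_le_card_of_surjective (fun z : (Σ d : D, {y // r d y}) => z.2.1) fun y => ?_
    obtain ⟨d, hd⟩ := hc y
    exact ⟨⟨d, y, hd⟩, rfl⟩
  rw [Nat.card_sigma] at h1
  refine h1.trans ((Finset.sum_le_sum fun d _ => h d).trans ?_)
  rw [Finset.sum_const, smul_eq_mul, Finset.card_univ, Nat.card_eq_fintype_card]

theorem dvd_of_one_add_pow_dvd {p k N : ℕ} (hp : 2 ≤ p) (hk : 1 ≤ k) (h : 1 + p ^ k ∣ p ^ (2 * N) - 1) : k ∣ N := by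
  have h0 : ∀ n, 1 ≤ p ^ n := fun n => Nat.one_le_pow _ _ (by omega)
  have h1 : 1 + p ^ k ∣ p ^ (2 * k) - 1 := by
    have : p ^ (2 * k) - 1 = (1 + p ^ k) * (p ^ k - 1) := by
      obtain ⟨t, ht⟩ : ∃ t, p ^ k = t + 1 := ⟨p ^ k - 1, by have := h0 k; omega⟩
      rw [mul_comm 2 k, pow_mul, ht, Nat.add_sub_cancel]
      have : (t + 1) ^ 2 = (1 + (t + 1)) * t + 1 := by ring
      omega
    rw [this]
    exact dvd_mul_right _ _
  have h2 := Nat.dvd_gcd h1 h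
  rw [Nat.pow_sub_one_gcd_pow_sub_one, Nat.gcd_mul_left] at h2
  have h3 : 0 < Nat.gcd k N := Nat.gcd_pos_of_pos_left _ hk
  have h4 : 1 < p ^ (2 * Nat.gcd k N) := Nat.one_lt_pow (by omega) (by omega)
  have h5 := Nat.le_of_dvd (by omega) h2
  have h6 : p ^ k < p ^ (2 * Nat.gcd k N) := by omega
  have h7 : k < 2 * Nat.gcd k N := (Nat.pow_lt_pow_iff_right (by omega)).1 h6
  obtain ⟨t, ht⟩ := Nat.gcd_dvd_left k N
  have h8 : t = 1 := by
    rcases Nat.lt_or_ge t 2 with h9 | h9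
    · interval_cases t
      · omega
      · rfl
    · nlinarith only [h7, ht, h9]
  rw [h8, mul_one] at ht
  rw [ht]
  exact Nat.gcd_dvd_right k N

/-- the setting -/
structure TI (p : ℕ) (K : Type*) [Group K] (Q h N : ℕ) : Prop where
  ti : ∀ P P' : Sylow p K, P ≠ P' → (P : Subgroup K) ⊓ P' = ⊥
  pow : Q = p ^ N
  cardP : ∀ P : Sylow p K, Nat.card (P : Subgroup K) = Q
  one_lt : 1 < Q
  count : Nat.card (Sylow p K) = 1 + Q
  ord : Nat.card K = Q * ((Q + 1) * h)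

variable {p : ℕ} {K : Type*} [Group K] {Q h N : ℕ}

theorem mem_smul_sylow {α : MulAut K} {P : Sylow p K} {x : K} : x ∈ α • P ↔ α⁻¹ x ∈ P :=
  mem_pointwise_smul_iff_inv_smul_mem (S := (P : Subgroup K))

theorem apply_mem_smul (α : MulAut K) {P : Sylow p K} {x : K} (hx : x ∈ P) : α x ∈ α • P := by
  rw [mem_smul_sylow, MulAut.inv_apply_self]
  exact hx

theorem smul_smul_sylow (α : MulAut K) (x : K) (P : Sylow p K) : α • x • P = α x • α • P := by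
  rw [Sylow.smul_def, Sylow.smul_def, ← conj_conj, mul_smul, mul_smul, inv_smul_smul]

theorem smul_self_of_mem {P : Sylow p K} {u : K} (hu : u ∈ P) : u • P = P :=
  Sylow.smul_eq_iff_mem_normalizer.2 (le_normalizer hu)

theorem mem_of_smul_eq {P P₀ : Sylow p K} {u : K} (hu : u ∈ P₀) (h : u • P = P) : u ∈ P := by
  have h1 : u ∈ (P₀ : Subgroup K) ⊓ normalizer P := ⟨hu, Sylow.smul_eq_iff_mem_normalizer.1 h⟩
  rw [P₀.isPGroup'.inf_normalizer_sylow] at h1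
  exact h1.2

namespace TI

variable (H : TI p K Q h N)
include H

theorem eq_of_mem {P P' : Sylow p K} {u : K} (hu : u ∈ P) (hu' : u ∈ P') (h1 : u ≠ 1) : P = P' := by
  by_contra hne
  have h2 : u ∈ (P : Subgroup K) ⊓ P' := ⟨hu, hu'⟩
  rw [H.ti P P' hne, mem_bot] at h2
  exact h1 h2

theorem free {P₀ P : Sylow p K} (hne : P ≠ P₀) {u : K} (hu : u ∈ P₀) (h : u • P = P) : u = 1 := by
  by_contra h1
  exact hne (H.eq_of_mem (mem_of_smul_eq hu h) hu h1)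

theorem smul_ne {P₀ P : Sylow p K} (hne : P ≠ P₀) {u : K} (hu : u ∈ P₀) : u • P ≠ P₀ := by
  intro h1
  apply hne
  rw [← inv_smul_smul u P, h1]
  exact smul_self_of_mem (inv_mem hu)

theorem smul_inj {P₀ P : Sylow p K} (hne : P ≠ P₀) {u v : K} (hu : u ∈ P₀) (hv : v ∈ P₀) (h : u • P = v • P) :
    u = v := by
  have h1 : (v⁻¹ * u) • P = P := by rw [mul_smul, h, inv_smul_smul]
  exact (inv_mul_eq_one.1 (H.free hne (mul_mem (inv_mem hv) hu) h1)).symm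

theorem finite_sylow : Finite (Sylow p K) := Nat.finite_of_card_ne_zero (by rw [H.count]; omega)

theorem card_ne (P₀ : Sylow p K) : Nat.card {P : Sylow p K // P ≠ P₀} = Q := by
  classical
  have := H.finite_sylow
  have h1 : Nat.card {P : Sylow p K // P = P₀} + Nat.card {P : Sylow p K // ¬ P = P₀} = Nat.card (Sylow p K) := by
    rw [← Nat.card_sum, Nat.card_congr (Equiv.sumCompl fun P : Sylow p K => P = P₀)]
  rw [H.count, Nat.card_unique] at h1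
  exact Nat.add_left_cancel h1

theorem trans {P₀ P P' : Sylow p K} (hP : P ≠ P₀) (hP' : P' ≠ P₀) : ∃ u ∈ P₀, u • P = P' := by
  have := H.finite_sylow
  have h1 : Function.Injective fun u : P₀ => (⟨(u : K) • P, H.smul_ne hP u.2⟩ : {P : Sylow p K // P ≠ P₀}) :=
    fun u v huv => Subtype.ext (H.smul_inj hP u.2 v.2 (congrArg Subtype.val huv))
  obtain ⟨u, hu⟩ := (h1.bijective_of_nat_card_le (by rw [H.card_ne]; exact (H.cardP P₀).ge)).2 ⟨P', hP'⟩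
  exact ⟨u, u.2, congrArg Subtype.val hu⟩

theorem exists_ne (P₀ : Sylow p K) : ∃ P : Sylow p K, P ≠ P₀ := by
  have h1 : 0 < Nat.card {P : Sylow p K // P ≠ P₀} := by
    rw [H.card_ne]
    have := H.one_lt
    omega
  obtain ⟨P, hP⟩ := (Nat.card_pos_iff.1 h1).1
  exact ⟨P, hP⟩

theorem exists_ne_one (P : Sylow p K) : ∃ u ∈ P, u ≠ 1 := by
  have h1 : 1 < Nat.card P := by rw [H.cardP]; exact H.one_lt
  have : Finite P := Nat.finite_of_card_ne_zero (by omega)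
  have := Finite.one_lt_card_iff_nontrivial.1 h1
  obtain ⟨u, hu⟩ := _root_.exists_ne (1 : P)
  exact ⟨u, u.2, fun h => hu (Subtype.ext h)⟩

theorem faithful [IsSimpleGroup K] {α : MulAut K} (hα : ∀ P : Sylow p K, α • P = P) : α = 1 := by
  have hker : ∀ g : K, (∀ P : Sylow p K, g • P = P) → g = 1 := by
    rcases (inferInstance : (toPermHom K (Sylow p K)).ker.Normal).eq_bot_or_eq_top with h1 | h1
    · intro g hg
      rw [← mem_bot, ← h1, MonoidHom.mem_ker]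
      ext P : 1
      exact hg P
    · exfalso
      obtain ⟨P₀⟩ : Nonempty (Sylow p K) := inferInstance
      obtain ⟨P, hP⟩ := H.exists_ne P₀
      obtain ⟨u, hu, hu1⟩ := H.exists_ne_one P₀
      have h2 : u ∈ (toPermHom K (Sylow p K)).ker := h1 ▸ mem_top u
      exact hu1 (H.free hP hu (DFunLike.congr_fun (MonoidHom.mem_ker.1 h2) P))
  ext g
  have h1 := hker (g⁻¹ * α g) fun P => by
    rw [mul_smul, inv_smul_eq_iff]
    have h2 := smul_smul_sylow α g P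
    rw [hα, hα] at h2
    exact h2.symm
  exact (inv_mul_eq_one.1 h1).symm

theorem smul_eq_of_fix {α : MulAut K} {P : Sylow p K} {u : K} (hu : u ∈ P) (h1 : u ≠ 1) (h : α u ∈ P) : α • P = P :=
  H.eq_of_mem (apply_mem_smul α hu) h fun h2 => h1 (α.injective (h2.trans (map_one α).symm))

theorem eq_one_of_cent [IsSimpleGroup K] {α : MulAut K} {P₀ P₁ : Sylow p K} (hne : P₁ ≠ P₀) (h1 : α • P₁ = P₁)
    (h : ∀ u ∈ P₀, α u = u) : α = 1 := by
  refine H.faithful fun P => ?_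
  by_cases hP : P = P₀
  · obtain ⟨u, hu, hu1⟩ := H.exists_ne_one P₀
    rw [hP]
    exact H.smul_eq_of_fix hu hu1 (by rw [h u hu]; exact hu)
  · obtain ⟨u, hu, rfl⟩ := H.trans hne hP
    rw [smul_smul_sylow, h u hu, h1]

/-- the fixed points of `α` other than `P₀` -/
theorem card_fixed {α : MulAut K} {P₀ P₁ : Sylow p K} (hne : P₁ ≠ P₀) (h0 : α • P₀ = P₀) (h1 : α • P₁ = P₁) :
    Nat.card {P : Sylow p K // P ≠ P₀ ∧ α • P = P} = Nat.card ↥(fixS α ⊓ P₀) := by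
  symm
  refine Nat.card_congr (Equiv.ofBijective (fun u : ↥(fixS α ⊓ P₀) =>
    (⟨(u : K) • P₁, H.smul_ne hne u.2.2, by rw [smul_smul_sylow, mem_fixS.1 u.2.1, h1]⟩ :
      {P : Sylow p K // P ≠ P₀ ∧ α • P = P})) ⟨fun u v huv => ?_, ?_⟩)
  · exact Subtype.ext (H.smul_inj hne u.2.2 v.2.2 (congrArg Subtype.val huv))
  · rintro ⟨P, hP, hPα⟩
    obtain ⟨u, hu, rfl⟩ := H.trans hne hP
    rw [smul_smul_sylow, h1] at hPα
    have h2 : α u ∈ P₀ := by
      rw [← h0]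
      exact apply_mem_smul α hu
    exact ⟨⟨u, H.smul_inj hne h2 hu hPα, hu⟩, rfl⟩

variable [Fact p.Prime] [Finite K]

theorem card_stab (P : Sylow p K) : Nat.card (stabilizer K P) = Q * h := by
  have h1 := (stabilizer K P).card_mul_index
  rw [index_stabilizer_of_transitive, H.count, H.ord] at h1
  have h2 : Q * ((Q + 1) * h) = Q * h * (1 + Q) := by ring
  rw [h2] at h1
  exact Nat.eq_of_mul_eq_mul_right (by omega) h1

/-- a subgroup fixing `P₀`, modulo its stabilizer of `P₁` -/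
theorem card_two {P₀ P₁ : Sylow p K} (hne : P₁ ≠ P₀) :
    Nat.card ↥(stabilizer K P₀ ⊓ stabilizer K P₁) = h := by
  have h1 : Nat.card (P₀ × ↥(stabilizer K P₀ ⊓ stabilizer K P₁)) = Nat.card (stabilizer K P₀) := by
    refine Nat.card_congr (Equiv.ofBijective (fun z : P₀ × ↥(stabilizer K P₀ ⊓ stabilizer K P₁) =>
      (⟨(z.1 : K) * z.2, mul_mem (smul_self_of_mem z.1.2) z.2.2.1⟩ : stabilizer K P₀)) ⟨?_, ?_⟩)
    · rintro ⟨u, t⟩ ⟨v, s⟩ huv
      have h2 : (u : K) * t = v * s := congrArg Subtype.val huv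
      have h3 : (u : K) = v := by
        refine H.smul_inj hne u.2 v.2 ?_
        have h4 : (t : K) • P₁ = P₁ := t.2.2
        have h5 : (s : K) • P₁ = P₁ := s.2.2
        conv_lhs => rw [← h4]
        conv_rhs => rw [← h5]
        rw [smul_smul, smul_smul, h2]
      rw [h3] at h2
      exact Prod.ext (Subtype.ext h3) (Subtype.ext (mul_left_cancel h2))
    · rintro ⟨b, hb⟩
      have h2 : b • P₁ ≠ P₀ := by
        intro h3
        apply hne
        rw [← inv_smul_smul b P₁, h3]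
        exact inv_mem hb
      obtain ⟨u, hu, hub⟩ := H.trans hne h2
      refine ⟨⟨⟨u, hu⟩, ⟨u⁻¹ * b, mem_inf.2 ⟨mul_mem (inv_mem (smul_self_of_mem hu)) hb, ?_⟩⟩⟩, ?_⟩
      · rw [mem_stabilizer_iff, mul_smul, ← hub, inv_smul_smul]
      · exact Subtype.ext (mul_inv_cancel_left u b)
  rw [Nat.card_prod, H.cardP, H.card_stab] at h1
  exact Nat.eq_of_mul_eq_mul_left (by have := H.one_lt; omega) h1

omit [Fact p.Prime] [Finite K] in
/-- the stabilizer of `P₀` in the centralizer of `α` -/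
theorem card_fix_stab {α : MulAut K} {P₀ P₁ : Sylow p K} (hne : P₁ ≠ P₀) (h0 : α • P₀ = P₀) (h1 : α • P₁ = P₁) :
    Nat.card ↥(fixS α ⊓ stabilizer K P₀) =
      Nat.card ↥(fixS α ⊓ P₀) * Nat.card ↥(fixS α ⊓ (stabilizer K P₀ ⊓ stabilizer K P₁)) := by
  rw [← Nat.card_prod]
  symm
  refine Nat.card_congr (Equiv.ofBijective
    (fun z : ↥(fixS α ⊓ P₀) × ↥(fixS α ⊓ (stabilizer K P₀ ⊓ stabilizer K P₁)) =>
      (⟨(z.1 : K) * z.2, mem_inf.2 ⟨mul_mem (mem_inf.1 z.1.2).1 (mem_inf.1 z.2.2).1,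
        mul_mem (smul_self_of_mem z.1.2.2) z.2.2.2.1⟩⟩ : ↥(fixS α ⊓ stabilizer K P₀))) ⟨?_, ?_⟩)
  · rintro ⟨u, t⟩ ⟨v, s⟩ huv
    have h2 : (u : K) * t = v * s := congrArg Subtype.val huv
    have h3 : (u : K) = v := by
      refine H.smul_inj hne u.2.2 v.2.2 ?_
      have h4 : (t : K) • P₁ = P₁ := t.2.2.2
      have h5 : (s : K) • P₁ = P₁ := s.2.2.2
      conv_lhs => rw [← h4]
      conv_rhs => rw [← h5]
      rw [smul_smul, smul_smul, h2]
    rw [h3] at h2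
    exact Prod.ext (Subtype.ext h3) (Subtype.ext (mul_left_cancel h2))
  · rintro ⟨b, hbα, hb⟩
    have hb' : b ∈ stabilizer K P₀ := hb
    have h2 : b • P₁ ≠ P₀ := by
      intro h3
      apply hne
      rw [← inv_smul_smul b P₁, h3]
      exact inv_mem hb'
    obtain ⟨u, hu, hub⟩ := H.trans hne h2
    have h3 : α u = u := by
      have h4 : α u ∈ P₀ := by
        rw [← h0]
        exact apply_mem_smul α hu
      refine H.smul_inj hne h4 hu ?_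
      have h5 := smul_smul_sylow α u P₁
      rw [h1] at h5
      rw [← h5, hub, smul_smul_sylow, mem_fixS.1 hbα, h1]
    have hu' : u ∈ fixS α := h3
    have hbα' : b ∈ fixS α := hbα
    refine ⟨⟨⟨u, mem_inf.2 ⟨hu', hu⟩⟩, ⟨u⁻¹ * b, mem_inf.2 ⟨mul_mem (inv_mem hu') hbα',
      mem_inf.2 ⟨mul_mem (inv_mem (smul_self_of_mem hu)) hb', ?_⟩⟩⟩⟩, ?_⟩
    · rw [mem_stabilizer_iff, mul_smul, ← hub, inv_smul_smul]
    · exact Subtype.ext (mul_inv_cancel_left u b)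

/-- a non-trivial automorphism fixing two Sylow subgroups -/
theorem two_fix [IsSimpleGroup K] {α : MulAut K} (hα : α ≠ 1) {P₀ P₁ : Sylow p K} (hne : P₁ ≠ P₀)
    (h0 : α • P₀ = P₀) (h1 : α • P₁ = P₁) :
    ∃ k < N, Nat.card ↥(fixS α ⊓ P₀) = p ^ k ∧ (k = 0 ∨ (1 + p ^ k ∣ (Q + 1) * h ∧
      Nat.card (fixS α) = (1 + p ^ k) * (p ^ k * Nat.card ↥(fixS α ⊓ (stabilizer K P₀ ⊓ stabilizer K P₁))))) := by
  classical
  have hp : p.Prime := Fact.out
  have hfin := H.finite_sylow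
  obtain ⟨k, hk⟩ := (P₀.isPGroup'.to_inf_right (H := fixS α)).exists_card_eq
  have hkN : k < N := by
    by_contra hcon
    have h2 : Nat.card P₀ ≤ Nat.card ↥(fixS α ⊓ P₀) := by
      rw [hk, H.cardP, H.pow]
      exact Nat.pow_le_pow_right hp.pos (by omega)
    have h3 : fixS α ⊓ P₀ = P₀ := eq_of_le_of_card_ge inf_le_right h2
    exact hα (H.eq_one_of_cent hne h1 fun u hu => (h3.ge hu).1)
  refine ⟨k, hkN, hk, ?_⟩
  rcases Nat.eq_zero_or_pos k with hk0 | hk0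
  · exact Or.inl hk0
  right
  -- the fixed points of `α` form one orbit of its centralizer
  have hcard : Nat.card {P : Sylow p K // α • P = P} = 1 + p ^ k := by
    rw [← hk, ← H.card_fixed hne h0 h1]
    have h2 : Nat.card {z : {P : Sylow p K // α • P = P} // z.1 = P₀} +
        Nat.card {z : {P : Sylow p K // α • P = P} // ¬ z.1 = P₀} = Nat.card {P : Sylow p K // α • P = P} := by
      rw [← Nat.card_sum, Nat.card_congr (Equiv.sumCompl _)]
    rw [← h2]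
    congr 1
    · rw [Nat.card_eq_one_iff_unique]
      exact ⟨⟨fun a b => Subtype.ext (Subtype.ext (a.2.trans b.2.symm))⟩, ⟨⟨⟨P₀, h0⟩, rfl⟩⟩⟩
    · exact Nat.card_congr ⟨fun z => ⟨z.1.1, z.2, z.1.2⟩, fun z => ⟨⟨z.1, z.2.2⟩, z.2.1⟩, fun _ => rfl, fun _ => rfl⟩
  have hQ1 : 1 < Nat.card ↥(fixS α ⊓ P₁) := by
    have h2 : Nat.card {z : {P : Sylow p K // α • P = P} // z.1 = P₁} +
        Nat.card {z : {P : Sylow p K // α • P = P} // ¬ z.1 = P₁} = Nat.card {P : Sylow p K // α • P = P} := by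
      rw [← Nat.card_sum, Nat.card_congr (Equiv.sumCompl _)]
    have h3 : Nat.card {z : {P : Sylow p K // α • P = P} // z.1 = P₁} = 1 := by
      rw [Nat.card_eq_one_iff_unique]
      exact ⟨⟨fun a b => Subtype.ext (Subtype.ext (a.2.trans b.2.symm))⟩, ⟨⟨⟨P₁, h1⟩, rfl⟩⟩⟩
    have h4 : Nat.card {z : {P : Sylow p K // α • P = P} // ¬ z.1 = P₁} =
        Nat.card {P : Sylow p K // P ≠ P₁ ∧ α • P = P} :=
      Nat.card_congr ⟨fun z => ⟨z.1.1, z.2, z.1.2⟩, fun z => ⟨⟨z.1, z.2.2⟩, z.2.1⟩, fun _ => rfl, fun _ => rfl⟩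
    rw [h3, h4, hcard, H.card_fixed hne.symm h1 h0] at h2
    have h5 : 1 < p ^ k := Nat.one_lt_pow hk0.ne' hp.one_lt
    omega
  have := Finite.one_lt_card_iff_nontrivial.1 hQ1
  obtain ⟨v, hv⟩ := _root_.exists_ne (1 : ↥(fixS α ⊓ P₁))
  have hv0 : (v : K) • P₀ ≠ P₀ := fun h2 => hv (Subtype.ext (H.free hne.symm v.2.2 h2))
  have horb : orbit (fixS α) P₀ = {P : Sylow p K | α • P = P} := by
    ext P
    constructor
    · rintro ⟨x, rfl⟩
      change α • (x : K) • P₀ = (x : K) • P₀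
      rw [smul_smul_sylow, mem_fixS.1 x.2, h0]
    · intro hP
      have hP' : α • P = P := hP
      by_cases h2 : P = P₀
      · rw [h2]
        exact mem_orbit_self _
      obtain ⟨u, hu, huP⟩ := H.trans hv0 h2
      have h3 : α u = u := by
        have h4 : α u ∈ P₀ := by
          rw [← h0]
          exact apply_mem_smul α hu
        refine H.smul_inj hv0 h4 hu ?_
        have h5 := smul_smul_sylow α u ((v : K) • P₀)
        rw [smul_smul_sylow α v, mem_fixS.1 v.2.1, h0, huP, hP'] at h5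
        rw [← h5, huP]
      refine ⟨⟨u * v, mul_mem (show u ∈ fixS α from h3) (mem_inf.1 v.2).1⟩, ?_⟩
      change (u * v) • P₀ = P
      rw [mul_smul, huP]
  have hidx : (stabilizer (fixS α) P₀).index = 1 + p ^ k := by
    rw [index_stabilizer, horb, ← hcard, ← Nat.card_coe_set_eq]
    rfl
  have hst : Nat.card (stabilizer (fixS α) P₀) = Nat.card ↥(fixS α ⊓ stabilizer K P₀) :=
    Nat.card_congr ⟨fun x => ⟨x.1.1, x.1.2, x.2⟩, fun x => ⟨⟨x.1, x.2.1⟩, x.2.2⟩, fun _ => rfl, fun _ => rfl⟩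
  have hmain := (stabilizer (fixS α) P₀).card_mul_index
  rw [hidx, hst, H.card_fix_stab hne h0 h1, hk] at hmain
  refine ⟨?_, by rw [← hmain]; ring⟩
  have h2 : 1 + p ^ k ∣ Nat.card K := (Dvd.intro_left _ hmain).trans (card_subgroup_dvd_card _)
  rw [H.ord, H.pow] at h2
  rw [H.pow]
  refine Nat.Coprime.dvd_of_dvd_mul_left ?_ h2
  refine Nat.Coprime.pow_right _ ?_
  rw [Nat.coprime_comm, hp.coprime_iff_not_dvd]
  intro h3
  exact hp.one_lt.ne' (Nat.dvd_one.1 ((Nat.dvd_add_left (dvd_pow_self p hk0.ne')).1 h3))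

/-- **The centralizer of a non-trivial automorphism.** -/
theorem fix_cases [IsSimpleGroup K] {α : MulAut K} (hα : α ≠ 1) :
    ¬ p ∣ Nat.card (fixS α) ∨ (∃ P₀ : Sylow p K, (∀ P : Sylow p K, α • P = P ↔ P = P₀) ∧ fixS α ≤ stabilizer K P₀) ∨
    ∃ (P₀ P₁ : Sylow p K) (k : ℕ), P₁ ≠ P₀ ∧ α • P₀ = P₀ ∧ α • P₁ = P₁ ∧ 1 ≤ k ∧ k < N ∧
      Nat.card ↥(fixS α ⊓ P₀) = p ^ k ∧ 1 + p ^ k ∣ (Q + 1) * h ∧
      Nat.card (fixS α) = (1 + p ^ k) * (p ^ k * Nat.card ↥(fixS α ⊓ (stabilizer K P₀ ⊓ stabilizer K P₁))) := by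
  have hp : p.Prime := Fact.out
  by_cases hd : p ∣ Nat.card (fixS α)
  swap
  · exact Or.inl hd
  right
  obtain ⟨u, hu⟩ := exists_prime_orderOf_dvd_card' p hd
  have hu1 : (u : K) ≠ 1 := by
    intro h1
    rw [show u = 1 from Subtype.ext h1, orderOf_one] at hu
    exact hp.one_lt.ne hu
  have hup : IsPGroup p (zpowers (u : K)) :=
    IsPGroup.of_card (n := 1) (by rw [Nat.card_zpowers, orderOf_coe, hu, pow_one])
  obtain ⟨P₀, hP₀⟩ := hup.exists_le_sylow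
  have huP : (u : K) ∈ P₀ := hP₀ (mem_zpowers _)
  have h0 : α • P₀ = P₀ := H.smul_eq_of_fix huP hu1 (by rw [mem_fixS.1 u.2]; exact huP)
  by_cases h1 : ∃ P₁ : Sylow p K, P₁ ≠ P₀ ∧ α • P₁ = P₁
  · right
    obtain ⟨P₁, hne, h1⟩ := h1
    obtain ⟨k, hkN, hk, h2⟩ := H.two_fix hα hne h0 h1
    have hk0 : k ≠ 0 := by
      intro h3
      rw [h3, pow_zero, card_eq_one] at hk
      have h4 : (u : K) ∈ fixS α ⊓ P₀ := ⟨u.2, huP⟩
      rw [hk, mem_bot] at h4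
      exact hu1 h4
    exact ⟨P₀, P₁, k, hne, h0, h1, Nat.pos_of_ne_zero hk0, hkN, hk, h2.resolve_left hk0⟩
  · left
    push Not at h1
    have h2 : ∀ P : Sylow p K, α • P = P → P = P₀ := fun P hP => by
      by_contra hne
      exact h1 P hne hP
    refine ⟨P₀, fun P => ⟨h2 P, fun h3 => h3 ▸ h0⟩, fun x hx => h2 _ ?_⟩
    rw [smul_smul_sylow, mem_fixS.1 hx, h0]

theorem card_le_h {P₀ P₁ : Sylow p K} (hne : P₁ ≠ P₀) (X : Subgroup K) :
    Nat.card ↥(X ⊓ (stabilizer K P₀ ⊓ stabilizer K P₁)) ≤ h := by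
  rw [← H.card_two hne]
  exact card_le_of_le inf_le_right

theorem le_of_not_dvd {X : Subgroup K} (hX : ¬ p ∣ Nat.card X) : Nat.card X ∣ (Q + 1) * h := by
  have h2 : Nat.card X ∣ Nat.card K := card_subgroup_dvd_card _
  rw [H.ord] at h2
  refine Nat.Coprime.dvd_of_dvd_mul_left ?_ h2
  rw [H.pow]
  exact Nat.Coprime.pow_right _ (((Fact.out : p.Prime).coprime_iff_not_dvd.2 hX).symm)

theorem h_pos : 0 < h := by
  have h1 : 0 < Nat.card K := Nat.card_pos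
  rw [H.ord] at h1
  exact Nat.pos_of_ne_zero fun h2 => by simp [h2] at h1

/-- all class sizes are at least `Q` -/
theorem fix_bound [IsSimpleGroup K] (hk : ∀ k, 1 ≤ k → k < N → 1 + p ^ k ∣ (Q + 1) * h → (1 + p ^ k) * p ^ k ≤ Q + 1)
    {α : MulAut K} (hα : α ≠ 1) : Q * Nat.card (fixS α) ≤ Nat.card K := by
  rw [H.ord]
  refine Nat.mul_le_mul_left _ ?_
  rcases H.fix_cases hα with h1 | ⟨P₀, -, h1⟩ | ⟨P₀, P₁, k, hne, -, -, h1, h2, -, h3, h4⟩
  · exact Nat.le_of_dvd (Nat.mul_pos (by omega) H.h_pos) (H.le_of_not_dvd h1)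
  · refine (card_le_of_le h1).trans ?_
    rw [H.card_stab]
    exact Nat.mul_le_mul_right _ (by omega)
  · rw [h4, ← mul_assoc]
    exact Nat.mul_le_mul (hk k h1 h2 h3) (H.card_le_h hne _)

/-- **The stabilizer of a Sylow subgroup** -/
theorem four_of_par [IsSimpleGroup K] (hK : ¬ IsMulCommutative K) {S : Subgroup (MulAut K)} {P₀ : Sylow p K}
    (hS : ∀ s ∈ S, s • P₀ = P₀) {a f : ℕ} (ha : ∀ k, k < N → (k = 0 ∨ 1 + p ^ k ∣ (Q + 1) * h) → p ^ k ≤ a)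
    (hf : Nat.card (Out K) ≤ f) (hlt : f * h * a ^ 2 < Q ^ 2) : Four (InnG K) S := by
  classical
  have hfin := H.finite_sylow
  obtain ⟨P₁, hne⟩ := H.exists_ne P₀
  let D : Subgroup (MulAut K) := S ⊓ stabilizer (MulAut K) P₁
  have hD : Nat.card D ≤ f * h := by
    refine (card_le_out hK D).trans ?_
    rw [mul_comm]
    refine Nat.mul_le_mul hf ?_
    rw [← H.card_two hne]
    exact card_le_of_le fun x hx => ⟨hS _ hx.1, hx.2⟩
  have hex : ∃ z : {P : Sylow p K // P ≠ P₀} × {P : Sylow p K // P ≠ P₀},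
      ∀ d : D, (d : MulAut K) • z.1.1 = z.1.1 → (d : MulAut K) • z.2.1 = z.2.1 → (d : MulAut K) = 1 := by
    by_contra hcon
    push Not at hcon
    have h1 := card_le_of_cover (fun (d : D) (z : {P : Sylow p K // P ≠ P₀} × {P : Sylow p K // P ≠ P₀}) =>
      (d : MulAut K) • z.1.1 = z.1.1 ∧ (d : MulAut K) • z.2.1 = z.2.1 ∧ (d : MulAut K) ≠ 1) hcon (c := a ^ 2) (by
        intro d
        by_cases hd : (d : MulAut K) = 1
        · rw [Nat.card_eq_zero.2 (Or.inl ⟨fun z => z.2.2.2 hd⟩)]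
          exact Nat.zero_le _
        obtain ⟨k, hkN, hk, h2⟩ := H.two_fix hd hne (hS _ d.2.1) d.2.2
        have h3 : Nat.card {P : Sylow p K // P ≠ P₀ ∧ (d : MulAut K) • P = P} ≤ a := by
          rw [H.card_fixed hne (hS _ d.2.1) d.2.2, hk]
          exact ha k hkN (h2.imp id fun h4 => h4.1)
        refine le_trans (Nat.card_le_card_of_injective (fun z =>
          ((⟨z.1.1.1, z.1.1.2, z.2.1⟩, ⟨z.1.2.1, z.1.2.2, z.2.2.1⟩) :
            {P : Sylow p K // P ≠ P₀ ∧ (d : MulAut K) • P = P} ×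
              {P : Sylow p K // P ≠ P₀ ∧ (d : MulAut K) • P = P})) ?_) ?_
        · intro z z' hz
          exact Subtype.ext (Prod.ext (Subtype.ext (congrArg (fun w => w.1.1) hz))
            (Subtype.ext (congrArg (fun w => w.2.1) hz)))
        · rw [Nat.card_prod, pow_two]
          exact Nat.mul_le_mul h3 h3)
    rw [Nat.card_prod, H.card_ne, ← pow_two] at h1
    have h2 := Nat.mul_le_mul_right (a ^ 2) hD
    omega
  obtain ⟨⟨⟨P₂, hP₂⟩, ⟨P₃, hP₃⟩⟩, hz⟩ := hex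
  have key : ∀ P : Sylow p K, ∃ x ∈ InnG K, ∀ s : MulAut K, x⁻¹ * s * x ∈ S → s • P = P := by
    intro P
    obtain ⟨x, rfl⟩ := _root_.MulAction.exists_smul_eq K P₀ P
    refine ⟨MulAut.conj x, ⟨x, rfl⟩, fun s hs => ?_⟩
    have h1 := hS _ hs
    rw [mul_smul, mul_smul, inv_smul_eq_iff] at h1
    exact h1
  obtain ⟨x₁, a1, b1⟩ := key P₁
  obtain ⟨x₂, a2, b2⟩ := key P₂
  obtain ⟨x₃, a3, b3⟩ := key P₃
  exact ⟨x₁, a1, x₂, a2, x₃, a3, fun s hs c1 c2 c3 => hz ⟨s, hs, b1 s c1⟩ (b2 s c2) (b3 s c3)⟩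

theorem good_of_par [IsSimpleGroup K] (hK : ¬ IsMulCommutative K) {S : Subgroup (MulAut K)} {P₀ : Sylow p K}
    (hS : ∀ s ∈ S, s • P₀ = P₀) {a f : ℕ} (ha : ∀ k, k < N → (k = 0 ∨ 1 + p ^ k ∣ (Q + 1) * h) → p ^ k ≤ a)
    (hf : Nat.card (Out K) ≤ f) (hlt : f * h * a ^ 2 < Q ^ 2) (h6 : 6 ≤ Q) : Good (InnG K) S := by
  refine good_of_four hK (H.four_of_par hK hS ha hf hlt) ?_
  have h1 : Nat.card (innS S) ≤ Q * h := by
    rw [← H.card_stab P₀]
    exact card_le_of_le fun x hx => hS _ hx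
  rw [H.ord]
  nlinarith only [h6, h1]

omit [Fact p.Prime] [Finite K] in
/-- if the inner part of `S` lies in the normalizer of `P₀` and meets `P₀`, then `S` fixes `P₀` -/
theorem fix_of_le {S : Subgroup (MulAut K)} {P₀ : Sylow p K} (h1 : innS S ≤ stabilizer K P₀) {u : K}
    (hu : u ∈ innS S) (hu0 : u ∈ P₀) (hu1 : u ≠ 1) : ∀ s ∈ S, s • P₀ = P₀ := fun s hs =>
  H.smul_eq_of_fix hu0 hu1 (mem_of_smul_eq (apply_mem_smul s hu0) (h1 (apply_mem_innS hs hu)))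

/-- a subgroup of the normalizer of `P₀` meeting `P₀` trivially -/
theorem card_le_of_inf_bot {X : Subgroup K} {P₀ : Sylow p K} (h1 : X ≤ stabilizer K P₀)
    (h2 : ∀ u ∈ X, u ∈ P₀ → u = 1) : Nat.card X ≤ h := by
  have h3 : Nat.card (P₀ × X) ≤ Nat.card (stabilizer K P₀) := by
    refine Nat.card_le_card_of_injective (fun z : P₀ × X =>
      (⟨(z.1 : K) * z.2, mul_mem (smul_self_of_mem z.1.2) (h1 z.2.2)⟩ : stabilizer K P₀)) ?_
    rintro ⟨u, t⟩ ⟨v, s⟩ huv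
    have h4 : (u : K) * t = v * s := congrArg Subtype.val huv
    have h5 : (s : K) * (t : K)⁻¹ = (v : K)⁻¹ * u := by
      rw [eq_inv_mul_iff_mul_eq, ← mul_assoc, ← h4, mul_inv_cancel_right]
    have h6 := h2 _ (mul_mem s.2 (inv_mem t.2)) (h5 ▸ mul_mem (inv_mem v.2) u.2)
    have h7 : (t : K) = s := (mul_inv_eq_one.1 h6).symm
    rw [h7] at h4
    exact Prod.ext (Subtype.ext (mul_right_cancel h4)) (Subtype.ext h7)
  rw [Nat.card_prod, H.cardP, H.card_stab] at h3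
  exact Nat.le_of_mul_le_mul_left h3 (by have := H.one_lt; omega)

end TI

end Cfsg.Agent.SB.R1
end

-- part: SB/R1/Zass
section
/-!
# S5765: tools for the rank one groups, the Zassenhaus case (helper61)

* `exists_minK` : the minimal normal subgroup of `S` inside `Inn K`, pulled back to `K`;
* `TI.fix_of_pgroup` : an `S`-invariant `p`-subgroup gives a fixed Sylow subgroup;
* `Fpf p K` : elements of prime order `≠ p` centralize no non-trivial `p`-element; `TI.fix_cases_fpf`,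
  `TI.card_norm_le`.
-/

set_option autoImplicit false
set_option linter.unusedSectionVars false

namespace Cfsg.Agent.SB.R1

open Subgroup MulAction Cfsg Cfsg.Agent.H786.FC
open scoped Pointwise

theorem ne_one_of_prime' {A : Type*} [Group A] {α : A} (h : (orderOf α).Prime) : α ≠ 1 := by
  rintro rfl
  rw [orderOf_one] at h
  exact Nat.not_prime_one h

theorem exists_prime_pow {A : Type*} [Group A] [Finite A] {t : A} (ht : t ≠ 1) :
    ∃ n : ℕ, (orderOf (t ^ n)).Prime := by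
  have h1 : orderOf t ≠ 1 := fun h => ht (orderOf_eq_one_iff.1 h)
  obtain ⟨l, hl, hd⟩ := Nat.exists_prime_and_dvd h1
  exact ⟨orderOf t / l, by rw [orderOf_pow_orderOf_div (orderOf_pos t).ne' hd]; exact hl⟩

/-- a subgroup moving `a` inside a set with two elements -/
theorem card_le_two_mul {G Ω : Type*} [Group G] [Finite G] [MulAction G Ω] (N : Subgroup G) {a b : Ω}
    (h : ∀ g ∈ N, g • a = a ∨ g • a = b) : Nat.card N ≤ 2 * Nat.card ↥(N ⊓ stabilizer G a) := by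
  have h1 := (stabilizer N a).card_mul_index
  have h2 : Nat.card (stabilizer N a) = Nat.card ↥(N ⊓ stabilizer G a) :=
    Nat.card_congr ⟨fun x => ⟨x.1.1, x.1.2, x.2⟩, fun x => ⟨⟨x.1, x.2.1⟩, x.2.2⟩, fun _ => rfl, fun _ => rfl⟩
  have h3 : (stabilizer N a).index ≤ 2 := by
    rw [index_stabilizer]
    refine (Set.ncard_le_ncard (t := {a, b}) ?_ (Set.toFinite _)).trans ?_
    · rintro _ ⟨g, rfl⟩
      exact h g g.2
    · exact (Set.ncard_insert_le _ _).trans (by simp)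
  rw [← h1, h2, mul_comm]
  exact Nat.mul_le_mul_right _ h3

/-- a subgroup of exponent `r` of a group with cyclic Sylow `r`-subgroups -/
theorem eq_zpowers_of_cyclic {K : Type*} [Group K] [Finite K] {r : ℕ} (hr : r.Prime)
    (hc : ∀ P : Sylow r K, IsCyclic P) {X : Subgroup K} (hX : ∀ x ∈ X, x ^ r = 1) {y : K} (hy : y ∈ X)
    (hy1 : y ≠ 1) : orderOf y = r ∧ X = zpowers y := by
  have _ : Fact r.Prime := ⟨hr⟩
  have ho : orderOf y = r := orderOf_eq_prime (hX y hy) hy1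
  refine ⟨ho, ?_⟩
  have hp : IsPGroup r X := fun x => ⟨1, Subtype.ext (by rw [pow_one]; exact hX x x.2)⟩
  obtain ⟨P, hP⟩ := hp.exists_le_sylow
  have := hc P
  have hcX : IsCyclic X := isCyclic_of_injective (inclusion hP) (inclusion_injective hP)
  obtain ⟨g, hg⟩ := hcX.exists_ofOrder_eq_natCard
  have h1 : orderOf g ∣ r := orderOf_dvd_of_pow_eq_one (Subtype.ext (hX g g.2))
  symm
  refine eq_of_le_of_card_ge (zpowers_le.2 hy) ?_
  rw [Nat.card_zpowers, ho, ← hg]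
  exact Nat.le_of_dvd hr.pos h1

section minK

variable {K : Type*} [Group K] [Finite K] [IsSimpleGroup K]

/-- the minimal normal subgroup of `S` inside `Inn K` -/
theorem exists_minK (hK : ¬ IsMulCommutative K) {S : Subgroup (MulAut K)} (hS : Group.IsSolvable S)
    (hm : MaxInv (InnG K) S) :
    ∃ Y : Subgroup K, Y ≠ ⊥ ∧ Y ≤ innS S ∧ (∀ s ∈ S, ∀ y ∈ Y, s y ∈ Y) ∧ (∀ x ∈ Y, ∀ y ∈ Y, x * y = y * x) ∧
      (∃ r : ℕ, r.Prime ∧ ∀ y ∈ Y, y ^ r = 1) ∧ (∀ v ∈ fit S, ∀ y ∈ Y, v y = y) := by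
  obtain ⟨X, h1, h2, h3, -, h4, ⟨r, hr, h5⟩, -, h6⟩ := hm.exists_min (as_inn hK) hS
  refine ⟨X.comap MulAut.conj, fun h => h2 ?_, fun y hy => (h1 hy).1, fun s hs y hy => ?_, fun x hx y hy => ?_,
    ⟨r, hr, fun y hy => ?_⟩, ?_⟩
  · rw [eq_bot_iff]
    intro x hx
    obtain ⟨y, rfl⟩ := (h1 hx).2
    have h7 : y ∈ X.comap MulAut.conj := hx
    rw [h, mem_bot] at h7
    rw [h7, map_one]
    exact one_mem _
  · rw [mem_comap, ← conj_conj]
    exact h3 s hs _ hy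
  · apply conj_injective hK
    rw [map_mul, map_mul]
    exact h4 _ hx _ hy
  · apply conj_injective hK
    rw [map_pow, map_one]
    exact h5 _ hy
  · rintro _ ⟨v, hv, rfl⟩ y hy
    apply conj_injective hK
    rw [← conj_conj, mul_inv_eq_iff_eq_mul]
    exact h6 v hv _ hy

/-- the normalizer in `K` of a non-trivial proper `S`-invariant subgroup lies in `S` -/
theorem norm_le_innS (hK : ¬ IsMulCommutative K) {S : Subgroup (MulAut K)} (hm : MaxInv (InnG K) S)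
    {Y : Subgroup K} (h0 : Y ≠ ⊥) (h1 : Y ≠ ⊤) (hY : ∀ s ∈ S, ∀ y ∈ Y, s y ∈ Y) :
    normalizer (Y : Set K) ≤ innS S := by
  intro t ht
  refine hm.mem_of_normalizes (as_inn hK) (X := Y.map MulAut.conj) ?_ ?_ ?_ ⟨t, rfl⟩ ?_
  · exact fun h => h0 ((map_eq_bot_iff_of_injective _ (conj_injective hK)).1 h)
  · intro h
    apply h1
    rw [eq_top_iff]
    intro x _
    exact (mem_map_iff_mem (conj_injective hK)).1 (h ⟨x, rfl⟩)
  · rintro s hs _ ⟨y, hy, rfl⟩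
    exact ⟨s y, hY s hs y hy, (conj_conj s y).symm⟩
  · rintro _ ⟨y, hy, rfl⟩
    exact ⟨t * y * t⁻¹, (mem_normalizer_iff.1 ht y).1 hy, by simp only [_root_.map_mul, _root_.map_inv]⟩

end minK

theorem innS_le_norm {K : Type*} [Group K] [Finite K] {S : Subgroup (MulAut K)} {Y : Subgroup K}
    (hY : ∀ s ∈ S, ∀ y ∈ Y, s y ∈ Y) : innS S ≤ normalizer (Y : Set K) :=
  le_normalizer_of_conj fun _ hs y hy => hY _ hs y hy

/-- elements of prime order `≠ p` centralize no non-trivial `p`-element -/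
def Fpf (p : ℕ) (K : Type*) [Group K] : Prop :=
  ∀ t : K, (orderOf t).Prime → orderOf t ≠ p → ∀ P : Sylow p K, ∀ u ∈ P, t * u = u * t → u = 1

variable {p : ℕ} {K : Type*} [Group K] {Q h N : ℕ}

namespace TI

variable (H : TI p K Q h N)
include H

variable [Fact p.Prime] [Finite K]

theorem fix_of_pgroup {S : Subgroup (MulAut K)} {Y : Subgroup K} (h0 : Y ≠ ⊥) (hp : IsPGroup p Y)
    (hY : ∀ s ∈ S, ∀ y ∈ Y, s y ∈ Y) : ∃ P₀ : Sylow p K, Y ≤ P₀ ∧ ∀ s ∈ S, s • P₀ = P₀ := by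
  obtain ⟨P, hP⟩ := hp.exists_le_sylow
  obtain ⟨⟨y, hy⟩, hy1⟩ := ne_bot_iff_exists_ne_one.1 h0
  exact ⟨P, hP, fun s hs => H.smul_eq_of_fix (hP hy) (fun h => hy1 (Subtype.ext h)) (hP (hY s hs y hy))⟩

/-- an element fixing two Sylow subgroups has order prime to `p` -/
theorem order_ne_of_two {P₀ P₁ : Sylow p K} (hne : P₁ ≠ P₀) {t : K} (h0 : t • P₀ = P₀) (h1 : t • P₁ = P₁) :
    orderOf t ≠ p := by
  intro ho
  have hp : p.Prime := Fact.out
  have hup : IsPGroup p (zpowers t) := IsPGroup.of_card (n := 1) (by rw [Nat.card_zpowers, ho, pow_one])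
  obtain ⟨P, hP⟩ := hup.exists_le_sylow
  have ht : t ∈ P := hP (mem_zpowers t)
  have ht1 : t ≠ 1 := ne_one_of_prime' (ho ▸ hp)
  exact hne (H.eq_of_mem (mem_of_smul_eq ht h1) (mem_of_smul_eq ht h0) ht1)

/-- an automorphism of prime order `≠ p` fixing one Sylow subgroup fixes a second one -/
theorem exists_second {α : MulAut K} (hα : (orderOf α).Prime) (hp : orderOf α ≠ p) {P₀ : Sylow p K}
    (h0 : α • P₀ = P₀) : ∃ P₁ : Sylow p K, P₁ ≠ P₀ ∧ α • P₁ = P₁ := by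
  classical
  have := H.finite_sylow
  have _ : Fact (orderOf α).Prime := ⟨hα⟩
  have hpg : IsPGroup (orderOf α) (zpowers α) := IsPGroup.of_card (n := 1) (by rw [Nat.card_zpowers, pow_one])
  have h1 := hpg.card_modEq_card_fixedPoints (Sylow p K)
  by_contra hcon
  push Not at hcon
  have h2 : fixedPoints (zpowers α) (Sylow p K) = {P₀} := by
    ext P
    constructor
    · intro hP
      by_contra hne
      exact hcon P hne (hP ⟨α, mem_zpowers α⟩)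
    · rintro rfl ⟨_, n, rfl⟩
      exact (stabilizer (MulAut K) P).zpow_mem h0 n
  rw [h2, H.count, Nat.card_unique] at h1
  have h3 : orderOf α ∣ Q := by
    have := (Nat.modEq_iff_dvd' (by omega)).1 h1.symm
    simpa only [_root_.add_tsub_cancel_left] using this
  rw [H.pow] at h3
  exact hp ((Nat.prime_dvd_prime_iff_eq hα Fact.out).1 (hα.dvd_of_dvd_pow h3))

/-- an automorphism of prime order not dividing `Q + 1` fixes a Sylow subgroup -/
theorem exists_first {α : MulAut K} (hα : (orderOf α).Prime) (hp : ¬ orderOf α ∣ Q + 1) :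
    ∃ P₀ : Sylow p K, α • P₀ = P₀ := by
  have := H.finite_sylow
  have _ : Fact (orderOf α).Prime := ⟨hα⟩
  have hpg : IsPGroup (orderOf α) (zpowers α) := IsPGroup.of_card (n := 1) (by rw [Nat.card_zpowers, pow_one])
  obtain ⟨P, hP⟩ := hpg.nonempty_fixed_point_of_prime_not_dvd_card (Sylow p K) (by rwa [H.count, add_comm])
  exact ⟨P, hP ⟨α, mem_zpowers α⟩⟩

variable (hf : Fpf p K)
include hf

theorem eq_one_of_two {P₀ P₁ : Sylow p K} (hne : P₁ ≠ P₀) {t : K} (h0 : t • P₀ = P₀) (h1 : t • P₁ = P₁)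
    {P : Sylow p K} {u : K} (hu : u ∈ P) (hu1 : u ≠ 1) (h : t * u = u * t) : t = 1 := by
  by_contra ht
  obtain ⟨n, hn⟩ := exists_prime_pow ht
  exact hu1 (hf _ hn (H.order_ne_of_two hne ((stabilizer K P₀).pow_mem h0 n) ((stabilizer K P₁).pow_mem h1 n)) P u hu
    (Commute.pow_left h n))

/-- non-trivial elements of `K` fix at most two Sylow subgroups -/
theorem fix_le_two {P₀ P₁ : Sylow p K} (hne : P₁ ≠ P₀) {t : K} (ht : t ≠ 1) (h0 : t • P₀ = P₀) (h1 : t • P₁ = P₁)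
    {P : Sylow p K} (hP : t • P = P) : P = P₀ ∨ P = P₁ := by
  by_cases h2 : P = P₀
  · exact Or.inl h2
  right
  obtain ⟨u, hu, rfl⟩ := H.trans hne h2
  by_cases hu1 : u = 1
  · rw [hu1, one_smul]
  exfalso
  have h3 : t * u * t⁻¹ ∈ P₀ := (mem_normalizer_iff.1 (Sylow.smul_eq_iff_mem_normalizer.1 h0) u).1 hu
  have h4 : t * u * t⁻¹ = u := by
    refine H.smul_inj hne h3 hu ?_
    rw [mul_smul, mul_smul, inv_smul_eq_iff.2 h1.symm, hP]
  exact ht (H.eq_one_of_two hf hne h0 h1 hu hu1 (mul_inv_eq_iff_eq_mul.1 h4))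

/-- the normalizer of a cyclic group fixing two Sylow subgroups -/
theorem card_norm_le {P₀ P₁ : Sylow p K} (hne : P₁ ≠ P₀) {y : K} (hy : y ≠ 1) (h0 : y • P₀ = P₀) (h1 : y • P₁ = P₁) :
    Nat.card (normalizer ((zpowers y : Subgroup K) : Set K)) ≤ 2 * h := by
  have key : ∀ g ∈ normalizer ((zpowers y : Subgroup K) : Set K), ∀ P : Sylow p K, y • P = P →
      g • P = P₀ ∨ g • P = P₁ := by
    intro g hg P hP
    refine H.fix_le_two hf hne hy h0 h1 ?_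
    have h2 : g⁻¹ * y * g⁻¹⁻¹ ∈ zpowers y := (mem_normalizer_iff.1 (inv_mem hg) y).1 (mem_zpowers y)
    have h3 : (g⁻¹ * y * g⁻¹⁻¹) • P = P := (zpowers_le.2 (show y ∈ stabilizer K P from hP)) h2
    rwa [inv_inv, mul_smul, mul_smul, inv_smul_eq_iff] at h3
  refine (card_le_two_mul _ fun g hg => key g hg P₀ h0).trans (Nat.mul_le_mul_left _ ?_)
  rw [← H.card_two hne]
  refine card_le_of_le fun g hg => ⟨hg.2, (key g hg.1 P₁ h1).resolve_left fun h2 => hne ?_⟩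
  exact smul_left_cancel g (h2.trans (show g • P₀ = P₀ from hg.2).symm)

theorem card_norm_le' (hK : ¬ IsMulCommutative K) [IsSimpleGroup K] {y : K} (hy : (orderOf y).Prime)
    (hp : orderOf y ≠ p) (hQ : ¬ orderOf y ∣ Q + 1) :
    Nat.card (normalizer ((zpowers y : Subgroup K) : Set K)) ≤ 2 * h := by
  have ho : orderOf (MulAut.conj y) = orderOf y := orderOf_injective _ (conj_injective hK) y
  obtain ⟨P₀, h0⟩ := H.exists_first (α := MulAut.conj y) (ho ▸ hy) (ho ▸ hQ)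
  obtain ⟨P₁, hne, h1⟩ := H.exists_second (α := MulAut.conj y) (ho ▸ hy) (ho ▸ hp) h0
  exact H.card_norm_le hf hne (ne_one_of_prime' hy) h0 h1

/-- the centralizer of `α` in the two point stabilizer acts freely on the centralizer of `α` in `P₀` -/
theorem card_fix_two_lt {α : MulAut K} {P₀ P₁ : Sylow p K} (hne : P₁ ≠ P₀) (h1 : 1 < Nat.card ↥(fixS α ⊓ P₀)) :
    Nat.card ↥(fixS α ⊓ (stabilizer K P₀ ⊓ stabilizer K P₁)) + 1 ≤ Nat.card ↥(fixS α ⊓ P₀) := by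
  classical
  have := Finite.one_lt_card_iff_nontrivial.1 h1
  obtain ⟨u, hu⟩ := _root_.exists_ne (1 : ↥(fixS α ⊓ P₀))
  have hu1 : (u : K) ≠ 1 := fun h2 => hu (Subtype.ext h2)
  rw [← Finite.card_option]
  let f : Option ↥(fixS α ⊓ (stabilizer K P₀ ⊓ stabilizer K P₁)) → ↥(fixS α ⊓ P₀) := fun o =>
    match o with
    | none => 1
    | some t => ⟨(t : K) * u * (t : K)⁻¹, mem_inf.2 ⟨mul_mem (mul_mem t.2.1 u.2.1) (inv_mem t.2.1),
        (mem_normalizer_iff.1 (Sylow.smul_eq_iff_mem_normalizer.1 t.2.2.1) u).1 u.2.2⟩⟩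
  refine Nat.card_le_card_of_injective f ?_
  have hne1 : ∀ t, f (some t) ≠ 1 := fun t h2 => hu1 (conj_eq_one_iff.1 (congrArg Subtype.val h2))
  rintro (_ | t) (_ | s) hts
  · rfl
  · exact absurd hts.symm (hne1 s)
  · exact absurd hts (hne1 t)
  · have h2 : (t : K) * u * (t : K)⁻¹ = s * u * (s : K)⁻¹ := congrArg Subtype.val hts
    have h3 : ((s : K)⁻¹ * t) * u = u * ((s : K)⁻¹ * t) := by
      calc ((s : K)⁻¹ * t) * u = (s : K)⁻¹ * ((t : K) * u * (t : K)⁻¹) * t := by group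
        _ = _ := by rw [h2]; group
    have h5 : (s : K)⁻¹ * t ∈ stabilizer K P₀ ⊓ stabilizer K P₁ :=
      mul_mem (inv_mem (mem_inf.1 s.2).2) (mem_inf.1 t.2).2
    have h4 := H.eq_one_of_two hf hne h5.1 h5.2 u.2.2 hu1 h3
    rw [Subtype.ext (inv_mul_eq_one.1 h4)]

/-- **The centralizer of a non-trivial automorphism of a Zassenhaus group.** -/
theorem fix_cases_fpf [IsSimpleGroup K] (hK : ¬ IsMulCommutative K) {α : MulAut K} (hα : α ≠ 1) :
    ¬ p ∣ Nat.card (fixS α) ∨ Nat.card (fixS α) ≤ Q ∨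
    ∃ k : ℕ, 1 ≤ k ∧ k < N ∧ 1 + p ^ k ∣ (Q + 1) * h ∧ Nat.card (fixS α) ≤ (1 + p ^ k) * (p ^ k * (p ^ k - 1)) := by
  have hp : p.Prime := Fact.out
  rcases H.fix_cases hα with h1 | ⟨P₀, h1, h2⟩ | ⟨P₀, P₁, k, hne, -, -, h1, h2, h3, h4, h5⟩
  · exact Or.inl h1
  · right; left
    rw [← H.cardP P₀]
    refine card_le_of_le fun t ht => ?_
    have hpg : IsPGroup p (fixS α) := by
      rw [IsPGroup.iff_card]
      refine ⟨_, Nat.eq_prime_pow_of_unique_prime_dvd Nat.card_pos.ne' fun {l} hl hd => ?_⟩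
      by_contra hlp
      have _ : Fact l.Prime := ⟨hl⟩
      obtain ⟨s, hs⟩ := exists_prime_orderOf_dvd_card' l hd
      have hs' : orderOf (s : K) = l := by rw [orderOf_coe, hs]
      have ho : orderOf (MulAut.conj (s : K)) = l := (orderOf_injective _ (conj_injective hK) _).trans hs'
      have hs0 : (s : K) • P₀ = P₀ := h2 s.2
      obtain ⟨P₁, hne, hs1⟩ := H.exists_second (α := MulAut.conj (s : K)) (ho ▸ hl) (ho ▸ hlp) hs0
      have h3 : (s : K) • α • P₁ = α • P₁ := by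
        have h4 := smul_smul_sylow α s P₁
        rw [mem_fixS.1 s.2] at h4
        rw [← h4]
        exact congrArg (α • ·) hs1
      rcases H.fix_le_two hf hne (ne_one_of_prime' (hs' ▸ hl)) hs0 hs1 h3 with h4 | h4
      · exact hne (smul_left_cancel α (h4.trans ((h1 P₀).2 rfl).symm))
      · exact hne ((h1 P₁).1 h4)
    obtain ⟨P, hP⟩ := hpg.exists_le_sylow
    exact mem_of_smul_eq (hP ht) (h2 ht)
  · right; right
    refine ⟨k, h1, h2, h4, ?_⟩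
    rw [h5]
    refine Nat.mul_le_mul_left _ (Nat.mul_le_mul_left _ ?_)
    have h6 := H.card_fix_two_lt hf (α := α) hne (by rw [h3]; exact Nat.one_lt_pow (by omega) hp.one_lt)
    omega

end TI

end Cfsg.Agent.SB.R1
end
end

-- part: SB/R1/Sz
section
prune_inst 0x30107104142200000000001200002004700001900020080079800b420a06f160000021004c800800104022800000000000100040000000000a000000000500001000000011340d00260000002005100000000000000000000000000000041000000000000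
set_option linter.all false
open scoped Cfsg.Agent.FastGrp

/-!
# S5765: the Suzuki groups (helper61)
-/

set_option autoImplicit false

namespace Cfsg.Agent.SB.R1

open Subgroup MulAction Cfsg Cfsg.Agent.H786.FC

theorem card_out_congr {K K' : Type*} [Group K] [Group K'] (e : K ≃* K') : Nat.card (Out K) = Nat.card (Out K') := by
  change (InnG K).index = (InnG K').index
  rw [← congr_innG e]
  exact (index_map_equiv _ (MulAut.congr e)).symm

/-- a non-trivial subgroup all of whose Sylow subgroups are cyclic normalizes a subgroup of prime order -/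
theorem exists_cyc_normal {K : Type*} [Group K] [Finite K] {C : Subgroup K} (h0 : C ≠ ⊥)
    (hc : ∀ r : ℕ, r.Prime → r ∣ Nat.card C → ∀ P : Sylow r K, IsCyclic P) :
    ∃ y ∈ C, (orderOf y).Prime ∧ C ≤ normalizer ((zpowers y : Subgroup K) : Set K) := by
  have hZ : IsZGroup C := ⟨fun r hr P => by
    have _ : Fact r.Prime := ⟨hr⟩
    by_cases hd : r ∣ Nat.card C
    · obtain ⟨P', hP'⟩ := (P.isPGroup'.map C.subtype).exists_le_sylow
      have := hc r hr hd P'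
      have h1 : IsCyclic ((P : Subgroup C).map C.subtype) := isCyclic_of_injective (inclusion hP') (inclusion_injective hP')
      exact isCyclic_of_surjective ((P : Subgroup C).equivMapOfInjective _ C.subtype_injective).symm
        (MulEquiv.surjective _)
    · obtain ⟨n, hn⟩ := P.isPGroup'.exists_card_eq
      have h1 : n = 0 := by
        by_contra h2
        exact hd ((dvd_pow_self r h2).trans (hn ▸ card_subgroup_dvd_card _))
      rw [h1, pow_zero] at hn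
      have := (Nat.card_eq_one_iff_unique.1 hn).1
      exact isCyclic_of_subsingleton⟩
  obtain ⟨X, h1, h2, h3, -, -, ⟨r, hr, h4⟩, -, -⟩ := exists_min (S := C) inferInstance h0 le_rfl
    fun s hs y hy => mul_mem (mul_mem hs hy) (inv_mem hs)
  obtain ⟨⟨y, hy⟩, hy1⟩ := ne_bot_iff_exists_ne_one.1 h2
  have hy1' : y ≠ 1 := fun h => hy1 (Subtype.ext h)
  have _ : Fact r.Prime := ⟨hr⟩
  have ho : orderOf y = r := orderOf_eq_prime (h4 y hy) hy1'
  obtain ⟨-, h5⟩ := eq_zpowers_of_cyclic hr (hc r hr (ho ▸ orderOf_dvd_natCard C (h1 hy))) h4 hy hy1'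
  exact ⟨y, h1 hy, ho ▸ hr, h5 ▸ le_normalizer_of_conj h3⟩

theorem cube_bound (a : ℕ) : (1 + a) * (a * (a - 1)) ≤ a ^ 3 := by
  rcases a with _ | a
  · simp
  · rw [Nat.add_sub_cancel]
    nlinarith

theorem sz_arith {n k : ℕ} (hn : 3 ≤ n) (h0 : 1 ≤ k) (hk : k < 2 * n)
    (h1 : 1 + 2 ^ k ∣ ((2 ^ n) ^ 2 + 1) * (2 ^ n - 1)) : (2 ^ k) ^ 3 ≤ (2 ^ n) ^ 2 := by
  rw [← pow_mul, ← pow_mul]
  refine Nat.pow_le_pow_right (by norm_num) ?_
  have h2 : ((2 ^ n) ^ 2 + 1) * (2 ^ n - 1) ∣ 2 ^ (2 * (2 * n)) - 1 := by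
    have e1 : 2 ^ (2 * (2 * n)) = ((2 ^ n) ^ 2) ^ 2 := by
      rw [← pow_mul, ← pow_mul]
      congr 1
      ring
    have e2 : ((2 ^ n) ^ 2) ^ 2 - 1 = ((2 ^ n) ^ 2 + 1) * ((2 ^ n) ^ 2 - 1) := by
      rw [← Nat.sq_sub_sq]
    rw [e1, e2]
    refine Nat.mul_dvd_mul_left _ ?_
    simpa only [_root_.one_pow] using Nat.sub_dvd_pow_sub_pow (2 ^ n) 1 2
  obtain ⟨t, ht⟩ := dvd_of_one_add_pow_dvd (by norm_num) h0 (h1.trans h2)
  have h3 : 3 ≤ t := by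
    by_contra hcon
    have h4 : t = 0 ∨ t = 1 ∨ t = 2 := by omega
    rcases h4 with rfl | rfl | rfl
    · omega
    · omega
    · obtain rfl : n = k := by omega
      have h8 : 8 ≤ 2 ^ n := le_trans (by norm_num) (Nat.pow_le_pow_right (by norm_num) hn)
      obtain ⟨c, hc⟩ : ∃ c, 2 ^ n = c + 3 := ⟨2 ^ n - 3, by omega⟩
      rw [hc] at h1 h8
      have e : ((c + 3) ^ 2 + 1) * (c + 3 - 1) + 4 = (1 + (c + 3)) * (c ^ 2 + 4 * c + 6) := by
        rw [show c + 3 - 1 = c + 2 from rfl]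
        ring
      have h5 : 1 + (c + 3) ∣ 4 := (Nat.dvd_add_right h1).1 (e ▸ dvd_mul_right _ _)
      have := Nat.le_of_dvd (by norm_num) h5
      omega
  nlinarith only [ht, h3]

theorem row_sz_model {F : Type} [Field F] [Fintype F] {m : ℕ} (hm : 1 ≤ m) (hF : Fintype.card F = 2 ^ (2 * m + 1))
    [Finite ↥(Cfsg.Sz F m)] [IsSimpleGroup ↥(Cfsg.Sz F m)] (hna : ¬ IsMulCommutative ↥(Cfsg.Sz F m))
    (hout : Nat.card (Out ↥(Cfsg.Sz F m)) ≤ 2 * m + 1) : Row ↥(Cfsg.Sz F m) := by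
  have h2 : Fact (Nat.Prime 2) := ⟨Nat.prime_two⟩
  obtain ⟨a1, a2, a3, a4⟩ := H452.FprSz.sz_rank hm hF
  have H : TI 2 ↥(Cfsg.Sz F m) ((2 ^ (2 * m + 1)) ^ 2) (2 ^ (2 * m + 1) - 1) (2 * (2 * m + 1)) :=
    ⟨H452.FprSz.sz_ti hm hF, by rw [← pow_mul, mul_comm], a1, a2, a3, a4⟩
  have hf : Fpf 2 ↥(Cfsg.Sz F m) := fun t ht ht2 P u hu h => H452.FprSz.sz_fpf hm hF ht ht2 rfl P hu h
  have hcyc : ∀ r : ℕ, r.Prime → r ≠ 2 → ∀ P : Sylow r ↥(Cfsg.Sz F m), IsCyclic P := fun r hr hr2 P =>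
    haveI : Fact r.Prime := ⟨hr⟩
    S0331.result hm hF hr2 P
  have hnorm := fun k hk l hl hl2 hlk y hy => @H452.FprSz.card_norm_torus F _ _ m hm hF k hk l hl hl2 hlk y hy
  have harith := @sz_arith (2 * m + 1)
  have hfq : 2 * m + 1 ≤ 2 ^ (2 * m + 1) := (Nat.lt_pow_self (by norm_num)).le
  have hq8 : 8 ≤ 2 ^ (2 * m + 1) :=
    calc 8 = 2 ^ 3 := by norm_num
      _ ≤ 2 ^ (2 * m + 1) := Nat.pow_le_pow_right (by norm_num) (by omega)
  have hs : 2 * 2 ^ (m + 1) ≤ 2 ^ (2 * m + 1) := by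
    rw [← pow_succ']
    exact Nat.pow_le_pow_right (by norm_num) (by omega)
  have hs2 : (2 ^ (m + 1)) ^ 2 = 2 * 2 ^ (2 * m + 1) := by
    rw [← pow_mul, ← pow_succ']
    congr 1
    ring
  generalize 2 ^ (m + 1) = s at *
  generalize 2 ^ (2 * m + 1) = q at *
  have hq2 : 8 * q ≤ q ^ 2 := by nlinarith only [hq8]
  have hfac : (q + s + 1) * (q - s + 1) = q ^ 2 + 1 := by
    obtain ⟨c, rfl⟩ : ∃ c, q = c + s := ⟨q - s, by omega⟩
    rw [Nat.add_sub_cancel]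
    linarith only [hs2]
  have hN : ∀ y : ↥(Cfsg.Sz F m), (orderOf y).Prime → orderOf y ≠ 2 →
      Nat.card (normalizer ((zpowers y : Subgroup ↥(Cfsg.Sz F m)) : Set ↥(Cfsg.Sz F m))) ≤ 4 * (q + s + 1) := by
    intro y hy hy2
    by_cases hd : orderOf y ∣ q ^ 2 + 1
    · rw [← hfac] at hd
      rcases (Nat.Prime.dvd_mul hy).1 hd with h1 | h1
      · exact hnorm _ (by simp) _ hy hy2 h1 y rfl
      · exact (hnorm _ (by simp) _ hy hy2 h1 y rfl).trans (by omega)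
    · exact (H.card_norm_le' hf hna hy hy2 hd).trans (by omega)
  have hfix : ∀ α : MulAut ↥(Cfsg.Sz F m), α ≠ 1 → Nat.card (fixS α) ≤ q ^ 2 := by
    intro α hα
    rcases H.fix_cases_fpf hf hna hα with h1 | h1 | ⟨k, h1, h3, h4, h5⟩
    · by_cases h0 : fixS α = ⊥
      · rw [h0, card_bot]
        omega
      obtain ⟨y, hy, hyp, hle⟩ := exists_cyc_normal h0 fun r hr hd => hcyc r hr fun h3 => h1 (h3 ▸ hd)
      refine (card_le_of_le hle).trans ((hN y hyp fun h3 => h1 (h3 ▸ orderOf_dvd_natCard _ hy)).trans ?_)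
      omega
    · exact h1
    · exact h5.trans ((cube_bound _).trans (harith (by omega) h1 h3 h4))
  intro S hS hmax
  obtain ⟨Y, b1, b2, b3, -, ⟨r, hr, b4⟩, -⟩ := exists_minK hna hS hmax
  by_cases hr2 : r = 2
  · subst hr2
    obtain ⟨P₀, -, hP⟩ := H.fix_of_pgroup b1 (fun x => ⟨1, Subtype.ext (by rw [pow_one]; exact b4 x x.2)⟩) b3
    refine H.good_of_par hna hP (a := q) (fun k h3 h4 => ?_) hout ?_ (by omega)
    · rcases Nat.eq_zero_or_pos k with rfl | h0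
      · omega
      have h5 := harith (by omega) h0 h3 (h4.resolve_left h0.ne')
      by_contra hcon
      have h6 : q ^ 3 ≤ (2 ^ k) ^ 3 := Nat.pow_le_pow_left (by omega) 3
      have h7 : q ^ 2 < q ^ 3 := Nat.pow_lt_pow_right (by omega) (by norm_num)
      omega
    · calc (2 * m + 1) * (q - 1) * q ^ 2 < q * q * q ^ 2 :=
            Nat.mul_lt_mul_of_pos_right (Nat.mul_lt_mul_of_le_of_lt hfq (by omega) (by omega)) (by omega)
        _ = _ := by ring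
  · obtain ⟨⟨y, hy⟩, hy1⟩ := ne_bot_iff_exists_ne_one.1 b1
    obtain ⟨ho, hY⟩ := eq_zpowers_of_cyclic hr (hcyc r hr hr2) b4 hy fun h => hy1 (Subtype.ext h)
    have hR : Nat.card (innS S) ≤ 4 * (q + s + 1) :=
      (card_le_of_le (hY ▸ innS_le_norm b3)).trans (hN y (ho ▸ hr) (ho ▸ hr2))
    have h13 : 2 * (4 * (q + s + 1)) ≤ 13 * q := by omega
    refine good_of_fix3 hna hR hout (M := (q ^ 2 + 1) * (q - 1)) (fun α _ hα => ?_) ?_ ?_
    · rw [a4, mul_comm]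
      exact Nat.mul_le_mul_right _ (hfix α (ne_one_of_prime' hα))
    · generalize 4 * (q + s + 1) = r at *
      have h3 : (2 * r) ^ 4 ≤ (13 * q) ^ 4 := Nat.pow_le_pow_left h13 4
      have h4 : (7 * q ^ 3) ^ 3 ≤ (8 * ((q ^ 2 + 1) * (q - 1))) ^ 3 := by
        refine Nat.pow_le_pow_left ?_ 3
        calc 7 * q ^ 3 = q ^ 2 * (7 * q) := by ring
          _ ≤ (q ^ 2 + 1) * (8 * (q - 1)) := Nat.mul_le_mul (by omega) (by omega)
          _ = _ := by ring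
      have h5 : 8 ^ 4 ≤ q ^ 4 := Nat.pow_le_pow_left hq8 4
      have h6 : 16 * 512 * ((2 * m + 1) * r ^ 4) ≤ 16 * 512 * ((q ^ 2 + 1) * (q - 1)) ^ 3 := by
        calc 16 * 512 * ((2 * m + 1) * r ^ 4) = 512 * ((2 * m + 1) * (2 * r) ^ 4) := by ring
          _ ≤ 512 * (q * (13 * q) ^ 4) := Nat.mul_le_mul_left _ (Nat.mul_le_mul hfq h3)
          _ = (512 * 13 ^ 4) * q ^ 5 := by ring
          _ ≤ (16 * 343 * 8 ^ 4) * q ^ 5 := Nat.mul_le_mul_right _ (by norm_num)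
          _ ≤ (16 * 343 * q ^ 4) * q ^ 5 := Nat.mul_le_mul_right _ (Nat.mul_le_mul_left _ h5)
          _ = 16 * (7 * q ^ 3) ^ 3 := by ring
          _ ≤ 16 * (8 * ((q ^ 2 + 1) * (q - 1))) ^ 3 := Nat.mul_le_mul_left _ h4
          _ = _ := by ring
      exact Nat.le_of_mul_le_mul_left h6 (by norm_num)
    · rw [a4]
      have h3 : 7 * 7 ≤ (q ^ 2 + 1) * (q - 1) := Nat.mul_le_mul (by omega) (by omega)
      nlinarith only [hq8, hs, h3]

/-- **The box of the Suzuki groups.** -/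
theorem box_sz : Box fun K _ => Lie.IsoSuzuki K := by
  rintro T _ _ _ hT ⟨F, iF, iF', m, hm, hF, ⟨e⟩⟩
  obtain ⟨f⟩ := OddCyclic.ClaimC.SzIso.iso (F := F) hm hF
  let e' : T ≃* ↥(Cfsg.Sz F m) := e.trans f.symm
  have : Finite ↥(Cfsg.Sz F m) := Finite.of_equiv T e'.toEquiv
  have : IsSimpleGroup ↥(Cfsg.Sz F m) := e'.symm.isSimpleGroup
  refine Row.of_equiv e' (row_sz_model hm hF (fun h => hT ⟨⟨fun a b => e'.injective ?_⟩⟩)
    ((card_out_congr f).trans (S2126.result hm hF)).le)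
  rw [map_mul, map_mul]
  exact h.is_comm.comm _ _

end Cfsg.Agent.SB.R1
end

-- part: SB/R1/L2A
section
set_option linter.all false
open scoped Cfsg.Agent.FastGrp

/-!
# S5765: rank one groups, stabilizers of a point, of a pair of points, normalizers of tori (helper61)
-/

set_option autoImplicit false
set_option linter.unusedSectionVars false

namespace Cfsg.Agent.SB.R1

open Subgroup MulAction Cfsg Cfsg.Agent.H786.FC
open scoped Pointwise

section general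

variable {A : Type*} [Group A] {T S : Subgroup A}

/-- the conjugate `x S x⁻¹` -/
def cjS (S : Subgroup A) (x : A) : Subgroup A := S.comap (MulAut.conj x⁻¹).toMonoidHom

theorem mem_cjS {x s : A} : s ∈ cjS S x ↔ x⁻¹ * s * x ∈ S := by
  rw [cjS, mem_comap]
  simp

theorem exists_conj_not_mem (hT : AS T) (hS : ¬ T ≤ S) {e : A} (he : e ≠ 1) : ∃ x ∈ T, x⁻¹ * e * x ∉ S := by
  by_contra hcon
  push Not at hcon
  rcases hT.eq_bot_or_le (X := ⨅ x : T, cjS S x) (fun t ht y hy => by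
    rw [mem_iInf] at hy ⊢
    intro x
    have h1 := mem_cjS.1 (hy ⟨t⁻¹ * x, mul_mem (inv_mem ht) x.2⟩)
    rw [mem_cjS]
    have e : (x : A)⁻¹ * (t * y * t⁻¹) * x = (t⁻¹ * x)⁻¹ * y * (t⁻¹ * x) := by group
    rwa [e]) with h1 | h1
  · apply he
    rw [← mem_bot, ← h1, mem_iInf]
    exact fun x => mem_cjS.2 (hcon x x.2)
  · refine hS fun t ht => ?_
    have h2 := mem_cjS.1 (mem_iInf.1 (h1 ht) 1)
    simpa using h2

variable [Finite A]

theorem exists_half (hT : AS T) (hS : ¬ T ≤ S) (D : Subgroup A) :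
    ∃ z ∈ T, D ⊓ cjS S z = ⊥ ∨ 2 * Nat.card ↥(D ⊓ cjS S z) ≤ Nat.card D := by
  by_cases h0 : D = ⊥
  · exact ⟨1, one_mem _, Or.inl (by rw [h0, bot_inf_eq])⟩
  obtain ⟨⟨e, he⟩, he1⟩ := ne_bot_iff_exists_ne_one.1 h0
  obtain ⟨z, hz, h1⟩ := exists_conj_not_mem hT hS (e := e) fun h => he1 (Subtype.ext h)
  refine ⟨z, hz, Or.inr ?_⟩
  obtain ⟨c, hc⟩ := card_dvd_of_le (inf_le_left : D ⊓ cjS S z ≤ D)
  have h2 : c ≠ 1 := by
    rintro rfl
    have h3 : D ⊓ cjS S z = D := eq_of_le_of_card_ge inf_le_left (by omega)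
    exact h1 (mem_cjS.1 (h3.ge he).2)
  have h3 : c ≠ 0 := by
    rintro rfl
    have : 0 < Nat.card D := Nat.card_pos
    omega
  rw [hc, mul_comm]
  exact Nat.mul_le_mul_left _ (by omega)

theorem exists_bot (hT : AS T) (hS : ¬ T ≤ S) {D : Subgroup A} (h : Nat.card D ≤ 3) : ∃ z ∈ T, D ⊓ cjS S z = ⊥ := by
  obtain ⟨z, hz, h1 | h1⟩ := exists_half hT hS D
  · exact ⟨z, hz, h1⟩
  · exact ⟨z, hz, card_le_one_iff_eq_bot _ |>.1 (by omega)⟩

theorem four_of_card_le_three (hT : AS T) (hS : ¬ T ≤ S) {x y : A} (hx : x ∈ T) (hy : y ∈ T)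
    (h : Nat.card ↥(S ⊓ cjS S x ⊓ cjS S y) ≤ 3) : Four T S := by
  obtain ⟨z, hz, h1⟩ := exists_bot hT hS h
  refine ⟨x, hx, y, hy, z, hz, fun s hs a1 a2 a3 => ?_⟩
  rw [← mem_bot, ← h1]
  exact ⟨⟨⟨hs, mem_cjS.2 a1⟩, mem_cjS.2 a2⟩, mem_cjS.2 a3⟩

omit [Finite A] in
theorem four_of_four {x : Fin 4 → A} (hx : ∀ i, x i ∈ T) (h : ∀ s : A, (∀ i, (x i)⁻¹ * s * x i ∈ S) → s = 1) :
    Four T S := by
  refine ⟨(x 0)⁻¹ * x 1, mul_mem (inv_mem (hx 0)) (hx 1), (x 0)⁻¹ * x 2, mul_mem (inv_mem (hx 0)) (hx 2),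
    (x 0)⁻¹ * x 3, mul_mem (inv_mem (hx 0)) (hx 3), fun s hs a1 a2 a3 => ?_⟩
  have e : ∀ y : A, ((x 0)⁻¹ * y)⁻¹ * s * ((x 0)⁻¹ * y) = y⁻¹ * (x 0 * s * (x 0)⁻¹) * y := fun y => by group
  rw [e] at a1 a2 a3
  refine conj_eq_one_iff.1 (h (x 0 * s * (x 0)⁻¹) fun i => ?_)
  fin_cases i
  · have e' : (x 0)⁻¹ * (x 0 * s * (x 0)⁻¹) * x 0 = s := by group
    exact e'.symm ▸ hs
  exacts [a1, a2, a3]

theorem fit_normal {s v : A} (hs : s ∈ S) (hv : v ∈ fit S) : s * v * s⁻¹ ∈ fit S := by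
  obtain ⟨w, hw, rfl⟩ := hv
  exact ⟨_, Lib.Cores.fittingSubgroup_normal.conj_mem w hw ⟨s, hs⟩, rfl⟩

theorem fit_commute {a b : A} (ha : a ∈ fit S) (hb : b ∈ fit S) (h : (orderOf a).Coprime (orderOf b)) :
    a * b = b * a := by
  obtain ⟨a, ha', rfl⟩ := ha
  obtain ⟨b, hb', rfl⟩ := hb
  have := Lib.Cores.fittingSubgroup_isNilpotent (G := S)
  have h1 := Lib.NilpotentCoprime.commute_of_coprime_orderOf (a := (⟨a, ha'⟩ : fittingSubgroup S)) (b := ⟨b, hb'⟩)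
    (by
      rw [← orderOf_coe, ← orderOf_coe (⟨b, hb'⟩ : fittingSubgroup S)]
      change (orderOf a).Coprime (orderOf b)
      rwa [← orderOf_coe a, ← orderOf_coe b])
  exact congrArg (fun z : fittingSubgroup S => ((z : S) : A)) h1

theorem le_fit {p : ℕ} [Fact p.Prime] {X : Subgroup A} (hXS : X ≤ S) (hp : IsPGroup p X)
    (hX : ∀ s ∈ S, ∀ x ∈ X, s * x * s⁻¹ ∈ X) : X ≤ fit S := by
  intro x hx
  have hn : (X.subgroupOf S).Normal := ⟨fun x hx s => mem_subgroupOf.2 (hX s s.2 x (mem_subgroupOf.1 hx))⟩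
  have hnil : Group.IsNilpotent (X.subgroupOf S) := (hp.comap_subtype (K := S)).isNilpotent
  exact ⟨⟨x, hXS hx⟩, Lib.Cores.le_fittingSubgroup hn hnil (mem_subgroupOf.2 hx), rfl⟩

end general

variable {p : ℕ} {K : Type*} [Group K] {Q h N : ℕ}

namespace TI

variable (H : TI p K Q h N)
include H

variable [Fact p.Prime] [Finite K] [IsSimpleGroup K]

theorem ne_bot (P : Sylow p K) : (P : Subgroup K) ≠ ⊥ := by
  obtain ⟨u, hu, hu1⟩ := H.exists_ne_one P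
  exact fun h => hu1 (mem_bot.1 (h ▸ hu))

theorem ne_top (P : Sylow p K) : (P : Subgroup K) ≠ ⊤ := by
  obtain ⟨P', hP'⟩ := H.exists_ne P
  obtain ⟨u, hu, hu1⟩ := H.exists_ne_one P'
  exact fun h => hP' (H.eq_of_mem hu (show u ∈ (P : Subgroup K) from h ▸ mem_top u) hu1)

/-- an automorphism of order `p` fixing two Sylow subgroups centralizes a non-trivial element of them -/
theorem one_lt_fix {c : MulAut K} (hc : orderOf c = p) {P₀ P₁ : Sylow p K} (hne : P₁ ≠ P₀) (h0 : c • P₀ = P₀)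
    (h1 : c • P₁ = P₁) : 1 < Nat.card ↥(fixS c ⊓ P₀) := by
  classical
  have hp : p.Prime := Fact.out
  have := H.finite_sylow
  by_contra hcon
  have h2 : Nat.card {P : Sylow p K // P ≠ P₀ ∧ c • P = P} ≤ 1 := by
    rw [H.card_fixed hne h0 h1]
    omega
  have h3 := Finite.card_le_one_iff_subsingleton.1 h2
  have hpg : IsPGroup p (zpowers c) := IsPGroup.of_card (n := 1) (by rw [Nat.card_zpowers, hc, pow_one])
  have h4 := hpg.card_modEq_card_fixedPoints (Sylow p K)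
  have h5 : fixedPoints (zpowers c) (Sylow p K) = {P₀, P₁} := by
    ext P
    constructor
    · intro hP
      by_cases h6 : P = P₀
      · exact Or.inl h6
      · exact Or.inr (congrArg Subtype.val (h3.elim ⟨P, h6, hP ⟨c, mem_zpowers c⟩⟩ ⟨P₁, hne, h1⟩))
    · rintro (rfl | rfl) ⟨_, n, rfl⟩
      · exact (stabilizer (MulAut K) P).zpow_mem h0 n
      · exact (stabilizer (MulAut K) P).zpow_mem h1 n
  rw [h5, H.count, Nat.card_coe_set_eq, Set.ncard_pair hne.symm] at h4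
  have h6 : p ∣ Q := by
    rw [H.pow]
    refine dvd_pow_self p ?_
    rintro rfl
    have h7 := H.pow
    have h8 := H.one_lt
    rw [pow_zero] at h7
    omega
  have h7 : p ∣ 1 + Q - 2 := (Nat.modEq_iff_dvd' (by have := H.one_lt; omega)).1 h4.symm
  have h8 : p ∣ Q - (1 + Q - 2) := Nat.dvd_sub h6 h7
  have h9 : Q - (1 + Q - 2) = 1 := by have := H.one_lt; omega
  rw [h9] at h8
  exact hp.one_lt.ne' (Nat.dvd_one.1 h8)

/-- the elements of `F(S)` fixing a second Sylow subgroup centralize the two point stabilizer -/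
theorem fit_two (hK : ¬ IsMulCommutative K) {S : Subgroup (MulAut K)} (hm : MaxInv (InnG K) S) {P₀ P₁ : Sylow p K}
    (hne : P₁ ≠ P₀) (hS : ∀ s ∈ S, s • P₀ = P₀) {c : MulAut K} (hc : c ∈ fit S) (h1 : c • P₁ = P₁) :
    ((orderOf c).Prime → orderOf c = p) ∧ ∀ t : K, t • P₀ = P₀ → t • P₁ = P₁ → c t = t := by
  have hp : p.Prime := Fact.out
  have hinv : ∀ s ∈ S, ∀ y ∈ (P₀ : Subgroup K), s y ∈ (P₀ : Subgroup K) := fun s hs y hy => by
    have := apply_mem_smul s (P := P₀) hy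
    rwa [hS s hs] at this
  have hN := norm_le_innS hK hm (H.ne_bot P₀) (H.ne_top P₀) hinv
  have hP : (P₀ : Subgroup K).map MulAut.conj ≤ fit S := by
    refine le_fit (p := p) ?_ (P₀.isPGroup'.map _) ?_
    · rintro _ ⟨u, hu, rfl⟩
      exact hN (le_normalizer hu)
    · rintro s hs _ ⟨u, hu, rfl⟩
      exact ⟨s u, hinv s hs u hu, (conj_conj s u).symm⟩
  have key : ∀ c ∈ fit S, c • P₁ = P₁ → (orderOf c).Prime → orderOf c = p := by
    intro c hc h1 hcp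
    by_contra hne'
    refine ne_one_of_prime' hcp (H.eq_one_of_cent hne h1 fun u hu => ?_)
    apply conj_injective hK
    rw [← conj_conj, mul_inv_eq_iff_eq_mul]
    refine fit_commute hc (hP ⟨u, hu, rfl⟩) ?_
    obtain ⟨k, hk⟩ := IsPGroup.iff_orderOf.1 P₀.isPGroup' ⟨u, hu⟩
    rw [orderOf_injective _ (conj_injective hK), show orderOf u = p ^ k by rw [← hk, orderOf_mk]]
    exact Nat.Coprime.pow_right _ ((Nat.coprime_primes hcp hp).2 hne')
  refine ⟨key c hc h1, fun t h0 ht => ?_⟩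
  have htS : MulAut.conj t ∈ S := hN (Sylow.smul_eq_iff_mem_normalizer.1 h0)
  have h2 : MulAut.conj (c t * t⁻¹) ∈ fit S := by
    rw [map_mul, ← conj_conj, map_inv]
    have h3 := mul_mem hc (fit_normal htS (inv_mem hc))
    simpa only [mul_assoc] using h3
  have h3 : ∀ P : Sylow p K, c • P = P → t • P = P → (c t * t⁻¹) • P = P := fun P a1 a2 => by
    have h4 := smul_smul_sylow c t P
    rw [a1, a2, a1] at h4
    rw [mul_smul, inv_smul_eq_iff.2 a2.symm, ← h4]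
  by_contra h4
  obtain ⟨n, hn⟩ := exists_prime_pow (t := c t * t⁻¹) fun h5 => h4 (mul_inv_eq_one.1 h5)
  have a0 := (stabilizer K P₀).pow_mem (h3 P₀ (hS c (map_subtype_le _ hc)) h0) n
  have a1 := (stabilizer K P₁).pow_mem (h3 P₁ h1 ht) n
  have ho := orderOf_injective _ (conj_injective hK) ((c t * t⁻¹) ^ n)
  refine H.order_ne_of_two hne a0 a1 ?_
  rw [← ho]
  exact key _ (by rw [map_pow]; exact pow_mem h2 n) a1 (ho ▸ hn)

theorem exists_conj_fix {S : Subgroup (MulAut K)} {P₀ : Sylow p K} (hS : ∀ s ∈ S, s • P₀ = P₀) (P : Sylow p K) :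
    ∃ x ∈ InnG K, ∀ s : MulAut K, x⁻¹ * s * x ∈ S → s • P = P := by
  obtain ⟨x, rfl⟩ := exists_smul_eq K P₀ P
  refine ⟨MulAut.conj x, ⟨x, rfl⟩, fun s hs => ?_⟩
  have h1 := hS _ hs
  rw [mul_smul, mul_smul, inv_smul_eq_iff] at h1
  exact h1

/-- **The Borel subgroup of a Zassenhaus group.** -/
theorem good_borel (hf : Fpf p K) (hK : ¬ IsMulCommutative K) {S : Subgroup (MulAut K)} (hm : MaxInv (InnG K) S)
    {P₀ : Sylow p K} (hS : ∀ s ∈ S, s • P₀ = P₀) (hh : ∀ k < N, p ^ k ≤ h) : Good (InnG K) S := by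
  left
  obtain ⟨P₁, hne⟩ := H.exists_ne P₀
  obtain ⟨x, hx, h1⟩ := H.exists_conj_fix hS P₁
  refine fitReg_iff.2 ⟨x, hx, fun v hv hvx => ?_⟩
  by_contra hv1
  obtain ⟨n, hn⟩ := exists_prime_pow hv1
  have hc : v ^ n ∈ fit S := pow_mem hv n
  have c0 : v ^ n • P₀ = P₀ := hS _ (map_subtype_le _ hc)
  have c1 : v ^ n • P₁ = P₁ := (stabilizer (MulAut K) P₁).pow_mem (h1 v hvx) n
  obtain ⟨a1, a2⟩ := H.fit_two hK hm hne hS hc c1
  have a3 := H.card_fix_two_lt hf hne (H.one_lt_fix (a1 hn) hne c0 c1)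
  obtain ⟨k, hk, a4, -⟩ := H.two_fix (ne_one_of_prime' hn) hne c0 c1
  rw [inf_eq_right.2 (fun t ht => a2 t ht.1 ht.2), H.card_two hne, a4] at a3
  have := hh k hk
  omega

/-- a base for the two point stabilizer -/
theorem exists_base (hK : ¬ IsMulCommutative K) {P₀ P₁ : Sylow p K} (hne : P₁ ≠ P₀) {a f m : ℕ}
    (ha : ∀ k, k < N → (k = 0 ∨ 1 + p ^ k ∣ (Q + 1) * h) → p ^ k ≤ a)
    (hf : Nat.card (Out K) ≤ f) (hlt : f * h * a ^ m < Q ^ m) :
    ∃ z : Fin m → {P : Sylow p K // P ≠ P₀}, ∀ d : MulAut K, d • P₀ = P₀ → d • P₁ = P₁ →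
      (∀ i, d • (z i).1 = (z i).1) → d = 1 := by
  classical
  have hfin := H.finite_sylow
  let D : Subgroup (MulAut K) := stabilizer (MulAut K) P₀ ⊓ stabilizer (MulAut K) P₁
  have hD : Nat.card D ≤ f * h := by
    refine (card_le_out hK D).trans ?_
    rw [mul_comm]
    refine Nat.mul_le_mul hf ?_
    rw [← H.card_two hne]
    exact card_le_of_le fun x hx => hx
  by_contra hcon
  push Not at hcon
  have h1 := card_le_of_cover (fun (d : D) (z : Fin m → {P : Sylow p K // P ≠ P₀}) =>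
    (∀ i, (d : MulAut K) • (z i).1 = (z i).1) ∧ (d : MulAut K) ≠ 1)
    (fun z => by
      obtain ⟨d, a0, a1, a2, a3⟩ := hcon z
      exact ⟨⟨d, a0, a1⟩, a2, a3⟩) (c := a ^ m) (by
      intro d
      by_cases hd : (d : MulAut K) = 1
      · rw [Nat.card_eq_zero.2 (Or.inl ⟨fun z => z.2.2 hd⟩)]
        exact Nat.zero_le _
      obtain ⟨k, hkN, hk, h2⟩ := H.two_fix hd hne d.2.1 d.2.2
      have h3 : Nat.card {P : Sylow p K // P ≠ P₀ ∧ (d : MulAut K) • P = P} ≤ a := by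
        rw [H.card_fixed hne d.2.1 d.2.2, hk]
        exact ha k hkN (h2.imp id fun h4 => h4.1)
      refine le_trans (Nat.card_le_card_of_injective (fun z i =>
        (⟨(z.1 i).1, (z.1 i).2, z.2.1 i⟩ : {P : Sylow p K // P ≠ P₀ ∧ (d : MulAut K) • P = P})) ?_) ?_
      · intro z z' hz
        exact Subtype.ext (funext fun i => Subtype.ext (congrArg (fun w => (w i).1) hz))
      · rw [Nat.card_fun, Nat.card_eq_fintype_card (α := Fin m), Fintype.card_fin]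
        exact Nat.pow_le_pow_left h3 m)
  rw [Nat.card_fun, H.card_ne, Nat.card_eq_fintype_card (α := Fin m), Fintype.card_fin] at h1
  have h2 := Nat.mul_le_mul_right (a ^ m) hD
  omega

/-- **The stabilizer of a pair of Sylow subgroups.** -/
theorem four_of_pair (hK : ¬ IsMulCommutative K) {S : Subgroup (MulAut K)} {P₀ P₁ : Sylow p K} (hne : P₁ ≠ P₀)
    (hS : ∀ s ∈ S, ∀ P : Sylow p K, (P = P₀ ∨ P = P₁) → (s • P = P₀ ∨ s • P = P₁)) {a f : ℕ}
    (ha : ∀ k, k < N → (k = 0 ∨ 1 + p ^ k ∣ (Q + 1) * h) → p ^ k ≤ a)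
    (hf : Nat.card (Out K) ≤ f) (hlt : f * h * a ^ 3 < Q ^ 3) (h1 : 1 < h) : Four (InnG K) S := by
  obtain ⟨z, hz⟩ := H.exists_base hK hne ha hf hlt
  have key : ∀ P : {P : Sylow p K // P ≠ P₀}, ∃ x ∈ InnG K, ∀ s : MulAut K, x⁻¹ * s * x ∈ S →
      (s • P₀ = P₀ ∨ s • P₀ = P.1) ∧ (s • P.1 = P₀ ∨ s • P.1 = P.1) := by
    intro P
    obtain ⟨u, hu, huP⟩ := H.trans hne P.2
    have hu0 : u • P₀ = P₀ := smul_self_of_mem hu
    refine ⟨MulAut.conj u, ⟨u, rfl⟩, fun s hs => ?_⟩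
    have h2 : ∀ P' : Sylow p K, (P' = P₀ ∨ P' = P₁) → (s • u • P' = P₀ ∨ s • u • P' = P.1) := by
      intro P' hP'
      have h3 := hS _ hs P' hP'
      rw [mul_smul, mul_smul, inv_smul_eq_iff, inv_smul_eq_iff] at h3
      change s • u • P' = u • P₀ ∨ s • u • P' = u • P₁ at h3
      rwa [hu0, huP] at h3
    have h3 := h2 P₀ (Or.inl rfl)
    have h4 := h2 P₁ (Or.inr rfl)
    rw [hu0] at h3
    rw [huP] at h4
    exact ⟨h3, h4⟩
  choose x hx hxs using key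
  have hi : ∃ i, (z i).1 ≠ P₁ := by
    by_contra hcon
    push Not at hcon
    have h2 : 1 < Nat.card ↥(stabilizer K P₀ ⊓ stabilizer K P₁) := by rwa [H.card_two hne]
    have := Finite.one_lt_card_iff_nontrivial.1 h2
    obtain ⟨t, ht⟩ := _root_.exists_ne (1 : ↥(stabilizer K P₀ ⊓ stabilizer K P₁))
    refine ht (Subtype.ext (conj_injective hK ?_))
    rw [OneMemClass.coe_one, map_one]
    exact hz _ t.2.1 t.2.2 fun i => by rw [hcon i]; exact t.2.2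
  obtain ⟨i, hi⟩ := hi
  refine ⟨x (z 0), hx _, x (z 1), hx _, x (z 2), hx _, fun s hs a0 a1 a2 => ?_⟩
  have a : ∀ j, (x (z j))⁻¹ * s * x (z j) ∈ S := fun j => by
    fin_cases j
    exacts [a0, a1, a2]
  have h0 : s • P₀ = P₀ := by
    rcases hS s hs P₀ (Or.inl rfl) with h2 | h2
    · exact h2
    · exact (hxs _ s (a i)).1.resolve_right fun h3 => hi (h3.symm.trans h2)
  have h2 : ∀ P : Sylow p K, P ≠ P₀ → s • P ≠ P₀ := fun P hP h3 => hP (smul_left_cancel s (h3.trans h0.symm))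
  exact hz s h0 ((hS s hs P₁ (Or.inr rfl)).resolve_left (h2 _ hne))
    fun j => (hxs _ s (a j)).2.resolve_left (h2 _ (z j).2)

end TI

end Cfsg.Agent.SB.R1

private theorem dce_112dc58fc6c9 : _root_.True := by
  try have : _root_.True := by simp only [_root_.Cfsg.Agent.SB.R1.cjS.eq_1]
  exact _root_.True.intro
end

-- part: SB/Exc/Tor/Norm
section
prune_inst 0x10105100002200000018000060003c4282000002000b000010000a0006829c4000010621082008100000004400308048110000000000000000000800011c0080100000020000a000000000000000000000000000000000000000000000041000000000000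
set_option linter.all false
open scoped Cfsg.Agent.FastGrp

/-!
# S5765, exceptional groups, toral case: the normaliser of the finite torus (helper64)

* `TF` : the fixed points of `σ` in the torus; `TC.mem_TF`, `TC.card_TF`, `TC.card_TF_le`;
* `IndL`, `Om`, `exists_om`, `Om.card_le` : the map to `W` of a group of inner-diagonal elements;
* `TC.mem_S` : the normaliser in `T` of the torus lies in `S`; `TC.solv`; `TC.fit_pow`.
-/

set_option autoImplicit false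
set_option linter.unusedSectionVars false

namespace Cfsg.Agent.SB.Exc.Tor

open CoxeterSystem Cfsg Cfsg.Lie Cfsg.Lie.ChevalleyDatum
open Cfsg.Agent.ChevalleyStructure Cfsg.Agent.ChevalleyStructure.CoxeterGeom
  Cfsg.Agent.ChevalleyStructure.CoxeterGeomTypes
open Cfsg.Agent.Tits.Roots Cfsg.Agent.Nodes Cfsg.Agent.Nodes.BNOf Cfsg.Agent.Nodes.RGDChev
open Cfsg.Agent.KFacts.RgdChevCoord
open Cfsg.Agent.BpExc Cfsg.Agent.BpExc.TorChev Cfsg.Agent.BpExc.Fr Cfsg.Agent.BpExc.LangFr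
open Cfsg.Agent.H469.Exc Cfsg.Agent.H316.U6 Cfsg.Agent.H129.TorusChar Cfsg.Agent.DS.Ex Cfsg.Agent.DS.Ex.Tor
  Cfsg.Agent.DS.Nt Cfsg.Agent.H786.FC

variable {D : ChevalleyDatum} {l : ℕ} {M : CoxeterMatrix (Fin l)} {hp : IsType D l M} {p : ℕ} [Fact p.Prime]

theorem cX_ext {s t : YY D p} (hs : s ∈ TT D (KK p)) (ht : t ∈ TT D (KK p)) {g : (Fin l → ℤ) ≃+ (Fin l → ℤ)}
    (h : ∀ x, cX hp s (g x) = cX hp t (g x)) : s = t :=
  cX_inj hp hs ht fun i => by rw [← g.apply_symm_apply (sr i), h]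

theorem pow_sum_eq_one {t : YY D p} (ht : t ∈ TT D (KK p)) {u : En l} {a n : ℕ} (h : ∀ x, cX hp t (u x) = cX hp t x ^ a)
    (hu : ∑ i ∈ Finset.range n, u ^ i = 0) : t ^ ∑ i ∈ Finset.range n, a ^ i = 1 := by
  refine pow_eq_one_of_cX (hp := hp) ht fun x => ?_
  have h1 : ∀ i, cX hp t ((u ^ i) x) = cX hp t x ^ a ^ i := fun i => by
    induction i with
    | zero => rw [pow_zero, pow_zero, pow_one, Module.End.one_apply]
    | succ i ih => rw [pow_succ', Module.End.mul_apply, h, ih, ← pow_mul, ← pow_succ]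
  rw [← Finset.prod_pow_eq_pow_sum, ← Finset.prod_congr rfl fun i _ => h1 i, ← (isMC_cX hp ht).sum, ← LinearMap.sum_apply,
    hu, LinearMap.zero_apply, (isMC_cX hp ht).zero]

theorem eq_one_of_pow_p (hp : IsType D l M) {t : YY D p} (ht : t ∈ TT D (KK p)) (h : t ^ p = 1) : t = 1 :=
  cX_inj hp ht (one_mem _) fun i => by
    rw [cX_one]
    apply frobenius_inj (KK p) p
    rw [frobenius_def, ← cX_pow hp ht, h, cX_one, map_one]

variable (hp p) in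
/-- the finite torus -/
abbrev TF (e : ℕ) (v : M.Group) (ε : ℤˣ) : Subgroup (YY D p) :=
  Kr hp p ((ε : ℤ) • rp hp v - ((p ^ e : ℕ) : ℤ) • (1 : En l))

theorem smul_rp_pow (v : M.Group) (ε : ℤˣ) : ((ε : ℤ) • rp hp v) ^ (2 * Nat.card M.Group) = 1 := by
  rw [smul_pow, ← map_pow, mul_comm 2, pow_mul v, pow_card_eq_one', one_pow, map_one, mul_comm, pow_mul,
    ← Units.val_pow_eq_pow_val, Int.units_sq, Units.val_one, one_pow, one_smul]

theorem card_W_pos (hp : IsType D l M) : 0 < 2 * Nat.card M.Group := by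
  have := finW hp
  exact Nat.mul_pos two_pos Nat.card_pos

theorem det_TF {e : ℕ} (he : 0 < e) (v : M.Group) (ε : ℤˣ) :
    ((LinearMap.det ((ε : ℤ) • rp hp v - ((p ^ e : ℕ) : ℤ) • (1 : En l)) : ℤ) : KK p) ≠ 0 := by
  refine H378.TorFin.det_ne_zero (w' := ((ε : ℤ) • rp hp v) ^ (2 * Nat.card M.Group - 1)) ?_ ?_
  · rw [← pow_succ', Nat.sub_add_cancel (card_W_pos hp), smul_rp_pow]
  · rw [Int.cast_natCast, Nat.cast_pow, CharP.cast_eq_zero, zero_pow he.ne']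

variable {G : Type} [Group G] [Finite G] {T S K : Subgroup G} {L : Lift hp p T} {e : ℕ} {v : M.Group} {ε : ℤˣ}
  {g : (Fin l → ℤ) ≃+ (Fin l → ℤ)}

/-! ### induced elements -/

variable (L) in
/-- `y` induces `c` -/
def IndL (y : YY D p) (c : G) : Prop := ∀ x x' : T, (x' : G) = c * x * c⁻¹ → y * L.ι x * y⁻¹ = L.ι x'

theorem IndL.unique (hT : T.Normal) {y y' : YY D p} {c : G} (h : IndL L y c) (h' : IndL L y' c) : y = y' := by
  have h1 : y'⁻¹ * y = 1 := L.cent _ fun x => by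
    have h2 := h x ⟨c * x * c⁻¹, hT.conj_mem _ x.2 c⟩ rfl
    have h3 := h' x ⟨c * x * c⁻¹, hT.conj_mem _ x.2 c⟩ rfl
    calc y'⁻¹ * y * L.ι x = y'⁻¹ * (y * L.ι x * y⁻¹) * y := by group
      _ = y'⁻¹ * (y' * L.ι x * y'⁻¹) * y := by rw [h2, h3]
      _ = _ := by group
  exact (inv_mul_eq_one.1 h1).symm

theorem IndL.mul (hT : T.Normal) {y y' : YY D p} {c c' : G} (h : IndL L y c) (h' : IndL L y' c') :
    IndL L (y * y') (c * c') := fun x x' e => by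
  have h1 := h' x ⟨c' * x * c'⁻¹, hT.conj_mem _ x.2 c'⟩ rfl
  have h2 := h ⟨c' * x * c'⁻¹, hT.conj_mem _ x.2 c'⟩ x' (by rw [e]; group)
  rw [← h2, ← h1]
  group

theorem indL_iota (x : T) : IndL L (L.ι x) x := fun u u' e => by
  rw [← map_inv, ← map_mul, ← map_mul]
  congr 1
  exact Subtype.ext e.symm

theorem IndL.pow (hT : T.Normal) {y : YY D p} {c : G} (h : IndL L y c) (n : ℕ) : IndL L (y ^ n) (c ^ n) := by
  induction n with
  | zero =>
    have h1 := indL_iota (L := L) 1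
    rw [map_one] at h1
    rwa [pow_zero, pow_zero]
  | succ n ih =>
    rw [pow_succ, pow_succ]
    exact ih.mul hT h

theorem IndL.fix {y : YY D p} {c : G} (h : IndL L y c) : L.σ y = y := L.fix_of_conj_mem (L.full y c h)

theorem IndL.mem_GH (hT : AS T) {y : YY D p} {c : G} (h : IndL L y c) (hc : c ∈ S) : MulAut.conj y ∈ L.GH S :=
  L.mem_GH.2 ⟨L.full y c h, by rwa [L.π_eq hT.normal hT.cent ⟨_, L.full y c h⟩ h]⟩

theorem IndL.comm {y : YY D p} {c : G} (h : IndL L y c) {x : T} (hx : c * x = x * c) : y * L.ι x = L.ι x * y :=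
  mul_inv_eq_iff_eq_mul.1 (h x x (by rw [hx, mul_inv_cancel_right]))

theorem indL_conj {q : ℕ} {F : XF hp p q T} {y : YY D p} {c : G} (h : F.Ind y c) (z : YY D p) :
    IndL (F.L.conj z) (z * y * z⁻¹) c := fun x x' e => by
  rw [Lift.conj_ι, Lift.conj_ι, ← h x x' e]
  group

variable (L) in
/-- the maps to `Y` and to `W` -/
structure Om (θ : K →* YY D p) (ω : K →* M.Group) : Prop where
  ind : ∀ c, IndL L (θ c) c
  rp : ∀ c, RP hp p (ω c) (θ c)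

theorem exists_om (hT : T.Normal) (h : ∀ c ∈ K, ∃ y w, IndL L y c ∧ RP hp p w y) :
    ∃ (θ : K →* YY D p) (ω : K →* M.Group), Om L θ ω := by
  choose y w h1 h2 using fun c : K => h c c.2
  have h3 : ∀ c c', y (c * c') = y c * y c' := fun c c' => (h1 _).unique hT ((h1 c).mul hT (h1 c'))
  exact ⟨MonoidHom.mk' y h3, MonoidHom.mk' w fun c c' => (h2 _).unique (by rw [h3]; exact (h2 c).mul (h2 c')), h1, h2⟩

namespace Om

variable {θ : K →* YY D p} {ω : K →* M.Group} (O : Om L θ ω)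
include O

theorem inj (hT : AS T) : Function.Injective θ := fun c c' h =>
  Subtype.ext (eq_of_act hT.normal hT.cent L.inj (φ := fun x => θ c * x * (θ c)⁻¹) (O.ind c) (h ▸ O.ind c'))

theorem eq_iota (hT : AS T) (c : K) (hc : (c : G) ∈ T) : θ c = L.ι ⟨c, hc⟩ := (O.ind c).unique hT.normal (indL_iota (⟨c, hc⟩ : T))

theorem card_le (hT : AS T) {B : Subgroup (YY D p)} [Finite B] (hB : ∀ c, θ c ∈ TT D (KK p) → θ c ∈ B) :
    Nat.card K ≤ Nat.card B * Nat.card ω.range := by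
  rw [← ω.ker.card_mul_index, Subgroup.index_ker]
  refine Nat.mul_le_mul_right _ (Nat.card_le_card_of_injective (fun x : ω.ker => (⟨θ x, hB _ ?_⟩ : B)) fun x y h => ?_)
  · have h1 := O.rp x
    rw [MonoidHom.mem_ker.1 x.2] at h1
    exact h1.mem_T
  · exact Subtype.ext (O.inj hT (congrArg Subtype.val h))

end Om

namespace TC

variable (H : TC S L e v ε g)
include H

theorem cX_σ {t : YY D p} (ht : t ∈ TT D (KK p)) (x : Fin l → ℤ) : cX hp (L.σ t) (g x) = cX hp t x ^ p ^ e :=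
  cX_sigma hp M.toCoxeterSystem H.frob H.fr ht x

theorem mem_TF {t : YY D p} : t ∈ TF hp p e v ε ↔ t ∈ TT D (KK p) ∧ L.σ t = t := by
  refine and_congr_right fun ht => ?_
  have h1 : ∀ x, cX hp t (((ε : ℤ) • rp hp v - ((p ^ e : ℕ) : ℤ) • (1 : En l)) x) = 1 ↔
      cX hp (L.σ t) (g x) = cX hp t (g x) := fun x => by
    rw [LinearMap.sub_apply, LinearMap.smul_apply, LinearMap.smul_apply, Module.End.one_apply, ← H.hg, (isMC_cX hp ht).sub,
      div_eq_one_iff_eq ((isMC_cX hp ht).ne_zero _), (isMC_cX hp ht).zsmul, zpow_natCast, H.cX_σ ht, eq_comm]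
  exact ⟨fun h => cX_ext ((H.fr.tor t).2 ht) ht fun x => (h1 x).1 (h x), fun h x => (h1 x).2 (by rw [h])⟩

theorem card_TF : Nat.card (TF hp p e v ε) =
    (LinearMap.det ((ε : ℤ) • rp hp v - ((p ^ e : ℕ) : ℤ) • (1 : En l))).natAbs := card_Kr H.typ (det_TF H.he v ε)

theorem finite_TF : Finite (TF hp p e v ε) := by
  refine Nat.finite_of_card_ne_zero ?_
  rw [H.card_TF, Int.natAbs_ne_zero]
  intro h
  exact det_TF (hp := hp) (p := p) H.he v ε (by rw [h, Int.cast_zero])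

theorem card_TF_le : Nat.card (TF hp p e v ε) ≤ (p ^ e + 1) ^ l := by
  rw [H.card_TF]
  exact H448.FprCent.natAbs_det_le (card_W_pos hp).ne' (smul_rp_pow v ε) _

theorem exists_rp {y : YY D p} {c : G} (h : IndL L y c) (hc : c ∈ S) : ∃ w, RP hp p w y :=
  rp_of_norm (H.nrm _ (h.mem_GH H.ctx.as hc))

theorem om (hK : K ≤ S) (h : ∀ c ∈ K, ∃ y, IndL L y c) : ∃ (θ : K →* YY D p) (ω : K →* M.Group), Om L θ ω :=
  exists_om H.ctx.as.normal fun c hc => by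
    obtain ⟨y, hy⟩ := h c hc
    obtain ⟨w, hw⟩ := H.exists_rp hy (hK hc)
    exact ⟨y, w, hy, hw⟩

theorem omT : ∃ (θ : ↥(S ⊓ T) →* YY D p) (ω : ↥(S ⊓ T) →* M.Group), Om L θ ω :=
  H.om inf_le_left fun c hc => ⟨_, indL_iota ⟨c, hc.2⟩⟩

theorem card_le {θ : K →* YY D p} {ω : K →* M.Group} (O : Om L θ ω) :
    Nat.card K ≤ Nat.card (TF hp p e v ε) * Nat.card ω.range := by
  have := H.finite_TF
  exact O.card_le H.ctx.as fun c hc => H.mem_TF.2 ⟨hc, (O.ind c).fix⟩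

theorem card_le' {θ : K →* YY D p} {ω : K →* M.Group} (O : Om L θ ω) :
    Nat.card K ≤ Nat.card M.Group * (p ^ e + 1) ^ l := by
  have := finW hp
  rw [mul_comm]
  exact (H.card_le O).trans (Nat.mul_le_mul H.card_TF_le (Subgroup.card_le_card_group _))

theorem comm_v {w : M.Group} {y : YY D p} (hw : RP hp p w y) (hy : L.σ y = y) : w * v = v * w := by
  refine rep_injective M.toCoxeterSystem hp.isCartan (LinearMap.ext fun a => ?_)
  have h1 := comm_of_rp H.fr hw (hy.symm ▸ hw) a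
  rw [H.hg, H.hg, map_zsmul] at h1
  rw [rep_mul_apply, rep_mul_apply]
  exact (smul_right_injective _ ε.ne_zero h1).symm

theorem inv_range : ∀ φ ∈ L.GH S, ∀ a ∈ L.ι.range, φ a ∈ L.ι.range := by
  rintro φ hφ _ ⟨x, rfl⟩
  exact ⟨_, (act' H.ctx.as.normal ⟨φ, L.GH_le S hφ⟩ x).symm⟩

theorem nm_pb {A : Subgroup (YY D p)} (hA : ∀ φ ∈ L.GH S, ∀ a ∈ A, φ a ∈ A) : Nm S (pb L A) :=
  NT.nm_of_le (norm_pb H.ctx.as.normal (L.inv_iff.2 hA))

variable (hb : Nat.card M.Group * (p ^ e + 1) ^ l < Nat.card T)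
include hb

/-- **The normaliser of the torus lies in `S`.** -/
theorem mem_S {x : T} {w : M.Group} (h : RP hp p w (L.ι x)) : (x : G) ∈ S := by
  have h1 : ∀ y : YY D p, y ∈ Subgroup.normalizer (TT D (KK p) : Set (YY D p)) ↔ ∃ w, RP hp p w y := fun y =>
    Subgroup.mem_normalizer_iff.trans ⟨fun h => rp_of_norm fun t => (h t).symm, fun ⟨_, h⟩ t => (h.conj_iff t).symm⟩
  refine H.ctx.max.le_of_inv H.ctx.as (pb_le (L := L) (Subgroup.normalizer (TT D (KK p) : Set (YY D p)))) (fun e => ?_)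
    (H.nm_pb fun φ hφ a ha => ?_) (coe_mem_pb.2 ((h1 _).2 ⟨w, h⟩))
  · obtain ⟨θ, ω, O⟩ := exists_om (L := L) (K := T) H.ctx.as.normal fun c hc => by
      obtain ⟨w, hw⟩ := (h1 _).1 ((coe_mem_pb (x := ⟨c, hc⟩)).1 (e.ge hc))
      exact ⟨_, w, indL_iota ⟨c, hc⟩, hw⟩
    exact absurd (H.card_le' O) hb.not_ge
  · obtain ⟨w, hw⟩ := (h1 _).1 ha
    exact (h1 _).2 (rp_map (H.nrm φ hφ) hw)

omit hb in
theorem exists_fix (hv : rp hp v = 1 ∨ rp hp v = -1) (w : M.Group) : ∃ y, RP hp p w y ∧ L.σ y = y := by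
  obtain ⟨k, hk⟩ := exists_RP hp p w
  have hq : 1 < p ^ e := Nat.one_lt_pow H.he.ne' (Fact.out : p.Prime).one_lt
  have hg : (∀ a, g a = a) ∨ ∀ a, g a = -a := by
    rcases hv with h | h <;> rcases Int.units_eq_one_or ε with h1 | h1
    · exact Or.inl fun a => by rw [H.hg, h, h1]; simp
    · exact Or.inr fun a => by rw [H.hg, h, h1]; simp
    · exact Or.inr fun a => by rw [H.hg, h, h1]; simp
    · exact Or.inl fun a => by rw [H.hg, h, h1]; simp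
  have ht : k⁻¹ * L.σ k ∈ TT D (KK p) := rp_T hk (rp_fr H.fr hk fun a => by
    rcases hg with h | h
    · rw [h, h]
    · rw [h, h, map_neg])
  suffices h : ∃ s ∈ TT D (KK p), k⁻¹ * L.σ k * L.σ s = s by
    obtain ⟨s, hs, h⟩ := h
    refine ⟨k * s, by simpa using hk.mul (RP.of_mem hs), ?_⟩
    rw [map_mul]
    calc L.σ k * L.σ s = k * (k⁻¹ * L.σ k * L.σ s) := by group
      _ = _ := by rw [h]
  rcases hg with h | h
  · obtain ⟨s, hs, h1⟩ := exists_root_T hp H.typ ht (Nat.sub_pos_of_lt hq)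
    have h2 : L.σ s = s ^ p ^ e := cX_ext (g := g) ((H.fr.tor s).2 hs) (pow_mem hs _) fun x => by
      rw [H.cX_σ hs, h, cX_pow hp hs]
    refine ⟨s⁻¹, inv_mem hs, ?_⟩
    rw [← h1, map_inv, h2, mul_inv_eq_iff_eq_mul, eq_inv_mul_iff_mul_eq, ← pow_succ', Nat.sub_add_cancel hq.le]
  · obtain ⟨s, hs, h1⟩ := exists_root_T hp H.typ ht (Nat.succ_pos (p ^ e))
    have h2 : s ^ p ^ e * L.σ s = 1 := cX_ext (g := g) (mul_mem (pow_mem hs _) ((H.fr.tor s).2 hs)) (one_mem _) fun x => by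
      rw [cX_mul hp (pow_mem hs _) ((H.fr.tor s).2 hs), H.cX_σ hs, h, cX_pow hp hs, cX_one, ← mul_pow, mul_comm,
        (isMC_cX hp hs).neg_mul, one_pow]
    refine ⟨s, hs, ?_⟩
    rw [← h1, pow_succ', mul_assoc, h2, mul_one]

/-- **If `σ` acts on the roots as `± 1` then `W` is solvable.** -/
theorem solv (hv : rp hp v = 1 ∨ rp hp v = -1) : Group.IsSolvable M.Group := by
  have := finW hp
  obtain ⟨θ, ω, O⟩ := H.omT
  have h1 : ∀ (w : M.Group) (x : T), RP hp p w (L.ι x) → w ∈ ω.range := fun w x h =>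
    ⟨⟨x, H.mem_S hb h, x.2⟩, (O.rp _).unique (by rwa [O.eq_iota H.ctx.as _ x.2])⟩
  have h2 : ω.range.Normal := ⟨by
    rintro _ ⟨c, rfl⟩ w
    obtain ⟨y, hy, hy'⟩ := H.exists_fix hv w
    obtain ⟨x', hx'⟩ := L.norm y hy' ⟨c, c.2.2⟩
    refine h1 _ x' ?_
    rw [hx', ← O.eq_iota H.ctx.as c c.2.2]
    exact (hy.mul (O.rp c)).mul hy.inv⟩
  obtain ⟨r, n, hr, hn⟩ : ∃ r n : ℕ, r.Prime ∧ L.dd = r ^ n := by
    rcases L.hdd with h | ⟨-, h⟩ | ⟨-, h⟩
    · exact ⟨2, 0, Nat.prime_two, h⟩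
    · exact ⟨3, 1, Nat.prime_three, h⟩
    · exact ⟨2, 1, Nat.prime_two, h⟩
  have := Fact.mk hr
  have h3 : IsPGroup r (M.Group ⧸ ω.range) := fun x => by
    obtain ⟨w, rfl⟩ := QuotientGroup.mk_surjective x
    obtain ⟨y, hy, hy'⟩ := H.exists_fix hv w
    obtain ⟨x', hx'⟩ := L.pow_dd y hy'
    refine ⟨n, ?_⟩
    rw [← QuotientGroup.mk_pow, QuotientGroup.eq_one_iff, ← hn]
    exact h1 _ x' (hx' ▸ hy.pow _)
  have := h3.isNilpotent
  have := solvable_inf H.ctx.solv T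
  exact (Group.isSolvable_iff_subgroup_quotient ω.range).2
    ⟨Group.isSolvable_of_surjective ω.rangeRestrict_surjective, inferInstance⟩

/-- **The Fitting subgroup**, if `T` contains an element of order `r` of the torus. -/
theorem fit_pow {x : T} (hx1 : x ≠ 1) (hx : L.ι x ∈ TT D (KK p)) {r : ℕ} (hr : r.Prime) (hxr : x ^ r = 1) {c : G}
    (hc : c ∈ fit S) {y : YY D p} (hy : IndL L y c) {w : M.Group} (hw : RP hp p w y) : ∃ n : ℕ, w ^ r ^ n = 1 := by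
  have := Fact.mk hr
  have hI : ∀ φ ∈ L.GH S, ∀ a ∈ tors hp p r ⊓ L.ι.range, φ a ∈ tors hp p r ⊓ L.ι.range :=
    fun φ hφ a ha => ⟨H.inv_tors r φ hφ a ha.1, H.inv_range φ hφ a ha.2⟩
  have hr1 : ∀ u ∈ pb L (tors hp p r ⊓ L.ι.range), u ^ r = 1 := fun u hu => by
    obtain ⟨h1, h2⟩ := mem_pb.1 hu
    exact congrArg Subtype.val (L.inj (a₁ := ⟨u, h1⟩ ^ r) (a₂ := 1) (by rw [map_pow, h2.1.2, map_one]))
  have hF : pb L (tors hp p r ⊓ L.ι.range) ≤ fit S := R1.le_fit (p := r) (fun u hu => by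
    obtain ⟨h1, h2⟩ := mem_pb.1 hu
    exact H.mem_S hb (x := ⟨u, h1⟩) (RP.of_mem h2.1.1)) (fun u => ⟨1, Subtype.ext (by rw [pow_one]; exact hr1 u u.2)⟩)
    (H.nm_pb hI)
  obtain ⟨a, m, hm, ham⟩ := Nat.exists_eq_pow_mul_and_not_dvd (orderOf_pos c).ne' r hr.ne_one
  obtain ⟨n, hn⟩ := H.cent hr inf_le_left (fun e => hx1 (L.inj (by
    rw [map_one, ← Subgroup.mem_bot, ← e]
    exact ⟨⟨hx, by rw [← map_pow, hxr, map_one]⟩, x, rfl⟩))) hI (hw.pow (r ^ a)) (by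
      rintro _ ⟨h1, u, rfl⟩
      have h2 : (u : G) ∈ pb L (tors hp p r ⊓ L.ι.range) := coe_mem_pb.2 ⟨h1, u, rfl⟩
      refine (hy.pow H.ctx.as.normal _).comm (R1.fit_commute (pow_mem hc _) (hF h2) ?_)
      refine Nat.Coprime.coprime_dvd_left (orderOf_dvd_of_pow_eq_one (n := m) ?_)
        (Nat.Coprime.coprime_dvd_right (orderOf_dvd_of_pow_eq_one (hr1 _ h2)) ((hr.coprime_iff_not_dvd.2 hm).symm))
      rw [← pow_mul, ← ham, pow_orderOf_eq_one])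
  exact ⟨a + n, by rw [pow_add, pow_mul, hn]⟩

theorem pgroup {x : T} (hx1 : x ≠ 1) (hx : L.ι x ∈ TT D (KK p)) {r : ℕ} (hr : r.Prime) (hxr : x ^ r = 1) (hK : K ≤ fit S)
    {θ : K →* YY D p} {ω : K →* M.Group} (O : Om L θ ω) : IsPGroup r ω.range := by
  rintro ⟨_, c, rfl⟩
  obtain ⟨n, hn⟩ := H.fit_pow hb hx1 hx hr hxr (hK c.2) (O.ind c) (O.rp c)
  exact ⟨n, Subtype.ext hn⟩

end TC

end Cfsg.Agent.SB.Exc.Tor

private theorem dce_22192dd6d75c : _root_.True := by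
  try have : _root_.True := by simp only [_root_.Cfsg.Agent.DS.Nt.RP.congr_simp]
  exact _root_.True.intro
end

-- part: SB/Exc/Max/Perp
section
prune_inst 0x10106104142200000018001260001806b2000092000308002840004008c0cc602045260114f00010101008d02830800811100000021000000a00000040050000000140029318ad00360000000804000000000000000000000000000000000000000000000
set_option linter.all false
open scoped Cfsg.Agent.FastGrp

/-!
# S5765, `BoxMax`: the roots orthogonal to the subsystem of `Z`, and the case of `E₆` (helper52)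
-/

set_option autoImplicit false
set_option linter.unusedSectionVars false

namespace Cfsg.Agent.SB.Exc.Max

open CoxeterSystem Cfsg.Agent.ChevalleyStructure.CoxeterGeom Cfsg.Agent.Tits.Roots Cfsg.Agent.Nodes.Reps
  Cfsg.Agent.Nodes.BNOf Cfsg.Agent.Nodes.Bruhat Cfsg.Agent.LangThm Cfsg.Agent.Nodes.SubComb
  Cfsg.Agent.Nodes.Coroot Cfsg.Agent.Nodes.Slope Cfsg.Agent.Nodes.NormalForm Cfsg.Agent.DL.Base Cfsg.Agent.DL
  Cfsg.Agent.BpExc.Zc
open scoped Pointwise commutatorElement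

namespace PerpL

variable {p : ℕ} [Fact p.Prime] {k : Type} [Field k] [CharP k p] {Y : Type} [Group Y] {N : Type} [Fintype N]
  [DecidableEq N] {ρ : Y →* GL N k} {σ : MulAut Y} {G : Subgroup Y} [IsAlgClosed k] {D : Datum p ρ σ G}

theorem perp_root {P : Set (D.I → ℤ)} : ∀ a ∈ Perp D P, D.Rt a := fun _ h => h.1

theorem perp_neg {P : Set (D.I → ℤ)} : ∀ a ∈ Perp D P, -a ∈ Perp D P := fun _ h =>
  ⟨h.1.neg, fun b hb => by rw [cpr_neg', h.2 b hb, neg_zero]⟩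

theorem perp_g {P : Set (D.I → ℤ)} (hP : ∀ a ∈ P, D.Rt a) (hF : ∀ a ∈ P, D.g a ∈ P) :
    ∀ a ∈ Perp D P, D.g a ∈ Perp D P := fun a ha => ⟨D.g_root a ha.1, fun b hb => by
  obtain ⟨b, hb', rfl⟩ := (D.g_bijOn hP hF).surjOn hb
  exact cpr_g_zero ha.1 (hP b hb') (ha.2 b hb')⟩

theorem dcon_of_dc (h : DC D.cs D.h D.X) {P : Set (D.I → ℤ)} (hP : ∀ a ∈ P, D.Rt a) : ∀ θ ∈ P, DCon D P θ :=
  fun θ hθ c hc => h θ c (hP θ hθ) (hP c hc)

theorem χ_coch (b m : _) (u : kˣ) : D.χ b (D.τ (coch m u)) = ((u ^ (∑ j, D.wt b j * m j) : kˣ) : k) := by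
  rw [D.χ_τ, chr_coch]

variable (D) in
/-- the tori of the coroots of `P` -/
def Zc (P : Set (D.I → ℤ)) : Set Y := {t | ∃ a ∈ P, ∃ u : kˣ, t = D.τ (coch (D.cor a) u)}

theorem zc_le {P : Set (D.I → ℤ)} : Zc D P ⊆ D.T := by
  rintro _ ⟨a, -, u, rfl⟩
  exact D.τ_mem _

theorem sz_zc {P : Set (D.I → ℤ)} (hP : ∀ a ∈ P, D.Rt a) : D.Sz (Zc D P) = Perp D P := by
  ext b
  refine and_congr_right fun _ => ⟨fun h a ha => eq_zero_of_zpow (k := k) fun u => ?_, ?_⟩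
  · have := h _ ⟨a, ha, u, rfl⟩
    rwa [χ_coch, D.pair_cor (hP a ha), Units.val_eq_one] at this
  · rintro h _ ⟨a, ha, u, rfl⟩
    rw [χ_coch, D.pair_cor (hP a ha), h a ha, zpow_zero, Units.val_one]

theorem pr_pow {y : Y} (hy : y ∈ D.NN) (n : ℕ) : D.pr (y ^ n) = D.pr y ^ n := by
  induction n with
  | zero => rw [pow_zero, pow_zero, (D.pr_eq_one_iff (one_mem _)).2 (one_mem _)]
  | succ n ih => rw [pow_succ, pow_succ, D.pr_mul (pow_mem hy n) hy, ih]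

theorem sq_eq_one_of_shp (H : Shp D.cs D.h {a | D.Rt a}) {y : Y} (hy : y ∈ D.NN) (h : y ^ 4 = 1) (hp : p = 2) :
    y ^ 2 = 1 := by
  have h1 := H.sq_eq_one (w := D.pr y) (by rw [← pr_pow hy, h, D.pr_eq_one_iff (one_mem _)]; exact one_mem _)
  rw [← pr_pow hy, D.pr_eq_one_iff (pow_mem hy 2)] at h1
  exact eq_one_of_T_pel h1 (j := 1) (by rwa [hp, ← pow_mul])

theorem eq_one_of_iso (H : Iso D.cs D.h {a | D.Rt a}) {y : Y} (hy : y ∈ D.NN) (h : y ^ p = 1) (hp : p ≠ 2) : y = 1 := by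
  have h1 : D.pr y ^ p = 1 := by rw [← pr_pow hy, h, D.pr_eq_one_iff (one_mem _)]; exact one_mem _
  have h2 := (pow_eq_one_iff_of_coprime ((Nat.coprime_primes Fact.out Nat.prime_two).2 hp)).1 ⟨h1, H.sq_eq_one _⟩
  rw [D.pr_eq_one_iff hy] at h2
  exact eq_one_of_T_pel h2 (j := 1) (by rwa [pow_one])

/-- an element normalising a subgroup of the torus on which no root is trivial normalises the torus -/
theorem mem_NN_of_norm {Z : Subgroup Y} (hZ : (Z : Set Y) ⊆ D.T) (h0 : D.Sz Z = ∅) {y : Y} (hy : y ∈ G)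
    (h1 : ∀ z ∈ Z, y * z * y⁻¹ ∈ Z) (h2 : ∀ z ∈ Z, y⁻¹ * z * y ∈ Z) : y ∈ D.NN := by
  obtain ⟨c, hc, m, hm, -, rfl⟩ := D.exists_conj_form (s := fun z : Z => z) (t := fun z : Z => y * z * y⁻¹)
    (fun z => hZ z.2) (fun z => hZ (h1 z z.2)) hy (fun z => by rw [inv_mul_cancel_right])
  have h3 : c = 1 := Subgroup.mem_bot.1 (RGD.Sup_le (K := ⊥) (fun a ha => by
    have : a ∈ D.Sz Z := ⟨ha.1, fun z hz => ha.2 z ⟨⟨_, h2 z hz⟩, by group⟩⟩
    rw [h0] at this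
    exact this.elim) hc)
  rwa [h3, one_mul]

variable (D) in
/-- the squares of the elements of the torus on which `P` is trivial -/
def Zs (P : Set (D.I → ℤ)) : Set Y := {s | ∃ t ∈ D.T, (∀ a ∈ P, D.χ a t = 1) ∧ s = t * t}

theorem zs_le {P : Set (D.I → ℤ)} : Zs D P ⊆ D.T := by
  rintro _ ⟨t, ht, -, rfl⟩
  exact mul_mem ht ht

theorem zs_F {P : Set (D.I → ℤ)} (hP : ∀ a ∈ P, D.Rt a) (hF : ∀ a ∈ P, D.g a ∈ P) : ∀ s ∈ Zs D P, σ s ∈ Zs D P := by
  rintro _ ⟨t, ht, h, rfl⟩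
  refine ⟨σ t, D.F_mem_T ht, fun b hb => ?_, map_mul _ _ _⟩
  obtain ⟨b, hb', rfl⟩ := (D.g_bijOn hP hF).surjOn hb
  rw [D.χ_F (hP b hb') ht, h b hb', one_pow]

theorem mem_sz_zs {P : Set (D.I → ℤ)} {a : D.I → ℤ} (hr : D.Rt a) (ha : a ∈ P) : a ∈ D.Sz (Zs D P) := by
  refine ⟨hr, ?_⟩
  rintro _ ⟨t, ht, h, rfl⟩
  rw [D.χ_mul a ht ht, h a ha, one_mul]

section Sit

variable {D : Datum p ρ σ ⊤} {e : ℕ} {Γ : Subgroup (MulAut Y)} {K R F0 Z : Subgroup Y} (H : Sit D e Γ K R F0 Z)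
  (hC : DC D.cs D.h D.X)
include H hC

omit H in
theorem comm_perp {u v : Y} (hu : u ∈ D.S (D.Sz Z)) (hv : v ∈ D.S (Perp D (D.Sz Z))) : u * v = v * u :=
  comm_S_S (fun a ha b hb => hC a b ha.1 hb.1 (hb.2 a ha).ge) hu hv

theorem inv_perp : Inv Γ (D.S (Perp D (D.Sz Z))) :=
  H.inv_S perp_root (fun c hc m hm => by rwa [comm_perp hC hc hm, mul_inv_cancel_right])
    fun _ _ _ hβ hZ => perp_g (D := hβ.dat) D.Sz_root fun _ ha => hβ.dat.g_mem_Sz H.le hZ ha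

theorem not_le_perp : ¬ K ≤ D.S (Perp D (D.Sz Z)) := by
  obtain ⟨a, ha⟩ := H.rt
  exact Sit.not_le H.gc (z := D.x a 1) (fun e => one_ne_zero ((D.x_eq_one_iff ha.1).1 e)) fun m hm =>
    comm_perp hC (x_mem_S ha ha.1 1) hm

theorem perp (h : BoxShape) : Iso D.cs D.h (Perp D (D.Sz Z)) ∧ (p ≠ 2 → Perp D (D.Sz Z) = ∅) := by
  have e1 : D.Sz (Zc D (D.Sz Z)) = Perp D (D.Sz Z) := sz_zc D.Sz_root
  have hF : ∀ a ∈ D.Sz (Zc D (D.Sz Z)), D.g a ∈ D.Sz (Zc D (D.Sz Z)) := by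
    rw [e1]
    exact perp_g D.Sz_root fun _ => H.g_mem
  obtain ⟨h1, h2, h3⟩ := h p k Y N ρ σ ⊤ D e (Zc D (D.Sz Z)) H.hyp.he H.hyp.ex H.hyp.cz zc_le hF
    (by rw [e1]; exact H.gc.he _ (inv_perp H hC) (not_le_perp H hC)) (dcon_of_dc hC D.Sz_root)
  have key : ∀ y ∈ D.S (D.Sz (Zc D (D.Sz Z))), σ y = y → (∃ j : ℕ, y ^ p ^ j = 1) → y ∈ (D.sub zc_le hF rfl).NN := by
    intro y hy hσ hp
    have h4 := H.gc.conj_mem y (H.gc.inv _ (inv_perp H hC) (not_le_perp H hC) y (by rwa [← e1]) (H.gc.pel y hσ hp))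
    refine mem_NN_of_norm (D := D.sub zc_le hF rfl) H.le (Set.eq_empty_of_forall_notMem fun c hc => ?_)
      (D.S_le_cen _ hy) (H.inv _ h4) fun z hz => ?_
    · have h5 := io_mem zc_le hF rfl hc.1
      rw [e1] at h5
      have h6 := h5.2 _ ⟨h5.1, hc.2⟩
      rw [cpr_self _ _ h5.1] at h6
      omega
    · have := H.inv _ (inv_mem h4) z hz
      rwa [MulAut.conj_inv_apply] at this
  have hI : Iso D.cs D.h (D.Sz (Zc D (D.Sz Z))) := by
    rcases h3 with h3 | ⟨hp, y, hy, hσ, h4, h5⟩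
    · exact h3
    exact absurd (sq_eq_one_of_shp ((shp_sub_iff zc_le hF rfl).2 h2) (key y hy hσ ⟨2, by rwa [hp]⟩) h4 hp) h5
  refine ⟨e1 ▸ hI, fun hp => ?_⟩
  by_contra h4
  rw [← e1] at h4
  obtain ⟨-, y, hy, hσ, h5, h6⟩ := h1 (Set.nonempty_iff_ne_empty.2 h4)
  exact h6 (eq_one_of_iso ((iso_sub_iff zc_le hF rfl).2 hI) (key y hy hσ ⟨1, by rwa [pow_one]⟩) h5 hp)

end Sit

section Comb

variable {I W : Type} [Fintype I] [DecidableEq I] [Group W] [Finite W] {M : CoxeterMatrix I}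
  {cs : CoxeterSystem M W} {A : I → I → ℤ} {h : IsCartan M A}

/-- a root of `P` that is not orthogonal to `a` lies in the span of the `A₂` generated by `a`, `b` -/
theorem span_of_shp {P : Set (I → ℤ)} (H : Shp cs h P) (hP : ∀ a ∈ P, IsRoot cs h a) (hn : ∀ a ∈ P, -a ∈ P)
    {a b c : I → ℤ} (ha : a ∈ P) (hb : b ∈ P) (hab : a + b ∈ P) (h1 : cpr cs h b a = -1) (hc : c ∈ P)
    (h0 : cpr cs h c a ≠ 0) (f : (I → ℤ) →+ ℤ) (fa : f a = 0) (fb : f b = 0) : f c = 0 := by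
  have h2 := cpr_self cs h (hP a ha)
  have key : ∀ c ∈ P, 0 < cpr cs h c a → f c = 0 := fun c hc h0 => by
    by_cases e : c = a
    · rwa [e]
    rcases H.two a ha c ⟨hc, e, h0⟩ (-b) ⟨hn b hb, fun e => by rw [← e, cpr_neg'] at h2; rw [← e] at h1; omega,
      by rw [cpr_neg']; omega⟩ (a + b) ⟨hab, fun e => (hP b hb).ne_zero (add_eq_left.1 e),
        by rw [cpr_add']; omega⟩ with e | e | e
    · rw [e, map_neg, fb, neg_zero]
    · rw [e, map_add, fa, fb, add_zero]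
    · exact absurd (show a = (2 : ℤ) • (-b) by rw [two_smul, eq_add_neg_iff_add_eq, e]) (ne_two_smul (hP a ha) _)
  rcases lt_or_gt_of_ne h0 with h3 | h3
  · have := key (-c) (hn c hc) (by rw [cpr_neg']; omega)
    rwa [map_neg, neg_eq_zero] at this
  · exact key c hc h3

end Comb

section Six

variable {D : Datum p ρ σ ⊤} {e : ℕ} {Γ : Subgroup (MulAut Y)} {K R F0 Z : Subgroup Y} (H : Sit D e Γ K R F0 Z)
  (hC : DC D.cs D.h D.X) (h6 : E6C D.cs D.h) (h : BoxShape)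
include H hC h6 h

theorem not_iso : ¬ Iso D.cs D.h (D.Sz Z) := fun hI => by
  have hI' := (perp H hC h).1
  have hP : ∀ a ∈ D.Sz Z ∪ Perp D (D.Sz Z), D.Rt a := fun a ha => ha.elim (fun h => h.1) fun h => h.1
  obtain ⟨⟨f, f0, hf⟩, a, ha, b, hb, c, hc, d, hd, r, hr, e2, ea, eb, ec, hab, hac, hbc⟩ :=
    h6.orth (D.Sz Z ∪ Perp D (D.Sz Z)) hP (fun a ha => ha.imp D.Sz_neg (perp_neg a)) (by
      rintro a (ha | ha) b (hb | hb)
      · exact hI.orth (fun _ => D.Sz_neg) ha hb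
      · exact Or.inr (Or.inr (hb.2 a ha))
      · exact Or.inr (Or.inr ((cpr_zero_comm _ _ ha.1 hb.1).1 (ha.2 b hb)))
      · exact hI'.orth perp_neg ha hb) (fun r hr => by
      by_contra h1
      push Not at h1
      have := h1 r (Or.inr ⟨hr, fun a ha => h1 a (Or.inl ha)⟩)
      rw [cpr_self _ _ hr] at this
      omega)
  have hg : ∀ {β : MulAut Y} {g ex} (hβ : FA D β g ex), (∀ z ∈ Z, β z ∈ Z) →
      ∀ a ∈ D.Sz (Zs D (D.Sz Z ∪ Perp D (D.Sz Z))), g a ∈ D.Sz (Zs D (D.Sz Z ∪ Perp D (D.Sz Z))) :=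
    fun hβ hZ a ha => hβ.dat.g_mem_Sz zs_le (zs_F (D := hβ.dat) hP fun a ha => ha.imp (hβ.dat.g_mem_Sz H.le hZ)
      (perp_g (D := hβ.dat) D.Sz_root (fun _ ha => hβ.dat.g_mem_Sz H.le hZ ha) a)) ha
  have hinv : Inv Γ (D.S (D.Sz (Zs D (D.Sz Z ∪ Perp D (D.Sz Z))))) :=
    H.inv_S D.Sz_root (fun c hc m hm => by
      have h1 : c ∈ D.S (D.Sz (Zs D (D.Sz Z ∪ Perp D (D.Sz Z)))) :=
        RGD.Sup_mono (fun b hb => mem_sz_zs hb.1 (Or.inl hb)) hc
      exact mul_mem (mul_mem h1 hm) (inv_mem h1)) fun _ _ _ hβ hZ => hg hβ hZ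
  obtain ⟨z, hz, hz1⟩ : ∃ z ∈ Zs D (D.Sz Z ∪ Perp D (D.Sz Z)), z ≠ 1 := by
    obtain ⟨m, hm⟩ := H.hyp.adj f
    by_contra h1
    push Not at h1
    refine f0 (AddMonoidHom.ext fun x => ?_)
    have h2 : f x + f x = 0 := eq_zero_of_zpow (k := k) fun u => by
      have h3 := h1 _ ⟨D.τ (coch m u), D.τ_mem _, fun a ha => by rw [χ_coch, hm, hf a ha, zpow_zero, Units.val_one], rfl⟩
      have h4 := D.χ_mul x (D.τ_mem (coch m u)) (D.τ_mem (coch m u))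
      rw [h3, D.χ_one, χ_coch, hm, ← Units.val_mul, ← zpow_add, eq_comm, Units.val_eq_one] at h4
      exact h4
    show f x = 0
    omega
  have hE := H.gc.he _ hinv (Sit.not_le H.gc hz1 fun m hm => D.cen_le_centralizer zs_le (D.S_le_cen _ hm) z hz)
  obtain ⟨-, h2, -⟩ := h p k Y N ρ σ ⊤ D e _ H.hyp.he H.hyp.ex H.hyp.cz zs_le (hg (fa_self D) (H.inv σ H.gc.σ_mem)) hE
    (dcon_of_dc hC D.Sz_root)
  have hr' : r ∈ D.Sz (Zs D (D.Sz Z ∪ Perp D (D.Sz Z))) := by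
    refine ⟨hr, ?_⟩
    rintro _ ⟨t, ht, h3, rfl⟩
    rw [D.χ_mul r ht ht, ← D.χ_add, ← two_zsmul, e2, D.χ_add, D.χ_add, D.χ_add, h3 a ha, h3 b hb, h3 c hc, h3 d hd,
      one_mul, one_mul, one_mul]
  have hn : ∀ a ∈ D.Sz Z ∪ Perp D (D.Sz Z), cpr D.cs D.h a r = 1 →
      a ∈ Nb D.cs D.h (D.Sz (Zs D (D.Sz Z ∪ Perp D (D.Sz Z)))) r := fun a ha h1 =>
    ⟨mem_sz_zs (hP a ha) ha, fun e => by rw [e, cpr_self _ _ hr] at h1; omega, by omega⟩
  rcases h2.two r hr' a (hn a ha ea) b (hn b hb eb) c (hn c hc ec) with e | e | e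
  exacts [hab e, hac e, hbc e]

theorem six (w : D.W) : ¬ ∀ a ∈ D.Sz Z, D.act w a = -a := fun hw => by
  obtain ⟨-, h2, -⟩ := h p k Y N ρ σ ⊤ D e Z H.hyp.he H.hyp.ex H.hyp.cz H.le (fun _ => H.g_mem) H.he
    (dcon_of_dc hC D.Sz_root)
  refine not_iso H hC h6 h fun b hb => Set.eq_empty_of_forall_notMem fun a ha => ?_
  have ha' := D.Sz_neg ha.1
  have h1 : cpr D.cs D.h (-a) b = -1 := by rw [cpr_neg', h2.one b hb a ha]
  have h1' : cpr D.cs D.h b (-a) = -1 := by rw [h6.symm _ _ hb.1 ha'.1, h1]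
  have h3 : -a + b ∈ D.Sz Z := by
    have := (Sz_refl hb ha'.1).2 ha'
    rwa [h1, neg_smul, one_smul, sub_neg_eq_add] at this
  obtain ⟨r, r', hr, hr', h4, h5, h7, h8, h9⟩ := h6.perp (-a) b ha'.1 hb.1 h1
  have key : ∀ r, D.Rt r → cpr D.cs D.h r (-a) = 0 → cpr D.cs D.h r b = 0 → r ∈ Perp D (D.Sz Z) := by
    intro r hr f1 f2
    rw [h6.symm _ _ hr ha'.1] at f1
    rw [h6.symm _ _ hr hb.1] at f2
    refine ⟨hr, fun c hc => ?_⟩
    rw [h6.symm _ _ hr hc.1]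
    by_cases g1 : cpr D.cs D.h c (-a) = 0
    · by_cases g2 : cpr D.cs D.h c b = 0
      · exact absurd ⟨hw _ ha', hw _ hb, hw _ hc⟩ (h6.inv w (-a) b c ha'.1 hb.1 hc.1 h1 g1 g2)
      · exact span_of_shp h2 D.Sz_root (fun _ => D.Sz_neg) hb ha' (by rwa [add_comm]) h1 hc g2 (el D.cs D.h r) f2 f1
    · exact span_of_shp h2 D.Sz_root (fun _ => D.Sz_neg) ha' hb h3 h1' hc g1 (el D.cs D.h r) f1 f2
  rcases (perp H hC h).1.orth perp_neg (key r hr h5 h7) (key r' hr' h8 h9) with e | e | e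
  · rw [e, cpr_self _ _ hr] at h4
    omega
  · rw [e, cpr_neg', cpr_self _ _ hr] at h4
    omega
  · omega

end Six

end PerpL

theorem boxPerp_of (h : BoxShape) : BoxPerp := fun _ _ _ _ _ _ _ _ _ _ _ _ _ _ _ _ _ _ _ _ H hC => PerpL.perp H hC h

theorem boxE6_of (h : BoxShape) : BoxE6 := fun _ _ _ _ _ _ _ _ _ _ _ _ _ _ _ _ _ _ _ _ H hC h6 =>
  PerpL.six H hC h6 h

end Cfsg.Agent.SB.Exc.Max
end
end

-- part: SB/Exc/Max/Main_mg
section
set_option linter.all false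
open scoped Cfsg.Agent.FastGrp

-- part: SB/Exc/Max/Top
section
/-!
# S5765, `BoxMax`: the dominant roots and the first step of the main argument (helper50)

`SQ` : `Sit` in a frame in which `σ` preserves the positive roots trivial on `Z`, with `DC`.  `S0` the dominant roots,
`B1 = S0 \ Sz Z`, `B2` the indecomposable ones.  `SQ.rk` (RK1), `SQ.fixU` : a bad lift fixes `U₁ ^ σ` pointwise.
-/

set_option autoImplicit false
set_option linter.unusedSectionVars false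
set_option linter.unusedVariables false

namespace Cfsg.Agent.SB.Exc.Max

open CoxeterSystem Cfsg.Agent.ChevalleyStructure.CoxeterGeom Cfsg.Agent.Tits.Roots Cfsg.Agent.Nodes.Reps
  Cfsg.Agent.Nodes.BNOf Cfsg.Agent.Nodes.Bruhat Cfsg.Agent.LangThm Cfsg.Agent.Nodes.SubComb
  Cfsg.Agent.Nodes.Coroot Cfsg.Agent.Nodes.Slope Cfsg.Agent.Nodes.NormalForm Cfsg.Agent.DL.Base Cfsg.Agent.DL
  Cfsg.Agent.BpExc.Zc
open scoped Pointwise commutatorElement

attribute [local instance] fintypeSmp decSmp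

variable {p : ℕ} [Fact p.Prime] {k : Type} [Field k] [CharP k p] {Y : Type} [Group Y] {N : Type} [Fintype N]
  [DecidableEq N] {ρ : Y →* GL N k} {σ : MulAut Y} [IsAlgClosed k]

section Gen

variable {G : Subgroup Y} {D : Datum p ρ σ G}

theorem eq_one_of_mul_pel {A : Set (D.I → ℤ)} (hA : ∀ a ∈ A, D.Rt a) (lam : (D.I → ℤ) →+ ℤ) (hl : ∀ a ∈ A, 0 < lam a)
    {u t : Y} (hu : u ∈ D.S A) (ht : t ∈ D.T) {j : ℕ} (h : (u * t) ^ p ^ j = 1) : t = 1 := by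
  have key : ∀ n : ℕ, (u * t) ^ n * (t ^ n)⁻¹ ∈ D.S A := fun n => by
    induction n with
    | zero => simp
    | succ n ih =>
      have := mul_mem ih (D.conj_mem_S_of_T hA (pow_mem ht n) hu)
      convert this using 1
      rw [pow_succ, pow_succ]
      group
  have h1 := key (p ^ j)
  rw [h, one_mul, inv_mem_iff] at h1
  obtain ⟨i, hi⟩ := pel_of_pos hA lam hl h1
  exact eq_one_of_T_pel ht (eq_one_of_T_pel (pow_mem ht _) hi)

theorem Cm.map {a b : D.I → ℤ} (ha : D.Rt a) (hb : D.Rt b) (h : Cm D a b) : Cm D (D.g a) (D.g b) := fun u hu v hv => by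
  have h1 := h (σ⁻¹ u) ((D.F_mem_X_iff ha _).1 (by rwa [MulAut.apply_inv_self])) (σ⁻¹ v)
    ((D.F_mem_X_iff hb _).1 (by rwa [MulAut.apply_inv_self]))
  rw [← map_mul, ← map_mul] at h1
  exact (σ⁻¹).injective h1

theorem mem_of_Bs {Z : Set Y} (L : AddSubgroup (D.I → ℤ)) (h : ∀ b ∈ Bs D Z, b ∈ L) {a : D.I → ℤ} (ha : a ∈ D.Sz Z) :
    a ∈ L := by
  obtain ⟨c, -, rfl⟩ := exists_root (Λ := D.Lam Z) ha.1 ha.2
  rw [iota_apply]
  exact sum_mem fun j _ => L.zsmul_mem (h _ ⟨j, rfl⟩) _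

theorem pos_or_neg_Ps {Z : Set Y} {a : D.I → ℤ} (ha : a ∈ D.Sz Z) : a ∈ Ps D Z ∨ -a ∈ Ps D Z := by
  rcases ha.1.pos_or_neg with h | h
  · exact Or.inl ⟨⟨ha.1, h⟩, ha⟩
  · exact Or.inr ⟨⟨ha.1.neg, neg_nonneg.2 h⟩, D.Sz_neg ha⟩

theorem nonneg_of_dm {Z : Set Y} {a b : D.I → ℤ} (hb : Dm D Z b) (ha : a ∈ D.Sz Z) (h : 0 < cpr D.cs D.h b a) :
    a ∈ Ps D Z := (pos_or_neg_Ps ha).resolve_right fun h1 => by
  have := hb _ h1
  rw [cpr_neg_right _ _ _ ha.1] at this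
  omega

theorem finite_Ps (Z : Set Y) : (Ps D Z).Finite := D.finite_roots.subset fun _ h => h.1.1

theorem ht_Ps {Z : Set Y} : ∀ a ∈ Ps D Z, 0 < htHom a := fun a ha => D.ht_pos_of_pos a ha.1

theorem g_mem_Bs {Z : Set Y} {e : ℕ} (hex : ∀ a, D.Rt a → D.ex a = e) (hg : ∀ a ∈ Ps D Z, D.g a ∈ Ps D Z) {a : D.I → ℤ}
    (ha : a ∈ Bs D Z) : D.g a ∈ Bs D Z := by
  rw [mem_Bs] at ha ⊢
  refine ⟨hg a ha.1, fun b hb c hc h => ?_⟩
  obtain ⟨b, hb', rfl⟩ := (D.g_bijOn (fun _ => Ps.root) hg).surjOn hb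
  obtain ⟨c, hc', rfl⟩ := (D.g_bijOn (fun _ => Ps.root) hg).surjOn hc
  have := (g_lin hex hb'.1.1 hc'.1.1 ha.1.1.1 (i := 1) (j := 1)).1 (by rwa [one_smul, one_smul])
  exact ha.2 b hb' c hc' (by rwa [one_smul, one_smul] at this)

variable (D) in
/-- the dominant roots that are not orthogonal to the subsystem -/
def S0 (Z : Set Y) : Set (D.I → ℤ) := {b | D.Rt b ∧ Dm D Z b ∧ ∃ a ∈ Ps D Z, 0 < cpr D.cs D.h b a}

variable (D) in
/-- those outside the subsystem -/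
def B1 (Z : Set Y) : Set (D.I → ℤ) := S0 D Z \ D.Sz Z

variable (D) in
/-- the indecomposable ones -/
def B2 (Z : Set Y) : Set (D.I → ℤ) := {b | b ∈ B1 D Z ∧ ∀ a ∈ S0 D Z, ∀ a' ∈ S0 D Z, a ≠ a' → b ∉ CZ D a a'}

variable (D) in
/-- the sum of the positive coroots -/
noncomputable def lamZ (Z : Set Y) : (D.I → ℤ) →+ ℤ := ∑ a ∈ (finite_Ps (D := D) Z).toFinset, el D.cs D.h a

theorem lamZ_pos {Z : Set Y} : ∀ b ∈ S0 D Z, 0 < lamZ D Z b := by
  rintro b ⟨-, h1, a, ha, h2⟩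
  rw [lamZ, AddMonoidHom.finsetSum_apply]
  exact Finset.sum_pos' (fun c hc => h1 c ((finite_Ps Z).mem_toFinset.1 hc)) ⟨a, (finite_Ps Z).mem_toFinset.2 ha, h2⟩

theorem uni_S0 (Z : Set Y) : D.Uni (S0 D Z) := by
  refine ⟨⟨fun _ h => h.1, ?_⟩, lamZ D Z, lamZ_pos⟩
  rintro b ⟨-, h1, a, ha, h2⟩ b' ⟨-, h3, -⟩ c hc
  exact ⟨hc.1, fun d hd => btwn_nonneg' hc (el D.cs D.h d) (h1 d hd) (h3 d hd), a, ha,
    btwn_pos' hc (el D.cs D.h a) h2 (h3 a ha)⟩

theorem mem_of_B2 {Z : Set Y} (dc : DC D.cs D.h D.X) (L : AddSubgroup (D.I → ℤ)) (h : ∀ b ∈ B2 D Z, b ∈ L) :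
    ∀ b ∈ B1 D Z, b ∈ L := by
  intro b hb
  induction hn : (lamZ D Z b).toNat using Nat.strong_induction_on generalizing b with
  | _ n ih =>
  by_cases h1 : b ∈ B2 D Z
  · exact h b h1
  have h2 : ¬ ∀ a ∈ S0 D Z, ∀ a' ∈ S0 D Z, a ≠ a' → b ∉ CZ D a a' := fun h2 => h1 ⟨hb, h2⟩
  push Not at h2
  obtain ⟨a, ha, a', ha', -, ⟨-, i, j, hi, hj, e⟩, h3⟩ := h2
  have h4 : ¬ 0 ≤ cpr D.cs D.h a' a := fun h => h3 (dc a a' ha.1 ha'.1 h)
  have ps : ∀ c ∈ S0 D Z, c ∈ D.Sz Z → c ∈ Ps D Z := fun c hc hz =>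
    nonneg_of_dm hc.2.1 hz (by rw [cpr_self _ _ hc.1]; omega)
  have p1 := lamZ_pos a ha
  have p2 := lamZ_pos a' ha'
  have h5 : lamZ D Z b = i * lamZ D Z a + j * lamZ D Z a' := by rw [e, map_add, map_zsmul, map_zsmul]; rfl
  rw [e]
  refine L.add_mem (L.zsmul_mem (ih _ ?_ a ⟨ha, fun hz => h4 (ha'.2.1 a (ps a ha hz))⟩ rfl) i)
    (L.zsmul_mem (ih _ ?_ a' ⟨ha', fun hz => h4 ((cpr_nonneg_comm ha.1 ha'.1).1 (ha.2.1 a' (ps a' ha' hz)))⟩ rfl) j)
  · have : lamZ D Z a < lamZ D Z b := by nlinarith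
    omega
  · have : lamZ D Z a' < lamZ D Z b := by nlinarith
    omega

/-- climbing to a dominant root -/
theorem exists_dm {Z : Set Y} {E : Set (D.I → ℤ)} (hE : ∀ c ∈ E, D.Rt c) (hne : E.Nonempty)
    (h : ∀ c ∈ E, ∀ a ∈ Ps D Z, cpr D.cs D.h c a < 0 → c - cpr D.cs D.h c a • a ∈ E) : ∃ c ∈ E, Dm D Z c := by
  obtain ⟨c, hc, hmax⟩ := Set.Finite.exists_maximalFor htHom E (D.finite_roots.subset hE) hne
  refine ⟨c, hc, fun a ha => not_lt.1 fun h1 => ?_⟩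
  have h2 := ht_Ps a ha
  have h3 : htHom c < htHom (c - cpr D.cs D.h c a • a) := by
    rw [map_sub, map_zsmul, smul_eq_mul]
    nlinarith
  have := hmax (h c hc a ha h1) h3.le
  omega

end Gen

/-- the situation in an adapted frame -/
structure SQ (D : Datum p ρ σ ⊤) (e : ℕ) (Γ : Subgroup (MulAut Y)) (K R F0 Z : Subgroup Y) : Prop
    extends Sit D e Γ K R F0 Z where
  q : ∀ a ∈ D.Sz Z, 0 ≤ a → 0 ≤ D.g a
  dc : DC D.cs D.h D.X

namespace SQ

variable {D : Datum p ρ σ ⊤} {e : ℕ} {Γ : Subgroup (MulAut Y)} {K R F0 Z : Subgroup Y} (H : SQ D e Γ K R F0 Z)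
include H

theorem hF : ∀ a ∈ D.Sz Z, D.g a ∈ D.Sz Z := fun _ => H.g_mem

theorem shape : e = 1 ∧ Shp D.cs D.h (D.Sz Z) := by
  obtain ⟨h1, h2, -⟩ := boxShape p k Y N ρ σ ⊤ D e Z H.hyp.he H.hyp.ex H.hyp.cz H.le H.hF H.he
    fun θ hθ c hc h0 => H.dc θ c hθ.1 hc.1 h0
  exact ⟨(h1 H.rt).1, h2⟩

theorem g_Ps : ∀ a ∈ Ps D Z, D.g a ∈ Ps D Z := fun a ha =>
  ⟨⟨D.g_root a ha.1.1, H.q a ha.2 ha.1.2⟩, H.g_mem ha.2⟩

theorem g_S0 : ∀ b ∈ S0 D Z, D.g b ∈ S0 D Z := by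
  rintro b ⟨h0, h1, a, ha, h2⟩
  refine ⟨D.g_root b h0, fun c hc => ?_, _, H.g_Ps a ha, by rwa [cpr_g H.hyp.ex h0 ha.1.1]⟩
  obtain ⟨c, hc', rfl⟩ := (D.g_bijOn (fun _ => Ps.root) H.g_Ps).surjOn hc
  rw [cpr_g H.hyp.ex h0 hc'.1.1]
  exact h1 c hc'

theorem g_B1 : ∀ b ∈ B1 D Z, D.g b ∈ B1 D Z := fun b hb => ⟨H.g_S0 b hb.1, fun h => by
  obtain ⟨c, hc, e⟩ := (D.g_bijOn D.Sz_root H.hF).surjOn h
  exact hb.2 (D.g_inj hc.1 hb.1.1 e ▸ hc)⟩

theorem g_B2 : ∀ b ∈ B2 D Z, D.g b ∈ B2 D Z := fun b hb => ⟨H.g_B1 b hb.1, fun a ha a' ha' hne hc => by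
  obtain ⟨a, ha1, rfl⟩ := (D.g_bijOn (fun _ h => h.1) H.g_S0).surjOn ha
  obtain ⟨a', ha2, rfl⟩ := (D.g_bijOn (fun _ h => h.1) H.g_S0).surjOn ha'
  obtain ⟨⟨-, i, j, hi, hj, e⟩, h1⟩ := hc
  exact hb.2 a ha1 a' ha2 (fun e => hne (congrArg _ e)) ⟨⟨hb.1.1.1, i, j, hi, hj,
    (g_lin H.hyp.ex ha1.1 ha2.1 hb.1.1.1).1 e⟩, fun h => h1 (Cm.map ha1.1 ha2.1 h)⟩⟩

theorem cov {a : D.I → ℤ} (ha : a ∈ Ps D Z) :
    ∃ θ ∈ Ps D Z, Dm D Z θ ∧ D.g θ = θ ∧ (a = θ ∨ (θ = a + D.g a ∧ D.g (D.g a) = a)) :=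
  Max.cov H.le H.hF H.q H.hyp.he H.hyp.ex H.hyp.cz H.he H.dc ha

theorem exists_B1 {a : D.I → ℤ} (ha : a ∈ Ps D Z) : ∃ b ∈ B1 D Z, 0 < cpr D.cs D.h b a := by
  obtain ⟨θ, hθ, hd, -, h1⟩ := H.cov ha
  obtain ⟨b, hb, hbd⟩ := exists_dm (Z := Z) (E := {c | D.Rt c ∧ c ∉ D.Sz Z ∧ 0 < cpr D.cs D.h c θ}) (fun _ h => h.1) (by
    obtain ⟨c₁, c₂, c₃, r₁, r₂, r₃, n₁, n₂, n₃, e₁, e₂, e₃⟩ := H.hyp.ir θ hθ.1.1
    by_contra h2
    have key : ∀ c, D.Rt c → cpr D.cs D.h c θ = 1 → c ∈ Nb D.cs D.h (D.Sz Z) θ := fun c hc e =>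
      ⟨by_contra fun h => h2 ⟨c, hc, h, by omega⟩, fun h => by rw [h, cpr_self _ _ hθ.1.1] at e; omega, by omega⟩
    rcases H.shape.2.two θ hθ.2 c₁ (key _ r₁ e₁) c₂ (key _ r₂ e₂) c₃ (key _ r₃ e₃) with h | h | h
    exacts [n₁ h, n₂ h, n₃ h]) fun c hc d hd' h0 => ⟨isRoot_refl _ _ hc.1 hd'.1.1,
      fun h => hc.2.1 ((Sz_refl hd'.2 hc.1).1 h), by
        rw [cpr_sub, cpr_smul']
        have := (cpr_nonneg_comm hθ.1.1 hd'.1.1).1 (hd d hd')
        nlinarith [hc.2.2]⟩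
  have hb1 : b ∈ B1 D Z := ⟨⟨hb.1, hbd, θ, hθ, hb.2.2⟩, hb.2.1⟩
  rcases h1 with rfl | ⟨h1, -⟩
  · exact ⟨b, hb1, hb.2.2⟩
  · have := Fintype.ofFinite D.W
    have h2 := hb.2.2
    rw [cpr_pos_iff _ _ _ hθ.1.1, h1, form_add_right] at h2
    by_cases h3 : 0 < form D.cs D.h b a
    · exact ⟨b, hb1, (cpr_pos_iff _ _ _ ha.1.1).2 h3⟩
    · obtain ⟨b', hb', rfl⟩ := (D.g_bijOn (fun _ h => h.1.1) H.g_B1).surjOn hb1
      refine ⟨b', hb', ?_⟩
      rw [← cpr_g H.hyp.ex hb'.1.1 ha.1.1, cpr_pos_iff _ _ _ (D.g_root a ha.1.1)]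
      omega

theorem exists_x : ∃ κ, Crd D (S0 D Z) (B2 D Z) κ ∧ ∃ x ∈ D.S (S0 D Z), x ∈ K ∧ ∀ b ∈ B2 D Z, κ b x ≠ 0 := by
  obtain ⟨κ, C⟩ := exists_crd_uni (crel_cz H.hyp.cz) (uni_S0 (D := D) Z) (B := B2 D Z) (fun _ h => h.1.1)
    fun a ha a' ha' hne b hb => hb.2 a ha a' ha' hne
  have hr : ∀ b ∈ B2 D Z, D.Rt b := fun _ h => h.1.1.1
  obtain ⟨t, h1, h2⟩ := exists_full (p := p) (cF_ne (D := D)) H.hyp.he (D.finite_roots.subset hr) (g_injOn hr) H.g_B2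
    fun b hb => periodic (hr b hb)
  obtain ⟨x, hx, h3, h4⟩ := C.exists_fix H.g_S0 H.g_B2 (t := t) fun b hb => by rw [H.hyp.ex b (hr b hb), h1 b hb]
  exact ⟨κ, C, x, hx, H.gc.pel x h3 (pel_of_uni (uni_S0 (D := D) Z) hx), fun b hb => by rw [h4 b hb]; exact h2 b hb⟩

theorem cm_mem {x : Y} (hx : x ∈ D.S (S0 D Z)) {z : Y} (hz : z ∈ Z) : x * z * x⁻¹ * z⁻¹ ∈ D.S (S0 D Z) := by
  have := mul_mem hx (D.conj_mem_S_of_T (fun _ h => h.1) (H.le hz) (inv_mem hx))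
  rwa [← mul_assoc, ← mul_assoc] at this

/-- RK1 -/
theorem rk {x : Y} (hx : x ∈ D.S (S0 D Z)) {φ : MulAut Y} (hφ : Bad Γ R F0 x φ) {z : Y} (hz : z ∈ Z) :
    φ x * z * (φ x)⁻¹ = x * z * x⁻¹ := by
  have h1 : x⁻¹ * (φ x * z * (φ x)⁻¹) * x ∈ Z := by
    have := H.inv _ (mul_mem hφ.mem' (inv_mem hφ.mem)) z hz
    convert this using 1
    show _ = x⁻¹ * φ (x * φ⁻¹ z * x⁻¹) * x
    rw [map_mul, map_mul, map_inv, MulAut.apply_inv_self]
  obtain ⟨z', hz', e⟩ : ∃ z' ∈ Z, φ x * z * (φ x)⁻¹ = x * z' * x⁻¹ := ⟨_, h1, by group⟩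
  obtain ⟨j, hj⟩ := pel_of_uni (uni_S0 (D := D) Z) (H.cm_mem hx (H.inv _ (inv_mem hφ.mem) z hz))
  have h2 := congrArg φ hj
  rw [map_pow, map_one, map_mul, map_mul, map_mul, map_inv, map_inv, MulAut.apply_inv_self, e,
    show x * z' * x⁻¹ * z⁻¹ = x * z' * x⁻¹ * z'⁻¹ * (z' * z⁻¹) by group] at h2
  have h3 := eq_one_of_mul_pel (fun _ h => h.1) _ lamZ_pos (H.cm_mem hx hz') (H.le (mul_mem hz' (inv_mem hz))) h2
  rw [e, mul_inv_eq_one.1 h3]

theorem comm_U {u y : Y} (hu : u ∈ D.S (Ps D Z)) (hy : y ∈ D.S (S0 D Z)) : u * y = y * u :=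
  comm_S_S (fun a ha b hb => H.dc a b ha.1.1 hb.1 (hb.2.1 a ha)) hu hy

theorem U_le : D.S (Ps D Z) ≤ D.S (D.Sz Z) := RGD.Sup_mono Set.inter_subset_right

/-- a bad lift fixes `U₁ ^ σ` -/
theorem fixU {κ : (D.I → ℤ) → Y → k} (C : Crd D (S0 D Z) (B2 D Z) κ) {x : Y} (hx : x ∈ D.S (S0 D Z))
    (hκ : ∀ b ∈ B2 D Z, κ b x ≠ 0) {φ : MulAut Y} (hφ : Bad Γ R F0 x φ) {u : Y} (hu : u ∈ D.S (Ps D Z)) (hσ : σ u = u) :
    φ u = u := by
  obtain ⟨j, hj⟩ := pel_of_pos (fun _ => Ps.root) _ ht_Ps hu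
  have hf := hφ.fit u (H.gc.inv _ H.inv_M H.not_le_M u (H.U_le hu) (H.gc.pel u hσ ⟨j, hj⟩))
  have hfM : φ u * u⁻¹ ∈ D.S (D.Sz Z) := mul_mem (H.inv_M φ hφ.mem u (H.U_le hu)) (inv_mem (H.U_le hu))
  have hc : ∀ z ∈ Z, φ u * u⁻¹ * (x * z * x⁻¹ * z⁻¹) = x * z * x⁻¹ * z⁻¹ * (φ u * u⁻¹) := fun z hz => by
    have h1 := congrArg φ (H.comm_U hu (H.cm_mem hx (H.inv _ (inv_mem hφ.mem) z hz)))
    simp only [map_mul, map_inv, MulAut.apply_inv_self] at h1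
    rw [H.rk hx hφ hz] at h1
    rw [mul_assoc, H.comm_U (inv_mem hu) (H.cm_mem hx hz), ← mul_assoc, h1, mul_assoc]
  obtain ⟨v, u₁, hu₁, m, hmc, hm, u₂, hu₂, e⟩ := sub_nf H.le H.hF (D.S_le_cen _ hfM)
  have h1 : ∀ b ∈ B2 D Z, D.act (D.subW Z v) b = b := fun b hb => by
    have h2 : ¬ ∀ z ∈ (Z : Set Y), D.χ b z = 1 := fun h => hb.1.2 ⟨hb.1.1.1, h⟩
    push Not at h2
    obtain ⟨z, hz, h2⟩ := h2
    have hy := H.cm_mem hx hz
    have h3 : m * (x * z * x⁻¹ * z⁻¹) * m⁻¹ = x * z * x⁻¹ * z⁻¹ := by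
      have h4 := hc z hz
      generalize x * z * x⁻¹ * z⁻¹ = y at hy h4
      rw [e] at h4
      calc m * y * m⁻¹ = u₁⁻¹ * (u₁ * m * (y * u₂)) * u₂⁻¹ * m⁻¹ := by group
        _ = u₁⁻¹ * (y * u₁) := by rw [← H.comm_U hu₂ hy, ← mul_assoc (u₁ * m), h4]; group
        _ = y := by rw [← H.comm_U hu₁ hy, inv_mul_cancel_left]
    have h5 := inf_S (uni_S0 (D := D) Z) ((uni_S0 (D := D) Z).act (D.subW Z v)) hy
      (h3 ▸ D.conj_mem_S hm (fun _ h => h.1) (fun a ha => Set.mem_image_of_mem _ ha) hy)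
    have h6 : b ∈ S0 D Z ∩ D.act (D.subW Z v) '' S0 D Z := by
      by_contra h7
      have h8 := C.zero_of_mem hb Set.inter_subset_left h7 h5
      rw [mul_assoc, mul_assoc, ← mul_assoc z, C.mul b hb _ hx _
        (D.conj_mem_S_of_T (fun _ h => h.1) (H.le hz) (inv_mem hx)), C.tor hb (H.le hz) (inv_mem hx), C.inv hb hx] at h8
      exact h2 (mul_right_cancel₀ (hκ b hb) (by linear_combination -h8))
    obtain ⟨-, b₀, hb₀, rfl⟩ := h6
    rw [eq_of_dm H.le H.hF hb₀.2.1 hb.1.1.2.1, eq_of_dm H.le H.hF hb₀.2.1 hb.1.1.2.1]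
  have h2 := mem_of_B2 H.dc ((rep D.cs D.h (D.subW Z v)).toAddMonoidHom.eqLocus (AddMonoidHom.id _)) h1
  have h3 : v = 1 := subW_eq_one H.le H.hF fun a ha => by
    have ha' := bs_mem_Ps ha
    obtain ⟨b, hb, h4⟩ := H.exists_B1 ha'
    rw [← cpr_act (D.subW Z v) b ha'.1.1, show D.act (D.subW Z v) b = b from h2 b hb] at h4
    have h5 : D.act (D.subW Z v) a ∈ Ps D Z := nonneg_of_dm hb.1.2.1 (act_subW_mem H.le H.hF v ha'.2) h4
    exact h5.1.2
  rw [h3, map_one] at hm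
  have hT := hm.mem_of_one
  have h4 : m = 1 := eq_one_of_mul_pel (fun _ => Ps.root) _ ht_Ps
    (mul_mem hu₁ (D.conj_mem_S_of_T (fun _ => Ps.root) hT (mul_mem hu₂ hu))) hT (j := j) (by
      rw [show u₁ * (m * (u₂ * u) * m⁻¹) * m = u₁ * m * u₂ * u by group, ← e, inv_mul_cancel_right, ← map_pow, hj,
        map_one])
  rw [h4, mul_one] at e
  obtain ⟨i, hi⟩ := pel_of_pos (fun _ => Ps.root) _ ht_Ps (mul_mem hu₁ hu₂)
  exact mul_inv_eq_one.1 (H.gc.F0_pel _ hf i (by rw [e, hi]))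

end SQ

end Cfsg.Agent.SB.Exc.Max
end

-- part: SB/Exc/Max/Main
section
/-!
# S5765, `BoxMax`: the main argument (helper50)

`SQ.stepB`, `SQ.stepD` : the form of a lift fixing `U₁ ^ σ`; `SQ.not_odd`, `SQ.not_graph`, `SQ.not_inner`; `boxMain_of`.
-/

set_option autoImplicit false
set_option linter.unusedSectionVars false
set_option linter.unusedVariables false
set_option maxHeartbeats 400000

namespace Cfsg.Agent.SB.Exc.Max

open CoxeterSystem Cfsg.Agent.ChevalleyStructure.CoxeterGeom Cfsg.Agent.Tits.Roots Cfsg.Agent.Nodes.Reps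
  Cfsg.Agent.Nodes.BNOf Cfsg.Agent.Nodes.Bruhat Cfsg.Agent.LangThm Cfsg.Agent.Nodes.SubComb
  Cfsg.Agent.Nodes.Coroot Cfsg.Agent.Nodes.Slope Cfsg.Agent.Nodes.NormalForm Cfsg.Agent.DL.Base Cfsg.Agent.DL
  Cfsg.Agent.BpExc.Zc
open scoped Pointwise commutatorElement

attribute [local instance] fintypeSmp decSmp

variable {p : ℕ} [Fact p.Prime] {k : Type} [Field k] [CharP k p] {Y : Type} [Group Y] {N : Type} [Fintype N]
  [DecidableEq N] {ρ : Y →* GL N k} {σ : MulAut Y} [IsAlgClosed k]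

section Gen

variable {G : Subgroup Y} {D : Datum p ρ σ G}

theorem exists_pos_twist {Z : Set Y} (hZ : Z ⊆ D.T) (hF : ∀ a ∈ D.Sz Z, D.g a ∈ D.Sz Z) :
    ∃ m ∈ D.NN, m ∈ D.cen Z ∧ ∀ a ∈ Ps D Z, D.act (D.pr m) (D.g a) ∈ Ps D Z := by
  obtain ⟨m, hm, -⟩ := (D.sub hZ hF rfl).exists_rp (D.sub hZ hF rfl).wF⁻¹
  have h1 := D.rp_of_sub hZ hF rfl hm
  refine ⟨m, ⟨_, h1⟩, Datum.Rp.mem_G hm, fun a ha => ?_⟩
  obtain ⟨c, hc, rfl⟩ := exists_io hZ hF rfl ha.2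
  have h2 := ((D.sub hZ hF rfl).wF_spec hc).2 ((io_nonneg hZ hF rfl hc).1 ha.1.2)
  have h3 := ((D.sub hZ hF rfl).g_root c hc).act (D.sub hZ hF rfl).wF⁻¹
  rw [Datum.Rp.pr_eq h1, ← D.sub_g hZ hF rfl hc, D.act_subW hZ hF rfl]
  exact ⟨⟨(io_mem hZ hF rfl h3).1, iota_nonneg h2⟩, io_mem hZ hF rfl h3⟩

theorem exists_crd_Ps {Z : Set Y} (hZ : Z ⊆ D.T) (hF : ∀ a ∈ D.Sz Z, D.g a ∈ D.Sz Z) (cz : CommZ D.cs D.h D.X) :
    ∃ κ, Crd D (Ps D Z) (Bs D Z) κ := by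
  refine exists_crd (crel_cz cz) (fun _ => Ps.root) htHom ht_Ps (fun _ => bs_mem_Ps) ?_
  rintro a ha a' ha' hne c ⟨⟨hc, i, j, hi, hj, e⟩, -⟩
  refine ⟨⟨⟨hc, ?_⟩, ?_⟩, fun hb => not_btwn_Bs hZ hF ha ha' hne hb ⟨hc, 1, i, j, one_pos, hi, hj, by rw [one_smul, e]⟩⟩
  · rw [e]
    exact add_nonneg (smul_nonneg hi.le ha.1.2) (smul_nonneg hj.le ha'.1.2)
  · rw [e] at hc ⊢
    exact Sz_sub ha.2 ha'.2 hc

theorem Ps_le_U {Z : Set Y} : D.S (Ps D Z) ≤ D.U := RGD.Sup_mono Set.inter_subset_left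

theorem act_pow_eq {w : D.W} {a : D.I → ℤ} (h : D.act w a = a) (i : ℕ) : D.act (w ^ i) a = a := by
  induction i with
  | zero => rw [pow_zero, act_one]
  | succ i ih => rw [pow_succ, act_mul, h, ih]

theorem act_ne_neg {w : D.W} {s : ℕ} (hs : Odd s) (hw : w ^ s = 1) {a : D.I → ℤ} (ha : D.Rt a) : D.act w a ≠ -a := by
  intro h
  obtain ⟨n, rfl⟩ := hs
  have h1 : D.act (w ^ 2) a = a := by rw [pow_two, act_mul, h, act_neg, h, neg_neg]
  have h2 := act_pow_eq h1 n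
  have h3 : D.act (w ^ (2 * n + 1)) a = -a := by rw [pow_succ, act_mul, h, act_neg, pow_mul, h2]
  rw [hw, act_one] at h3
  have h4 := congrArg htHom h3
  rw [map_neg] at h4
  exact ht_ne_zero ha (by omega)

theorem Graph.conj {φ : MulAut Y} (H : Graph D φ) {y : Y} (hy : y ∈ G) (hF : y⁻¹ * σ y ∈ D.NN) :
    Graph (D.conj hy hF) φ := ⟨H.1, H.2.1.conj hy hF, H.2.2.conj hy hF⟩

theorem OddD.conj {φ : MulAut Y} (H : OddD D φ) {y : Y} (hy : y ∈ G) (hF : y⁻¹ * σ y ∈ D.NN) :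
    OddD (D.conj hy hF) φ := ⟨H.1.imp fun _ h => h.conj hy hF, H.2⟩

end Gen

namespace SQ

variable {D : Datum p ρ σ ⊤} {e : ℕ} {Γ : Subgroup (MulAut Y)} {K R F0 Z : Subgroup Y} (H : SQ D e Γ K R F0 Z)
include H

theorem g_Bs : ∀ a ∈ Bs D Z, D.g a ∈ Bs D Z := fun _ => g_mem_Bs H.hyp.ex H.g_Ps

/-- a lift fixing `U₁ ^ σ` normalises `U₁` -/
theorem stepB {ψ : MulAut Y} (hψ : ψ ∈ Γ) {ex : (D.I → ℤ) → ℕ} (h : IsFA D ψ ex)
    (hf : ∀ u ∈ D.S (Ps D Z), σ u = u → ψ u = u) :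
    ∃ u ∈ D.S (Ps D Z), ∃ β h, FA D β h ex ∧ ψ = MulAut.conj u * β ∧ ∀ a ∈ Ps D Z, h a ∈ Ps D Z := by
  obtain ⟨c, hc, β, h, hβ, e1, hZ⟩ := H.str hψ h
  obtain ⟨m₁, hm₁, hm₁', h1⟩ := exists_pos_twist (D := hβ.dat) (Z := Z) H.le fun a ha => hβ.dat.g_mem_Sz H.le hZ ha
  replace hm₁ : m₁ ∈ D.NN := hm₁
  replace hm₁' : m₁ ∈ D.cen Z := hm₁'
  replace h1 : ∀ a ∈ Ps D Z, D.act (D.pr m₁) (h a) ∈ Ps D Z := h1
  obtain ⟨v, u, hu, m, -, hm, u', hu', e2⟩ := sub_nf H.le H.hF (mul_mem (D.S_le_cen _ hc) (inv_mem hm₁'))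
  obtain ⟨κ, C⟩ := exists_crd_Ps H.le H.hF H.hyp.cz
  have hr : ∀ b ∈ Bs D Z, D.Rt b := fun _ hb => (bs_mem_Ps hb).1.1
  obtain ⟨t, t1, t2⟩ := exists_full (p := p) (cF_ne (D := D)) H.hyp.he (D.finite_roots.subset hr) (g_injOn hr) H.g_Bs
    fun b hb => periodic (hr b hb)
  obtain ⟨y, hy, hσ, h4⟩ := C.exists_fix H.g_Ps H.g_Bs (t := t) fun b hb => by rw [H.hyp.ex b (hr b hb), t1 b hb]
  have e3 : c = u * m * u' * m₁ := by rw [← e2, inv_mul_cancel_right]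
  have h5 : (MulAut.conj m₁ * β) y ∈ D.S (Ps D Z) := (hβ.twist hm₁).dat.F_mem_S (fun _ => Ps.root) h1 hy
  have h6 : u⁻¹ * y * u⁻¹⁻¹ = m * (u' * (MulAut.conj m₁ * β) y * u'⁻¹) * m⁻¹ := by
    have := hf y hy hσ
    rw [e1, e3, MulAut.mul_apply, MulAut.conj_apply] at this
    rw [MulAut.mul_apply, MulAut.conj_apply]
    generalize β y = y' at this
    rw [← this]
    group
  have h7 : u⁻¹ * y * u⁻¹⁻¹ ∈ D.S (Ps D Z) := mul_mem (mul_mem (inv_mem hu) hy) (inv_mem (inv_mem hu))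
  have h8 : u⁻¹ * y * u⁻¹⁻¹ ∈ D.S (RGD.Pos D.cs D.h ∩ D.act (D.subW Z v) '' RGD.Pos D.cs D.h) :=
    inf_S D.uni_pos (D.uni_pos.act _) (Ps_le_U h7) (h6 ▸ D.conj_mem_S hm (fun _ h => h.1)
      (fun a ha => Set.mem_image_of_mem _ ha) (Ps_le_U (mul_mem (mul_mem hu' h5) (inv_mem hu'))))
  have h9 : u⁻¹ * y * u⁻¹⁻¹ ∈ D.S (RGD.Pos D.cs D.h ∩ D.act (D.subW Z v) '' RGD.Pos D.cs D.h ∩ D.Sz Z) := by
    rw [← (D.uni_pos.subset (D.cl_pos.inter (D.uni_pos.act _).cl) Set.inter_subset_left).inf_centralizer H.le]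
    exact ⟨h8, D.cen_le_centralizer H.le (D.S_le_cen _ (H.U_le h7))⟩
  have h10 : v⁻¹ = 1 := subW_eq_one H.le H.hF fun b hb => by
    by_contra h0
    have h11 := C.zero_of_mem hb (fun a ha => ⟨ha.1.1, ha.2⟩) (fun h12 => h0 ?_) h9
    · rw [C.conj hb (inv_mem hu) hy, h4 b hb] at h11
      exact t2 b hb h11
    · obtain ⟨⟨-, a, ha, rfl⟩, -⟩ := h12
      rw [map_inv, act_inv_act]
      exact ha.2
  rw [inv_eq_one.1 h10, map_one] at hm
  have hT := hm.mem_of_one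
  refine ⟨u * (m * u' * m⁻¹), mul_mem hu (D.conj_mem_S_of_T (fun _ => Ps.root) hT hu'), _, _,
    hβ.twist (mul_mem (D.T_le_NN hT) hm₁), ?_, fun a ha => ?_⟩
  · rw [e1, e3, ← mul_assoc, ← map_mul]
    congr 2
    group
  · rw [D.pr_mul (D.T_le_NN hT) hm₁, Datum.Rp.pr_eq hm, one_mul]
    exact h1 a ha

/-- comparison with `σ` on the simple root groups -/
theorem stepD {u : Y} (hu : u ∈ D.S (Ps D Z)) {β : MulAut Y} {h : (D.I → ℤ) → (D.I → ℤ)} (hβ : FA D β h fun _ => 1)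
    (hh : ∀ a ∈ Ps D Z, h a ∈ Ps D Z) (hf : ∀ y ∈ D.S (Ps D Z), σ y = y → u * β y * u⁻¹ = y) {b : D.I → ℤ}
    (hb : b ∈ Bs D Z) : h b = D.g b ∧ ∀ s, β (D.x b s) = σ (D.x b s) := by
  obtain ⟨κ, C⟩ := exists_crd_Ps H.le H.hF H.hyp.cz
  have hb0 := bs_mem_Ps hb
  have hr : D.Rt b := hb0.1.1
  have he := H.shape.1
  have hb' : h b ∈ Bs D Z := g_mem_Bs (D := hβ.dat) (e := 1) (fun _ _ => rfl) hh hb
  obtain ⟨d, hd, hx⟩ := hβ.x b hr
  have key : ∀ y ∈ D.S (Ps D Z), σ y = y → κ (h b) y = d * κ b y ^ p ^ 1 ∧ κ (D.g b) y = cF D b * κ b y ^ p ^ 1 :=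
    fun y hy hσ => by
      constructor
      · rw [← C.map β hh (fun a ha s => hβ.dat.F_mem_X ha.1.1 (D.x_mem ha.1.1 s)) hb hb'
          (fun a ha e => hβ.dat.g_inj ha.1.1 hr e) hx hy,
          ← C.conj hb' hu (hβ.dat.F_mem_S (fun _ => Ps.root) hh hy), hf y hy hσ]
      · have := C.mapF H.g_Ps hb (H.g_Bs b hb) hy
        rwa [hσ, H.hyp.ex b hr, he] at this
  have h2 : D.g (D.g b) = b := by
    obtain ⟨θ, -, -, h1, rfl | ⟨-, h2⟩⟩ := H.cov hb0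
    · rw [h1, h1]
    · exact h2
  obtain ⟨c, hc, h3⟩ := C.exists_orbit H.hyp.ex H.g_Ps H.g_Bs hb
  have hm := Function.minimalPeriod_pos_of_mem_periodicPts (periodic (D := D) hr)
  have hp1 : 1 < p := (Fact.out : p.Prime).one_lt
  have h4 : h b = D.g b := by
    by_contra h4
    have h5 : D.g b = b ∨ 2 ≤ Function.minimalPeriod D.g b := by
      by_contra h5
      push Not at h5
      exact h5.1 (Function.minimalPeriod_eq_one_iff_isFixedPt.1 (by omega))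
    obtain ⟨s, s1, s2⟩ := exists_sol (p := p) hc (Nat.mul_pos H.hyp.he hm)
      (E := if D.g b = b then {0} else {s | d * s ^ p ^ 1 = s})
      (by
        split_ifs
        · exact Set.finite_singleton _
        · exact Set.finite_of_ncard_pos (by rw [ncard_sol hd one_pos]; positivity))
      (by
        split_ifs with h6
        · rw [Set.ncard_singleton]
          exact Nat.one_lt_pow (Nat.mul_pos H.hyp.he hm).ne' hp1
        · rw [ncard_sol hd one_pos, he, one_mul]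
          exact Nat.pow_lt_pow_right hp1 (h5.resolve_left h6))
    have s0 : s ≠ 0 := fun h0 => s2 (by
      split_ifs
      · exact h0
      · show d * s ^ p ^ 1 = s
        rw [h0, zero_pow (by positivity), mul_zero])
    obtain ⟨y, hy, hσ, rfl, h6⟩ := h3 s s1
    have h7 := (key y hy hσ).1
    obtain ⟨i, hi⟩ := h6 _ hb' (by rw [h7]; exact mul_ne_zero hd (pow_ne_zero _ s0))
    have h8 : ∀ i, D.g^[i] b = b ∨ D.g^[i] b = D.g b := fun i => by
      induction i with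
      | zero => exact Or.inl rfl
      | succ i ih =>
        rw [Function.iterate_succ_apply']
        rcases ih with h | h <;> rw [h]
        exacts [Or.inr rfl, Or.inl h2]
    have h9 : h b = b := hi ▸ (h8 i).resolve_right fun h9 => h4 (hi ▸ h9)
    rw [if_neg fun h10 => h4 (h9.trans h10.symm)] at s2
    rw [h9] at h7
    exact s2 h7.symm
  refine ⟨h4, fun s => ?_⟩
  obtain ⟨s, s1, s0⟩ := exists_sol_ne (p := p) hc (Nat.mul_pos H.hyp.he hm)
  obtain ⟨y, hy, hσ, rfl, -⟩ := h3 s s1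
  obtain ⟨h7, h8⟩ := key y hy hσ
  rw [h4, h8] at h7
  rw [hx, F_x hr, H.hyp.ex b hr, he, h4, mul_right_cancel₀ (pow_ne_zero _ s0) h7]

theorem exists_Ps : ∃ a, a ∈ Ps D Z := by
  obtain ⟨a, ha⟩ := H.rt
  exact (pos_or_neg_Ps ha).elim (fun h => ⟨_, h⟩) fun h => ⟨_, h⟩

theorem not_odd {φ : MulAut Y} (hφ : φ ∈ Γ) (hf : ∀ u ∈ D.S (Ps D Z), σ u = u → φ u = u) : ¬ OddD D φ := by
  rintro ⟨⟨ex, h⟩, n, hn, hq⟩
  obtain ⟨u, hu, β, h, hβ, e1, -⟩ := H.stepB hφ h hf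
  obtain ⟨a, ha⟩ := H.exists_Ps
  obtain ⟨θ, hθ, hd, hg, -⟩ := H.cov ha
  have hr : D.Rt θ := hθ.1.1
  obtain ⟨s, s1, s0⟩ := exists_sol_ne (p := p) (cF_ne (D := D) θ) H.hyp.he
  have h1 := hf _ (x_mem_S hθ hr s) (by rw [F_x hr, H.hyp.ex θ hr, hg, s1])
  have h2 := H.comm_U hu (x_mem_S (A := S0 D Z) ⟨hr, hd, θ, hθ, by rw [cpr_self _ _ hr]; omega⟩ hr s)
  have h3 : β (D.x θ s) = D.x θ s := by
    rw [e1, MulAut.mul_apply, MulAut.conj_apply, mul_inv_eq_iff_eq_mul, ← h2] at h1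
    exact mul_left_cancel h1
  have h4 : h θ = θ := by
    by_contra h4
    exact s0 ((D.x_eq_one_iff hr).1 (D.eq_one_of_mem_X_X (hβ.root θ hr) hr h4
      (h3 ▸ hβ.dat.F_mem_X hr (D.x_mem hr s)) (D.x_mem hr s)))
  have h5 := hq u⁻¹
  rw [e1, ← mul_assoc, ← map_mul, inv_mul_cancel, map_one, one_mul] at h5
  have h6 : ∑ i ∈ Finset.range 1, ∑ j ∈ Finset.range 2, ex (h^[j] ((h^[2])^[i] θ)) = n * 1 :=
    h5.sum_ex (hβ.dat.pow two_pos) hr one_pos (show h (h θ) = θ by rw [h4, h4])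
  simp only [Finset.sum_range_succ, Finset.sum_range_zero, Function.iterate_zero, Function.iterate_succ, id,
    Function.comp, h4] at h6
  obtain ⟨j, rfl⟩ := hn
  omega

theorem not_graph (hE : BoxE6) {φ : MulAut Y} (hφ : φ ∈ Γ) (hf : ∀ u ∈ D.S (Ps D Z), σ u = u → φ u = u) :
    ¬ Graph D φ := by
  rintro ⟨h6, h, y, w, h1, h2⟩
  have hf' : ∀ u ∈ D.S (Ps D Z), σ u = u → (σ * φ) u = u := fun u hu hσ => by rw [MulAut.mul_apply, hf u hu hσ, hσ]
  obtain ⟨u, hu, β, h, hβ, e1, hh⟩ := H.stepB (mul_mem H.gc.σ_mem hφ) h hf'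
  have e2 : ∀ t, (MulAut.conj y * φ) t = y * σ⁻¹ u * σ⁻¹ (β t) * (y * σ⁻¹ u)⁻¹ := fun t => by
    rw [eq_inv_mul_iff_mul_eq.2 e1]
    simp only [MulAut.mul_apply, MulAut.conj_apply, map_mul, map_inv]
    group
  have hn : y * σ⁻¹ u ∈ D.NN := D.mem_NN_of_conj (Subgroup.mem_top _) fun t ht => by
    have := h1 (β⁻¹ (σ t)) ((hβ.dat.F_mem_T_iff _).1 (by rw [MulAut.apply_inv_self]; exact D.F_mem_T ht))
    rwa [e2, MulAut.apply_inv_self, MulAut.inv_apply_self] at this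
  refine hE p k Y N ρ σ D e Γ K R F0 Z H.toSit H.dc h6 (w⁻¹ * D.pr (y * σ⁻¹ u)) fun a ha => ?_
  refine map_eq_of_Bs (rep D.cs D.h (w⁻¹ * D.pr (y * σ⁻¹ u))).toAddMonoidHom (-AddMonoidHom.id _) (fun b hb => ?_) ha
  have hr : D.Rt b := (bs_mem_Ps hb).1.1
  have h3 := (H.stepD hu hβ hh (fun y hy hσ => by have := hf' y hy hσ; rwa [e1] at this) hb).2 1
  have h4 := h2 b hr _ (D.x_mem hr 1)
  rw [e2, h3, MulAut.inv_apply_self] at h4
  have h5 : D.act (D.pr (y * σ⁻¹ u)) b = -D.act w b := by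
    by_contra h5
    have := D.eq_one_of_mem_X_X (hr.act _) (hr.act _).neg h5 (D.conj_mem (D.rp_pr hn) hr (D.x_mem hr 1)) h4
    rw [conj_eq_one_iff, D.x_eq_one_iff hr] at this
    exact one_ne_zero this
  show D.act _ b = -b
  rw [act_mul, h5, act_neg, act_inv_act]

theorem not_inner (hP : BoxPerp) {κ : (D.I → ℤ) → Y → k} (C : Crd D (S0 D Z) (B2 D Z) κ) {x : Y} (hx : x ∈ D.S (S0 D Z))
    (hκ : ∀ b ∈ B2 D Z, κ b x ≠ 0) {φ : MulAut Y} (hφ : Bad Γ R F0 x φ) : ¬ Inner p φ := by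
  rintro ⟨y, s, hs, hsp, hy, hy1, rfl⟩
  have hf : ∀ u ∈ D.S (Ps D Z), σ u = u → y * u * y⁻¹ = u := fun u hu hσ => H.fixU C hx hκ hφ hu hσ
  have he := H.shape.1
  obtain ⟨hI, hP2⟩ := hP p k Y N ρ σ D e Γ K R F0 Z H.toSit H.dc
  have hσy : σ y = y := by
    have := H.gc.cent (y⁻¹ * σ y) fun z hz => by
      have h1 := H.gc.comm _ hφ.mem z
      rw [MulAut.conj_apply, MulAut.conj_apply, map_mul, map_mul, map_inv, H.gc.fix z hz] at h1
      calc y⁻¹ * σ y * z = y⁻¹ * (σ y * z * (σ y)⁻¹) * σ y := by group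
        _ = z * (y⁻¹ * σ y) := by rw [h1]; group
    exact (inv_mul_eq_one.1 this).symm
  have hf' : ∀ u ∈ D.S (Ps D Z), σ u = u → (MulAut.conj y * σ) u = u := fun u hu hσ => by
    rw [MulAut.mul_apply, hσ]
    exact hf u hu hσ
  obtain ⟨u, hu, β, h, hβ, e1, hh⟩ := H.stepB (mul_mem hφ.mem H.gc.σ_mem)
    ⟨y, σ, _, (fa_self D).congr (ex' := fun _ => 1) fun a ha => by rw [H.hyp.ex a ha, he], rfl⟩ hf'
  have e2 : ∀ t, β (σ⁻¹ t) = u⁻¹ * y * t * (u⁻¹ * y)⁻¹ := fun t => by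
    rw [← inv_mul_eq_iff_eq_mul.2 e1]
    simp only [MulAut.mul_apply, MulAut.conj_apply, ← map_inv, MulAut.apply_inv_self]
    group
  have hn : u⁻¹ * y ∈ D.NN := D.mem_NN_of_conj (Subgroup.mem_top _) fun t ht => by
    rw [← e2]
    exact hβ.dat.F_mem_T ((D.F_mem_T_iff _).1 (by rwa [MulAut.apply_inv_self]))
  have hσu : σ u = u := by
    have h1 := (D.eq_of_mem_UNU (Ps_le_U (D.F_mem_S (fun _ => Ps.root) H.g_Ps hu)) (Ps_le_U hu)
      (D.rp_pr (D.F_mem_NN hn)) (D.rp_pr hn) (one_mem _) (one_mem _) (by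
        rw [mul_one, mul_one, ← map_mul, mul_inv_cancel_left, hσy])).2
    rw [map_mul, hσy, map_inv, mul_left_inj, inv_inj] at h1
    exact h1
  have hu1 : u = 1 := by
    have hc : Commute u⁻¹ y := Commute.inv_left (mul_inv_eq_iff_eq_mul.1 (hf u hu hσu)).symm
    have h1 : (u⁻¹ * y) ^ s = u⁻¹ ^ s := by rw [hc.mul_pow, hy, mul_one]
    have h2 := (D.eq_of_mem_UNU (one_mem _) (pow_mem (inv_mem (Ps_le_U hu)) s) (D.rp_pr (pow_mem hn s))
      (D.rp_pr (one_mem _)) (one_mem _) (one_mem _) (by rw [one_mul, mul_one, mul_one, mul_one, h1])).2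
    rw [h1, inv_pow, inv_eq_one] at h2
    obtain ⟨j, hj⟩ := pel_of_pos (fun _ => Ps.root) _ ht_Ps hu
    have h3 := pow_gcd_eq_one.2 ⟨h2, hj⟩
    rwa [Nat.Coprime.pow_right j ((Nat.coprime_primes hs Fact.out).2 hsp), pow_one] at h3
  subst hu1
  rw [inv_one, one_mul] at hn e2
  have h1 : ∀ b ∈ Bs D Z, ∀ t, y * D.x b t * y⁻¹ = D.x b t := fun b hb t => by
    obtain ⟨b, hb', rfl⟩ := (D.g_bijOn (fun _ h => (bs_mem_Ps h).1.1) H.g_Bs).surjOn hb
    have hr : D.Rt b := (bs_mem_Ps hb').1.1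
    obtain ⟨t', ht'⟩ := (D.mem_X b hr (σ⁻¹ (D.x (D.g b) t))).1 ((D.F_mem_X_iff hr _).1
      (by rw [MulAut.apply_inv_self]; exact D.x_mem (D.g_root b hr) t))
    rw [← e2, ← ht', (H.stepD hu hβ hh (fun y hy hσ => by have := hf' y hy hσ; rwa [e1] at this) hb').2, ht',
      MulAut.apply_inv_self]
  have h2 : ∀ a ∈ D.Sz Z, D.act (D.pr y) a = a := fun a ha =>
    map_eq_of_Bs (rep D.cs D.h (D.pr y)).toAddMonoidHom (AddMonoidHom.id _) (fun b hb => by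
      have hr : D.Rt b := (bs_mem_Ps hb).1.1
      by_contra h3
      exact one_ne_zero ((D.x_eq_one_iff hr).1 (D.eq_one_of_mem_X_X (hr.act _) hr h3
        (h1 b hb 1 ▸ D.conj_mem (D.rp_pr hn) hr (D.x_mem hr 1)) (D.x_mem hr 1)))) ha
  have h3 : D.pr y ^ s = 1 := by
    have : ∀ n : ℕ, D.pr (y ^ n) = D.pr y ^ n := fun n => by
      induction n with
      | zero => rw [pow_zero, pow_zero]; exact (D.pr_eq_one_iff (one_mem _)).2 (one_mem _)
      | succ n ih => rw [pow_succ, pow_succ, D.pr_mul (pow_mem hn n) hn, ih]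
    rw [← this, hy]
    exact (D.pr_eq_one_iff (one_mem _)).2 (one_mem _)
  have h4 : ∀ i a, ∀ c ∈ D.Sz Z, cpr D.cs D.h (D.act (D.pr y ^ i) a) c = cpr D.cs D.h a c := fun i a c hc => by
    rw [← cpr_act (D.pr y ^ i) a hc.1, act_pow_eq (h2 c hc)]
  have hT : y ∈ D.T := (D.pr_eq_one_iff hn).1 (eq_one_of_sum D h3 fun a ha h0 => by
    by_cases h5 : a ∈ Perp D (D.Sz Z)
    · have h6 : Odd s := hs.odd_of_ne_two fun h6 => by
        rw [hP2 fun h7 => hsp (h6.trans h7.symm)] at h5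
        exact h5
      have h7 := congrArg (el D.cs D.h a) h0
      rw [map_sum, map_zero] at h7
      refine (Finset.sum_pos' (fun i _ => ?_) ⟨0, Finset.mem_range.2 hs.pos, ?_⟩).ne' h7
      · rcases hI.orth (fun c hc => ⟨hc.1.neg, fun d hd => by rw [cpr_neg', hc.2 d hd, neg_zero]⟩) h5
          (b := D.act (D.pr y ^ i) a) ⟨ha.act _, fun c hc => by rw [h4 i a c hc, h5.2 c hc]⟩ with h | h | h
        · rw [el_apply, h, cpr_self _ _ ha]
          omega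
        · exact absurd h (act_ne_neg h6 (by rw [← pow_mul, mul_comm, pow_mul, h3, one_pow]) ha)
        · exact h.ge
      · rw [el_apply, pow_zero, act_one, cpr_self _ _ ha]
        omega
    · refine h5 ⟨ha, fun c hc => ?_⟩
      have h7 := congrArg (el D.cs D.h c) h0
      rw [map_sum, map_zero, Finset.sum_congr rfl fun i _ => (el_apply _ _ _ _).trans (h4 i a c hc), Finset.sum_const,
        Finset.card_range, nsmul_eq_mul] at h7
      exact (mul_eq_zero.1 h7).resolve_left (Nat.cast_ne_zero.2 hs.ne_zero))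
  have l1 : ∀ a ∈ D.Sz Z, a ∈ D.Lam {y} := fun a => mem_of_Bs _ fun b hb z hz => by
    have hr : D.Rt b := (bs_mem_Ps hb).1.1
    have := h1 b hb 1
    rw [D.tor' hr hT, mul_one] at this
    rw [hz]
    exact D.x_inj b hr this
  have l2 : ∀ b ∈ B1 D Z, b ∈ D.Lam {y} := mem_of_B2 H.dc _ fun b hb z hz => by
    have h5 := D.conj_mem_S_of_T (fun _ h => h.1) hT hx
    have h6 : x⁻¹ * (y * x * y⁻¹) ∈ D.S (S0 D Z ∩ D.Sz Z) := by
      rw [← (uni_S0 (D := D) Z).inf_centralizer H.le]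
      refine Subgroup.mem_inf.2 ⟨mul_mem (inv_mem hx) h5, fun z hz => ?_⟩
      have h7 := H.rk hx hφ hz
      rw [MulAut.conj_apply] at h7
      generalize y * x * y⁻¹ = x' at h7
      calc z * (x⁻¹ * x') = x⁻¹ * (x * z * x⁻¹) * x' := by group
        _ = x⁻¹ * x' * z := by rw [← h7]; group
    have h7 := C.zero_of_mem hb Set.inter_subset_left (fun h => hb.1.2 h.2) h6
    rw [C.mul b hb _ (inv_mem hx) _ h5, C.inv hb hx, C.tor hb hT hx] at h7
    rw [hz]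
    exact mul_right_cancel₀ (hκ b hb) (by linear_combination h7)
  have l3 : ∀ c, D.Rt c → c ∉ Perp D (D.Sz Z) → c ∈ D.Lam {y} := fun c hc h5 => by
    by_contra h6
    obtain ⟨b, hb, hd⟩ := exists_dm (Z := Z) (E := {c | D.Rt c ∧ c ∉ Perp D (D.Sz Z) ∧ c ∉ D.Lam {y}}) (fun _ h => h.1)
      ⟨c, hc, h5, h6⟩ fun c hc a ha h0 => ⟨isRoot_refl _ _ hc.1 ha.1.1, fun h => by
        have := h.2 a ha.2
        rw [cpr_sub, cpr_smul', cpr_self _ _ ha.1.1] at this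
        omega, fun h => hc.2.2 (by simpa using add_mem h ((D.Lam {y}).zsmul_mem (l1 a ha.2) (cpr D.cs D.h c a)))⟩
    refine hb.2.2 (l2 b ⟨⟨hb.1, hd, ?_⟩, fun h => hb.2.2 (l1 b h)⟩)
    by_contra h7
    push Not at h7
    refine hb.2.1 ⟨hb.1, fun a ha => ?_⟩
    rcases pos_or_neg_Ps ha with h | h
    · exact le_antisymm (h7 a h) (hd a h)
    · have := le_antisymm (h7 _ h) (hd _ h)
      rwa [cpr_neg_right _ _ _ ha.1, neg_eq_zero] at this
  have l4 : ∀ c, D.Rt c → c ∈ D.Lam {y} := fun c hc => by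
    by_cases h5 : c ∈ Perp D (D.Sz Z)
    · obtain ⟨c₁, -, -, r₁, -, -, -, -, -, e₁, -⟩ := H.hyp.ir c hc
      have h6 : c₁ ∉ Perp D (D.Sz Z) := fun h => by
        have : c₁ ∈ Nb D.cs D.h (Perp D (D.Sz Z)) c :=
          ⟨h, fun h => by rw [h, cpr_self _ _ hc] at e₁; omega, by omega⟩
        rwa [hI c h5] at this
      have h7 := isRoot_refl _ _ r₁ hc
      rw [e₁, one_smul] at h7
      simpa using sub_mem (l3 c₁ r₁ h6) (l3 _ h7 fun h => h6 ⟨r₁, fun a ha => by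
        have := h.2 a ha
        rwa [cpr_sub, h5.2 a ha, sub_zero] at this⟩)
    · exact l3 c hc h5
  refine hy1 (H.gc.cent y fun z _ => D.cen_le_centralizer (Z := {y}) (Set.singleton_subset_iff.2 hT) ?_ y rfl)
  have l5 : {c | D.Rt c} ⊆ D.Sz {y} := fun c hc => ⟨hc, l4 c hc⟩
  exact (D.G_eq.ge.trans (sup_le_sup_left (RGD.Sup_mono l5) _)) (Subgroup.mem_top z)

end SQ

theorem Sit.reframe {D : Datum p ρ σ ⊤} {e : ℕ} {Γ : Subgroup (MulAut Y)} {K R F0 Z : Subgroup Y}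
    (H : Sit D e Γ K R F0 Z) : ∃ (y : Y) (hy : y ∈ ⊤) (hy' : y⁻¹ * σ y ∈ D.NN), Sit (D.conj hy hy') e Γ K R F0 Z ∧
      ∀ a ∈ (D.conj hy hy').Sz Z, 0 ≤ a → 0 ≤ (D.conj hy hy').g a := by
  obtain ⟨y, hy, hy', h1, -, h2⟩ := exists_reframe D H.le fun _ => H.g_mem
  have h3 : ∀ z ∈ Z, y * z * y⁻¹ = z := fun z hz => by
    rw [← D.cen_le_centralizer H.le h1 z hz, mul_inv_cancel_right]
  have h4 : ∀ a, ∀ z ∈ Z, (D.conj hy hy').χ a z = D.χ a z := fun a z hz => by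
    rw [← D.conj_χ hy hy' a (H.le hz), h3 z hz]
  obtain ⟨b, hb⟩ := H.rt
  refine ⟨y, hy, hy', ⟨H.gc, H.hyp.conj hy hy', fun z hz => ?_, H.ne, H.inv, b, hb.1, fun z hz => ?_⟩,
    fun a ha => h2 a ⟨ha.1, fun z hz => h4 a z hz ▸ ha.2 z hz⟩⟩
  · rw [← h3 z hz]
    exact conj_mem_cj.2 (H.le hz)
  · rw [h4 b z hz]
    exact hb.2 z hz

theorem boxMain_of (hP : BoxPerp) (hF4 : BoxF4) (hE6 : BoxE6) : BoxMain := by
  intro p _ k _ _ _ Y _ N _ _ ρ σ D e Γ K R F0 Z gc hyp ne inv ⟨x₀, h1, b, hb, h2⟩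
  obtain ⟨y, hy, hy', h3, h4⟩ := exists_conj_le_T D (Z := Z) (inv σ gc.σ_mem) (Subgroup.mem_top x₀) h1
  have S1 : Sit (D.conj hy hy') e Γ K R F0 Z := ⟨gc, hyp.conj hy hy', h3, ne, inv, b, hb, fun z hz => by
    rw [← h2 z hz, ← D.conj_χ hy hy' b (h1 z hz), ← h4 z hz]
    congr 1
    group⟩
  obtain ⟨y₂, hy₂, hy₂', S2, q⟩ := S1.reframe
  have H : SQ _ e Γ K R F0 Z := ⟨S2, q, hF4 p k Y N ρ σ _ e Γ K R F0 Z S2⟩
  obtain ⟨κ, C, x, hx, hK, hκ⟩ := H.exists_x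
  refine ⟨H.shape.1, x, hK, fun φ hφ => ?_⟩
  rintro (h | h | h)
  · exact H.not_inner hP C hx hκ hφ h
  · exact H.not_graph hE6 hφ.mem (fun u => H.fixU C hx hκ hφ) ((h.conj hy hy').conj hy₂ hy₂')
  · exact H.not_odd hφ.mem (fun u => H.fixU C hx hκ hφ) ((h.conj hy hy').conj hy₂ hy₂')

end Cfsg.Agent.SB.Exc.Max
end

-- part: SB/Exc/Max/FFour
section
/-!
# S5765, `BoxMax`: `F₄` in odd characteristic does not occur (helper52)
-/

set_option autoImplicit false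
set_option linter.unusedSectionVars false

namespace Cfsg.Agent.SB.Exc.Max

open CoxeterSystem Cfsg.Agent.ChevalleyStructure.CoxeterGeom Cfsg.Agent.Tits.Roots Cfsg.Agent.Nodes.Reps
  Cfsg.Agent.Nodes.BNOf Cfsg.Agent.Nodes.Bruhat Cfsg.Agent.LangThm Cfsg.Agent.Nodes.SubComb
  Cfsg.Agent.Nodes.Coroot Cfsg.Agent.Nodes.Slope Cfsg.Agent.Nodes.NormalForm Cfsg.Agent.DL.Base Cfsg.Agent.DL
  Cfsg.Agent.BpExc.Zc
open scoped Pointwise commutatorElement

namespace FFour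

variable {p : ℕ} [Fact p.Prime] {k : Type} [Field k] [CharP k p] {Y : Type} [Group Y] {N : Type} [Fintype N]
  [DecidableEq N] {ρ : Y →* GL N k} {σ : MulAut Y} {G : Subgroup Y} [IsAlgClosed k] {D : Datum p ρ σ G}

/-- root groups commute if no root with pairing at least two lies between them -/
theorem comm_of (hz : CommZ D.cs D.h D.X) {θ c : D.I → ℤ} (hθ : D.Rt θ) (hc : D.Rt c) (h0 : 0 ≤ cpr D.cs D.h c θ)
    (h : ∀ i j : ℤ, D.Rt (i • θ + j • c) → i • θ + j • c ≠ θ → cpr D.cs D.h (i • θ + j • c) θ ≤ 1) {u v : Y}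
    (hu : u ∈ D.X θ) (hv : v ∈ D.X c) : u * v = v * u := by
  by_cases h1 : θ = c
  · subst h1
    exact x_comm hθ hu hv
  have h2 : θ ≠ -c := fun e => by
    rw [neg_eq_iff_eq_neg.1 e.symm, cpr_neg', cpr_self _ _ hθ] at h0
    omega
  have h3 := hz θ c hθ hc h1 h2 u hu v hv
  have h4 : {z | ZB D.cs D.h θ c z} = ∅ := Set.eq_empty_of_forall_notMem fun z hz => by
    obtain ⟨hr, i, j, hi, hj, rfl⟩ := hz
    have h5 : cpr D.cs D.h (i • θ + j • c) θ = i * 2 + j * cpr D.cs D.h c θ := by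
      rw [cpr_add', cpr_smul', cpr_smul', cpr_self _ _ hθ]
    have h6 := mul_nonneg hj.le h0
    by_cases h7 : i • θ + j • c = θ
    · rw [h7, cpr_self _ _ hθ] at h5
      obtain rfl : i = 1 := by omega
      rw [one_smul, add_eq_left, smul_eq_zero] at h7
      exact h7.elim hj.ne' hc.ne_zero
    · have := h i j hr h7
      omega
  rw [h4] at h3
  exact commutatorElement_eq_one_iff_mul_comm.1
    (Subgroup.mem_bot.1 (RGD.Sup_le (K := ⊥) (fun _ h => h.elim) h3))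

theorem dcon_long (hz : CommZ D.cs D.h D.X) {Z : Set Y} {θ : D.I → ℤ} (hθ : θ ∈ D.Sz Z) (hl : Lg D.cs D.h θ) :
    DCon D (D.Sz Z) θ := fun _ hc h0 _ hu _ hv => comm_of hz hθ.1 hc.1 h0 (fun _ _ hr => hl _ hr) hu hv

theorem lg_act (w : D.W) {a : D.I → ℤ} (ha : D.Rt a) (hl : Lg D.cs D.h a) : Lg D.cs D.h (D.act w a) := fun c hc hne => by
  rw [← act_act_inv D w c, cpr_rep _ _ _ _ ha]
  exact hl _ (hc.act _) fun e => hne (by rw [← e, act_act_inv])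

variable {e : ℕ} (hex : ∀ a, D.Rt a → D.ex a = e)
include hex

theorem lg_g {a : D.I → ℤ} (ha : D.Rt a) : Lg D.cs D.h (D.g a) ↔ Lg D.cs D.h a := by
  constructor
  · intro hl c hc hne
    rw [← cpr_g hex hc ha]
    exact hl _ (D.g_root c hc) fun e => hne (D.g_inj hc ha e)
  · intro hl c hc hne
    obtain ⟨c, hc', rfl⟩ := D.g_surj hc
    rw [cpr_g hex hc' ha]
    exact hl _ hc' fun e => hne (by rw [e])

omit hex in
variable (D) in
/-- the elements of the torus on which the long roots and the roots trivial on `Z` are trivial -/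
def Zl (Z : Set Y) : Set Y := {t | t ∈ D.T ∧ ∀ b, D.Rt b → Lg D.cs D.h b ∨ b ∈ D.Sz Z → D.χ b t = 1}

theorem zl_F {Z : Set Y} (hF : ∀ a ∈ D.Sz Z, D.g a ∈ D.Sz Z) : ∀ t ∈ Zl D Z, σ t ∈ Zl D Z := by
  rintro t ⟨ht, h⟩
  refine ⟨D.F_mem_T ht, fun b hb h1 => ?_⟩
  rcases h1 with h1 | h1
  · obtain ⟨b, hb', rfl⟩ := D.g_surj hb
    rw [D.χ_F hb' ht, h b hb' (Or.inl ((lg_g hex hb').1 h1)), one_pow]
  · obtain ⟨b, hb', rfl⟩ := (D.g_bijOn D.Sz_root hF).surjOn h1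
    rw [D.χ_F hb'.1 ht, h b hb'.1 (Or.inr hb'), one_pow]

theorem nb_long (h : BoxLoc) (he : 0 < e) (hz : CommZ D.cs D.h D.X) {Z : Set Y} (hZ : Z ⊆ D.T)
    (hF : ∀ a ∈ D.Sz Z, D.g a ∈ D.Sz Z) (hE : HE p σ (D.S (D.Sz Z))) (hp : p ≠ 2) {r : D.I → ℤ} (hr : r ∈ D.Sz Z)
    (hl : Lg D.cs D.h r) : Nb D.cs D.h (D.Sz Z) r = ∅ :=
  h p k Y N ρ σ G D e Z he hex hz hZ hF hE hp (Lg D.cs D.h) (fun _ ha => (lg_g hex ha).2) (fun w _ => lg_act w)
    (fun _ => dcon_long hz) r hr hl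

theorem iso (h : BoxLoc) (he : 0 < e) (hz : CommZ D.cs D.h D.X) {Z : Set Y} (hZ : Z ⊆ D.T)
    (hF : ∀ a ∈ D.Sz Z, D.g a ∈ D.Sz Z) (hE : HE p σ (D.S (D.Sz Z))) (hp : p ≠ 2) (h4 : F4C D.cs D.h) :
    Iso D.cs D.h (D.Sz Z) := fun r hr => by
  refine h p k Y N ρ σ G D e Z he hex hz hZ hF hE hp (fun _ => True) (fun _ _ _ => trivial) (fun _ _ _ _ => trivial)
    (fun θ hθ _ c hc h0 u hu v hv => comm_of hz hθ.1 hc.1 h0 (fun i j hr hne => ?_) hu hv) r hr trivial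
  by_contra h1
  have h2 : i • θ + j • c ∈ D.Sz Z :=
    ⟨hr, (D.Lam Z).add_mem ((D.Lam Z).zsmul_mem hθ.2 i) ((D.Lam Z).zsmul_mem hc.2 j)⟩
  have h3 : θ ∈ Nb D.cs D.h (D.Sz Z) (i • θ + j • c) := ⟨hθ, hne.symm, (cpr_pos_comm hr hθ.1).1 (by omega)⟩
  rw [nb_long hex h he hz hZ hF hE hp h2 (h4.long θ _ hθ.1 hr hne (by omega))] at h3
  exact h3

omit hex in
theorem exists_short {Z : Set Y} (h4 : F4C D.cs D.h) (hI : Iso D.cs D.h (D.Sz Z)) :
    ∃ a, D.Rt a ∧ ∀ b, D.Rt b → Lg D.cs D.h b ∨ b ∈ D.Sz Z → Even (cpr D.cs D.h b a) := by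
  by_cases h1 : ∃ a ∈ D.Sz Z, ¬ Lg D.cs D.h a
  · obtain ⟨a, ha, hs⟩ := h1
    refine ⟨a, ha.1, fun b hb h2 => ?_⟩
    by_cases h3 : Lg D.cs D.h b
    · exact h4.even a b ha.1 hb hs h3
    have hb' := h2.resolve_left h3
    rcases hI.orth (fun _ => D.Sz_neg) ha hb' with rfl | rfl | h5
    · rw [cpr_self _ _ hb]
      exact even_two
    · rw [cpr_neg', cpr_self _ _ ha.1]
      exact even_two.neg
    · rw [h5]
      exact Even.zero
  · push Not at h1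
    obtain ⟨a, ha, hs⟩ := h4.short
    exact ⟨a, ha, fun b hb h2 => h4.even a b ha hb hs (h2.elim id (h1 b))⟩

omit hex in
theorem exists_zl {Z : Set Y} (hp : p ≠ 2) (h3 : IR3 D.cs D.h) (h4 : F4C D.cs D.h) (hI : Iso D.cs D.h (D.Sz Z)) :
    ∃ z ∈ Zl D Z, z ≠ 1 := by
  obtain ⟨a, ha, h⟩ := exists_short h4 hI
  have h1 : ∀ b, D.χ b (D.τ (coch (D.cor a) (-1))) = (-1) ^ cpr D.cs D.h b a := fun b => by
    rw [D.χ_τ, chr_coch, D.pair_cor ha, Units.val_zpow_eq_zpow_val, Units.val_neg, Units.val_one]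
  refine ⟨_, ⟨D.τ_mem (coch (D.cor a) (-1)), fun b hb h2 => by rw [h1, (h b hb h2).neg_one_zpow]⟩, fun e => ?_⟩
  obtain ⟨c, -, -, -, -, -, -, -, -, hc, -⟩ := h3 a ha
  have h2 := h1 c
  rw [e, D.χ_one, hc, zpow_one] at h2
  have h5 : ((2 : ℕ) : k) = 0 := by
    rw [Nat.cast_ofNat, ← one_add_one_eq_two]
    exact add_eq_zero_iff_eq_neg.2 h2
  exact hp ((Nat.prime_dvd_prime_iff_eq Fact.out Nat.prime_two).1 ((CharP.cast_eq_zero_iff k p 2).1 h5))

end FFour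

open FFour in
theorem boxF4_of (h : BoxLoc) : BoxF4 := by
  intro p _ k _ _ _ Y _ N _ _ ρ σ D e Γ K R F0 Z H
  rcases H.hyp.typ with h0 | ⟨hp, h4, hΓ⟩
  · exact h0
  exfalso
  obtain ⟨z, hz, hz1⟩ := exists_zl hp H.hyp.ir h4
    (iso H.hyp.ex h H.hyp.he H.hyp.cz H.le (fun _ => H.g_mem) H.he hp h4)
  have hZ : Zl D Z ⊆ D.T := fun _ ht => ht.1
  have hs : ∀ b, D.Rt b → Lg D.cs D.h b ∨ b ∈ D.Sz Z → b ∈ D.Sz (Zl D Z) := fun b hb h1 => ⟨hb, fun t ht => ht.2 b hb h1⟩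
  have hI : Inv Γ (D.S (D.Sz (Zl D Z))) := by
    refine H.inv_of (E := fun ex => ∃ j, ∀ a, D.Rt a → ex a = j) ⟨e, H.hyp.ex⟩ (fun φ hφ => ?_) (fun c hc m hm => ?_) ?_
    · obtain ⟨n, j, h1⟩ := hΓ φ hφ
      exact ⟨n, _, ⟨j, fun _ _ => rfl⟩, h1⟩
    · have h1 : c ∈ D.S (D.Sz (Zl D Z)) := RGD.Sup_mono (fun b hb => hs b hb.1 (Or.inr hb)) hc
      exact mul_mem (mul_mem h1 hm) (inv_mem h1)
    · rintro β g ex ⟨j, hj⟩ hβ hZ' m hm
      exact hβ.dat.F_mem_S D.Sz_root (fun a ha => hβ.dat.g_mem_Sz hZ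
        (zl_F (D := hβ.dat) hj fun a ha => hβ.dat.g_mem_Sz H.le hZ' ha) ha) hm
  have hE := H.gc.he _ hI (Sit.not_le H.gc hz1 fun m hm => D.cen_le_centralizer hZ (D.S_le_cen _ hm) z hz)
  obtain ⟨b, b', hb, hb', l, l', h1⟩ := h4.pair
  have h2 : b' ∈ Nb D.cs D.h (D.Sz (Zl D Z)) b :=
    ⟨hs b' hb' (Or.inl l'), fun e => by rw [e, cpr_self _ _ hb] at h1; omega, by omega⟩
  rw [nb_long H.hyp.ex h H.hyp.he H.hyp.cz hZ (fun a ha => D.g_mem_Sz hZ (zl_F H.hyp.ex fun _ => H.g_mem) ha) hE hp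
    (hs b hb (Or.inl l)) l] at h2
  exact h2

end Cfsg.Agent.SB.Exc.Max
end

private theorem dce_7bd2387015d5 : _root_.True := by
  try have : _root_.True := by simp only [_root_.Cfsg.Agent.SB.Exc.Max.lamZ.congr_simp]
  try have : _root_.True := by simp only [_root_.Cfsg.Agent.SB.Exc.Max.Lg.congr_simp]
  try have : _root_.True := by simp only [_root_.Cfsg.Agent.SB.Exc.Max.lamZ.eq_1]
  exact _root_.True.intro
end
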