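import Cfsg.Agent.TAB.F22.FxB_m3
import Cfsg.Agent.S0248
import Cfsg.Agent.PLocal.SL2Perfect
import Cfsg.Agent.Lib.AltCarmichael
import Cfsg.Agent.S2119
import Cfsg.Agent.SB.Tor.Refl_m3
import Cfsg.Agent.SB.Cl.Cent_m3
import Cfsg.Agent.SB.R1.Sz_m3
import Cfsg.Agent.ClassicalGeometry.KleinCount
import Cfsg.Agent.H452.FprPsl2
import Cfsg.Agent.ClassicalGeometry.PSL2Klein
import Cfsg.Agent.ClassicalGeometry.PSL2ElemOrder
import Cfsg.Agent.S0252
import Cfsg.Agent.S0799
import Cfsg.Agent.S0809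
import Cfsg.Agent.S0813
import Cfsg.Agent.S2475
import Cfsg.Agent.S2508
import Cfsg.Agent.S0253
import Cfsg.Agent.S0254
import Cfsg.Agent.H452.FprRee
import Cfsg.Agent.S1069
import Cfsg.Agent.S1155
import Cfsg.Agent.S1157
import Cfsg.Agent.S1158
import Cfsg.Agent.S2127
import Cfsg.Agent.S2358
import Cfsg.Agent.S2361
import Cfsg.Agent.SB.Br.Mod_m3
import Cfsg.Agent.H394.SqPsu3
import Cfsg.Agent.SB.C2.Main
import Cfsg.Agent.SB.Fr.Main_m3
import Cfsg.Agent.DS.Ex.Rank
import Cfsg.Agent.S0044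
import Cfsg.Agent.AutOrth.Final
import Cfsg.Agent.ClassicalGeometry.OrthSemiForms
import Cfsg.Agent.ClassicalGeometry.SympAutOddA
import Cfsg.Agent.ClassicalGeometry.SympAutExists
import Cfsg.Agent.SmallSimple.S1000.PSLFacts
import Cfsg.Agent.S0255
import Cfsg.Agent.S0256
import Cfsg.Agent.S0814
import Cfsg.Agent.S0822
import Cfsg.Agent.SB.Mon.F24.Chk2_m3
import Cfsg.Agent.SP.Iface_m3
import Cfsg.Agent.H296.JT.Count
import Cfsg.Agent.S2067
import Cfsg.Agent.FastGrp
import Cfsg.Agent.Prune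
set_option linter.all false

section
prune_inst 0x7fb8e8fb8bf829dfdfff7e7fa698cffc39909fffe6dff94bbfe021df0bdf030209c52b8509e000fe0ed6621410b87813fb7ecabfe26bd87ffffd1ff41ffbee0fe5f7b50851d088140fbc0ff603f0778e7f3fffffffffffffffffffffffffffbeffbfffffffff

-- part: SB/Alt/Main_mg
section
set_option linter.all false
open scoped Cfsg.Agent.FastGrp

-- part: SB/Alt/Part
section
/-!
# S5765, alternating row: stabilisers of partitions (helper96)

`pstab f` is the stabiliser in `Sym Ω` of the partition into the fibres of `f`.  If a solvable `S` with `MaxInv`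
stabilises a proper partition then `pstab f` is solvable, so the fibres have size at most four, and there are at most
four of them when they have the same size.  `Cert n m`: the stabiliser of a partition of shape `m` has `Seven`.
-/

set_option autoImplicit false

namespace Cfsg.Agent.SB.Alt

open Subgroup Equiv Equiv.Perm Cfsg

section pstab

variable {Ω β : Type*}

/-- the stabiliser of the partition into the fibres of `f` -/
def pstab (f : Ω → β) : Subgroup (Perm Ω) where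
  carrier := {s | ∀ i j, f (s i) = f (s j) ↔ f i = f j}
  one_mem' := fun _ _ => Iff.rfl
  mul_mem' := fun {_ b} ha hb i j => (ha (b i) (b j)).trans (hb i j)
  inv_mem' := fun {a} ha i j => by
    have := ha (a⁻¹ i) (a⁻¹ j)
    simpa using this.symm

theorem mem_pstab {f : Ω → β} {s : Perm Ω} : s ∈ pstab f ↔ ∀ i j, f (s i) = f (s j) ↔ f i = f j := Iff.rfl

theorem pstab_comp {γ : Type*} (f : Ω → β) {l : β → γ} (hl : Function.Injective l) : pstab (l ∘ f) = pstab f := by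
  ext s
  simp only [mem_pstab, Function.comp, hl.eq_iff]

variable [Fintype Ω] [DecidableEq Ω]

theorem not_alt_le (h4 : 4 ≤ Fintype.card Ω) {f : Ω → β} {a b c : Ω} (hab : a ≠ b) (hf : f a = f b) (hc : f c ≠ f a) :
    ¬ alternatingGroup Ω ≤ pstab f := by
  intro hle
  obtain ⟨d, hd⟩ : ∃ d, d ∉ ({a, b, c} : Finset Ω) := by
    by_contra hcon
    push Not at hcon
    have h1 : (Finset.univ : Finset Ω) ⊆ {a, b, c} := fun x _ => hcon x
    have h2 := (Finset.card_le_card h1).trans Finset.card_le_three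
    rw [Finset.card_univ] at h2
    omega
  simp only [Finset.mem_insert, Finset.mem_singleton, not_or] at hd
  obtain ⟨hda, hdb, hdc⟩ := hd
  have hca : c ≠ a := fun h => hc (h ▸ rfl)
  have h1 : swap c d * swap b d ∈ alternatingGroup Ω :=
    mul_mem_alternatingGroup_of_isSwap ⟨c, d, Ne.symm hdc, rfl⟩ ⟨b, d, Ne.symm hdb, rfl⟩
  have h2 := (hle h1 a b).2 hf
  rw [Perm.mul_apply, Perm.mul_apply, swap_apply_left, swap_apply_right, swap_apply_of_ne_of_ne hab (Ne.symm hda),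
    swap_apply_of_ne_of_ne (Ne.symm hca) (Ne.symm hda)] at h2
  exact hc h2.symm

theorem solvable_of_inf {Y : Subgroup (Perm Ω)} (h : Group.IsSolvable ↥(Y ⊓ alternatingGroup Ω)) :
    Group.IsSolvable Y := by
  refine Group.isSolvable_of_ker_le_range (inclusion (inf_le_left : Y ⊓ alternatingGroup Ω ≤ Y))
    (sign.comp Y.subtype) ?_
  intro y hy
  exact ⟨⟨y, mem_inf.2 ⟨y.2, mem_alternatingGroup.2 hy⟩⟩, rfl⟩

theorem solvable_of_le {S Y : Subgroup (Perm Ω)} (hS : Group.IsSolvable S) (hm : MaxInv (alternatingGroup Ω) S)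
    (hSY : S ≤ Y) (hY : ¬ alternatingGroup Ω ≤ Y) : Group.IsSolvable Y := by
  have h1 := hm.inf_le inferInstance hSY hY
  exact solvable_of_inf (Group.isSolvable_of_isSolvable_injective (f := inclusion h1) (inclusion_injective h1))

omit [Fintype Ω] [DecidableEq Ω] in
theorem card_le_four_of_hom {γ : Type*} [Finite γ] {Y : Subgroup (Perm Ω)} (hY : Group.IsSolvable Y)
    (φ : Perm γ →* Perm Ω) (hφ : Function.Injective φ) (hr : ∀ σ, φ σ ∈ Y) : Nat.card γ ≤ 4 := by
  by_contra hcon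
  have h5 : (5 : Cardinal) ≤ Cardinal.mk γ := by
    rw [← Nat.cast_card]
    exact_mod_cast (by omega : 5 ≤ Nat.card γ)
  refine Equiv.Perm.not_isSolvable γ h5 ?_
  exact Group.isSolvable_of_isSolvable_injective (f := φ.codRestrict Y hr)
    (fun a b h => hφ (congrArg Subtype.val h))

omit [DecidableEq Ω] in
/-- the fibres have size at most four -/
theorem fibre_le_four {f : Ω → β} (hs : Group.IsSolvable (pstab f)) (t : β) : Nat.card {i // f i = t} ≤ 4 := by
  classical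
  refine card_le_four_of_hom hs (ofSubtype : Perm {i // f i = t} →* Perm Ω) ofSubtype_injective fun σ => ?_
  have key : ∀ i, f (ofSubtype σ i) = f i := by
    intro i
    by_cases h : f i = t
    · rw [h]
      exact (ofSubtype_apply_mem_iff_mem σ i).2 h
    · rw [ofSubtype_apply_of_not_mem σ h]
  intro i j
  rw [key, key]

omit [Fintype Ω] [DecidableEq Ω] in
/-- at most four fibres of the same size -/
theorem classes_le_four [Finite β] {γ : Type*} [Nonempty γ] {f : Ω → β} (hs : Group.IsSolvable (pstab f))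
    (e : Ω ≃ β × γ) (he : ∀ i, (e i).1 = f i) : Nat.card β ≤ 4 := by
  let ψ : Perm β →* Perm (β × γ) :=
    { toFun := fun σ => σ.prodCongr (Equiv.refl γ)
      map_one' := rfl
      map_mul' := fun _ _ => rfl }
  refine card_le_four_of_hom hs (e.symm.permCongrHom.toMonoidHom.comp ψ) ?_ fun σ i j => ?_
  · refine e.symm.permCongrHom.injective.comp ?_
    intro σ τ h
    ext x
    obtain ⟨y⟩ := ‹Nonempty γ›
    exact congrArg Prod.fst (DFunLike.congr_fun h (x, y))
  · have key : ∀ i, f ((e.symm.permCongrHom.toMonoidHom.comp ψ) σ i) = σ (f i) := by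
      intro i
      rw [← he, ← he]
      change (e (e.symm ((σ.prodCongr (Equiv.refl γ)) (e i)))).1 = _
      rw [apply_symm_apply]
      rfl
    rw [key, key, σ.injective.eq_iff]

omit [DecidableEq Ω] in
theorem exists_perm_of_fibre [DecidableEq β] {f g : Ω → β}
    (h : ∀ t, (Finset.univ.filter fun i => f i = t).card = (Finset.univ.filter fun i => g i = t).card) :
    ∃ x : Perm Ω, ∀ i, g (x i) = f i := by
  have e : ∀ t, {i // f i = t} ≃ {i // g i = t} := fun t =>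
    Fintype.equivOfCardEq (by rw [Fintype.card_subtype, Fintype.card_subtype, h t])
  exact ⟨Equiv.ofFiberEquiv e, Equiv.ofFiberEquiv_map e⟩

theorem exists_even_of_fibre [DecidableEq β] {f g : Ω → β} {a b : Ω} (hab : a ≠ b) (hf : f a = f b)
    (h : ∀ t, (Finset.univ.filter fun i => f i = t).card = (Finset.univ.filter fun i => g i = t).card) :
    ∃ x ∈ alternatingGroup Ω, ∀ i, g (x i) = f i := by
  obtain ⟨x, hx⟩ := exists_perm_of_fibre h
  rcases Int.units_eq_one_or (sign x) with h1 | h1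
  · exact ⟨x, mem_alternatingGroup.2 h1, hx⟩
  · refine ⟨x * swap a b, mem_alternatingGroup.2 (by rw [map_mul, h1, sign_swap hab]; rfl), fun i => ?_⟩
    rw [Perm.mul_apply, hx]
    rcases eq_or_ne i a with rfl | hia
    · rw [swap_apply_left, hf]
    rcases eq_or_ne i b with rfl | hib
    · rw [swap_apply_right, hf]
    · rw [swap_apply_of_ne_of_ne hia hib]

end pstab

section cert

variable {n : ℕ}

/-- one round of colour refinement -/
def inv1 (cd : Fin n → Fin n → ℕ) (i : Fin n) : ℕ := ∑ j, 17 ^ cd i j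

/-- two rounds of colour refinement -/
def inv2 (cd : Fin n → Fin n → ℕ) (i : Fin n) : ℕ := ∑ j, (cd i j + 32 * inv1 cd j) ^ 2

/-- one or two rounds -/
def invr (r : Bool) (cd : Fin n → Fin n → ℕ) (i : Fin n) : ℕ := if r then inv2 cd i else inv1 cd i

theorem inv1_eq {cd cd' : Fin n → Fin n → ℕ} {s : Perm (Fin n)} (h : ∀ i j, cd (s i) (s j) = cd' i j) (i : Fin n) :
    inv1 cd (s i) = inv1 cd' i := by
  unfold inv1
  rw [← Equiv.sum_comp s]
  simp only [h]

theorem invr_eq (r : Bool) {cd cd' : Fin n → Fin n → ℕ} {s : Perm (Fin n)} (h : ∀ i j, cd (s i) (s j) = cd' i j)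
    (i : Fin n) : invr r cd (s i) = invr r cd' i := by
  unfold invr
  cases r
  · exact inv1_eq h i
  · simp only [if_true]
    unfold inv2
    rw [← Equiv.sum_comp s]
    simp only [h, inv1_eq h]

/-- the colour of a pair of points with respect to five partitions -/
def code (f : Fin n → Fin 4) (g : Fin 4 → Fin n → Fin 4) (i j : Fin n) : ℕ :=
  (if f i = f j then 1 else 0) + (if g 0 i = g 0 j then 2 else 0) + (if g 1 i = g 1 j then 4 else 0) +
    (if g 2 i = g 2 j then 8 else 0) + (if g 3 i = g 3 j then 16 else 0)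

/-- the labelling coded by a number -/
def lab (n N : ℕ) (i : Fin n) : Fin 4 := ⟨(N >>> (2 * i.val)) % 4, Nat.mod_lt _ (by decide)⟩

/-- the size of a fibre -/
def fib (f : Fin n → Fin 4) (t : Fin 4) : ℕ := (Finset.univ.filter fun i => f i = t).card

/-- every partition of shape `m` has a stabiliser with `Seven` -/
def Cert (n : ℕ) (m : Fin 4 → ℕ) : Prop :=
  ∀ f : Fin n → Fin 4, (∀ t, fib f t = m t) → Seven (alternatingGroup (Fin n)) (pstab f)

theorem cert_of (m : Fin 4 → ℕ) (r : Bool) (f0 : Fin n → Fin 4) (g : Fin 7 → Fin 4 → Fin n → Fin 4)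
    (a b : Fin n) (hab : a ≠ b) (hf0 : f0 a = f0 b) (h0 : ∀ t, fib f0 t = m t) (hg : ∀ c k t, fib (g c k) t = m t)
    (hinj : ∀ c c' i i', invr r (code f0 (g c)) i = invr r (code f0 (g c')) i' → c = c' ∧ i = i') : Cert n m := by
  intro f hf
  obtain ⟨y, hy⟩ := exists_perm_of_fibre (f := f) (g := f0) fun t => (hf t).trans (h0 t).symm
  have hx : ∀ c k, ∃ x ∈ alternatingGroup (Fin n), ∀ i, g c k (x i) = f0 i := fun c k =>
    exists_even_of_fibre hab hf0 fun t => (h0 t).trans (hg c k t).symm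
  choose x hxA hx using hx
  refine ⟨fun c k => y⁻¹ * x c k * y, fun c k => ?_, fun s hs c c' hi => ?_⟩
  · have := (inferInstance : (alternatingGroup (Fin n)).Normal).conj_mem _ (hxA c k) y⁻¹
    rwa [inv_inv] at this
  · have key0 : ∀ u v, f0 ((y * s * y⁻¹) u) = f0 ((y * s * y⁻¹) v) ↔ f0 u = f0 v := by
      intro u v
      have h1 := hs (y⁻¹ u) (y⁻¹ v)
      rw [← hy, ← hy, ← hy (y⁻¹ u), ← hy (y⁻¹ v)] at h1
      simpa using h1
    have key : ∀ k u v, g c k ((y * s * y⁻¹) u) = g c k ((y * s * y⁻¹) v) ↔ g c' k u = g c' k v := by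
      intro k u v
      have h1 := hi k ((y⁻¹ * x c' k * y)⁻¹ (y⁻¹ u)) ((y⁻¹ * x c' k * y)⁻¹ (y⁻¹ v))
      have e1 : ∀ w, f (((y⁻¹ * x c k * y)⁻¹ * s * (y⁻¹ * x c' k * y)) ((y⁻¹ * x c' k * y)⁻¹ (y⁻¹ w))) =
          g c k ((y * s * y⁻¹) w) := by
        intro w
        rw [← hy, ← hx c k]
        simp
      have e2 : ∀ w, f ((y⁻¹ * x c' k * y)⁻¹ (y⁻¹ w)) = g c' k w := by
        intro w
        rw [← hy, ← hx c' k]
        simp
      rwa [e1, e1, e2, e2] at h1
    have hcd : ∀ u v, code f0 (g c) ((y * s * y⁻¹) u) ((y * s * y⁻¹) v) = code f0 (g c') u v := by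
      intro u v
      unfold code
      simp only [key0, key]
    have h2 := fun u => hinj c c' _ _ (invr_eq r hcd u)
    refine ⟨(h2 a).1, ?_⟩
    have h3 : y * s * y⁻¹ = 1 := Equiv.ext fun u => (h2 u).2
    exact conj_eq_one_iff.1 h3

end cert

end Cfsg.Agent.SB.Alt
end

-- part: SB/Alt/Cert
section
/-!
# S5765, alternating row: certificates for the stabilisers of partitions (helper96)
-/

set_option autoImplicit false

namespace Cfsg.Agent.SB.Alt

/-- the partitions of shape [1, 4, 0, 0] -/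
def G14 : Fin 7 → Fin 4 → ℕ :=
  ![![337, 337, 85, 277], ![277, 325, 85, 337], ![325, 85, 337, 337], ![325, 277, 337, 340], ![277, 325, 85, 325], ![85, 325, 340, 337], ![277, 337, 337, 85]]

theorem cert14 : Cert 5 ![1, 4, 0, 0] :=
  cert_of _ false (lab 5 340) (fun c k => lab 5 (G14 c k)) 3 4 (by decide) (by decide +kernel)
    (by decide +kernel) (by decide +kernel) (by decide +kernel)

/-- the partitions of shape [2, 3, 0, 0] -/
def G23 : Fin 7 → Fin 4 → ℕ :=
  ![![69, 84, 336, 324], ![84, 84, 261, 21], ![273, 276, 261, 336], ![69, 81, 276, 324], ![261, 276, 81, 69], ![81, 324, 321, 84], ![81, 336, 336, 69]]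

theorem cert23 : Cert 5 ![2, 3, 0, 0] :=
  cert_of _ false (lab 5 336) (fun c k => lab 5 (G23 c k)) 3 4 (by decide) (by decide +kernel)
    (by decide +kernel) (by decide +kernel) (by decide +kernel)

/-- the partitions of shape [3, 4, 0, 0] -/
def G34 : Fin 7 → Fin 4 → ℕ :=
  ![![85, 4417, 5137, 5137], ![4357, 5137, 1105, 1045], ![1300, 1045, 1045, 1093], ![1093, 1045, 337, 337], ![5125, 5140, 4177, 1345], ![4177, 5140, 340, 4432], ![1297, 1105, 5200, 1360]]

theorem cert34 : Cert 7 ![3, 4, 0, 0] :=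
  cert_of _ false (lab 7 5440) (fun c k => lab 7 (G34 c k)) 5 6 (by decide) (by decide +kernel)
    (by decide +kernel) (by decide +kernel) (by decide +kernel)

/-- the partitions of shape [4, 4, 0, 0] -/
def G44 : Fin 7 → Fin 4 → ℕ :=
  ![![20800, 4372, 4180, 16657], ![16660, 17428, 17665, 4165], ![4117, 17428, 20500, 20497], ![5188, 16705, 20497, 5125], ![4369, 1300, 1105, 20737], ![4420, 17428, 16720, 20485], ![1348, 277, 5200, 17488]]

theorem cert44 : Cert 8 ![4, 4, 0, 0] :=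
  cert_of _ false (lab 8 21760) (fun c k => lab 8 (G44 c k)) 6 7 (by decide) (by decide +kernel)
    (by decide +kernel) (by decide +kernel) (by decide +kernel)

/-- the partitions of shape [2, 2, 2, 2] -/
def G2222 : Fin 7 → Fin 4 → ℕ :=
  ![![11628, 59655, 28839, 25422], ![60165, 30258, 5838, 59172], ![11373, 52641, 11079, 18750], ![47940, 18678, 42960, 14034], ![56472, 33630, 30264, 14622], ![38667, 58509, 47127, 56160], ![7608, 60816, 15954, 13161]]

theorem cert2222 : Cert 8 ![2, 2, 2, 2] :=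
  cert_of _ true (lab 8 64080) (fun c k => lab 8 (G2222 c k)) 6 7 (by decide) (by decide +kernel)
    (by decide +kernel) (by decide +kernel) (by decide +kernel)

/-- the partitions of shape [3, 3, 3, 0] -/
def G333 : Fin 7 → Fin 4 → ℕ :=
  ![![39201, 147846, 72324, 135753], ![2454, 136329, 24741, 71178], ![39201, 168258, 75801, 17001], ![18966, 10341, 104457, 168993], ![173316, 84552, 75924, 34905], ![132261, 149529, 67749, 137478], ![67938, 102504, 107013, 68178]]

theorem cert333 : Cert 9 ![3, 3, 3, 0] :=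
  cert_of _ false (lab 9 173376) (fun c k => lab 9 (G333 c k)) 7 8 (by decide) (by decide +kernel)
    (by decide +kernel) (by decide +kernel) (by decide +kernel)

/-- the partitions of shape [3, 3, 3, 3] -/
def G3333 : Fin 7 → Fin 4 → ℕ :=
  ![![13263708, 15565404, 9303648, 10794195], ![10471809, 4966734, 3728487, 2909031], ![16122525, 2203116, 12712290, 12375201], ![7247088, 10929939, 15927894, 13944990], ![15327516, 12983454, 6523197, 11059701], ![13226571, 3384711, 5226921, 13453851], ![1555842, 12367176, 12950496, 1708797]]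

theorem cert3333 : Cert 12 ![3, 3, 3, 3] :=
  cert_of _ false (lab 12 16688448) (fun c k => lab 12 (G3333 c k)) 10 11 (by decide) (by decide +kernel)
    (by decide +kernel) (by decide +kernel) (by decide +kernel)

/-- the partitions of shape [4, 4, 4, 0] -/
def G444 : Fin 7 → Fin 4 → ℕ :=
  ![![4597797, 2640453, 10098048, 2724102], ![10618212, 6439314, 661590, 1321569], ![10573860, 1155492, 4883748, 2122854], ![5392422, 10585488, 2724132, 9511014], ![6899721, 338310, 1222212, 9834762], ![10634820, 4852038, 8685081, 2382090], ![8999568, 2523480, 6391332, 2467329]]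

theorem cert444 : Cert 12 ![4, 4, 4, 0] :=
  cert_of _ false (lab 12 11162880) (fun c k => lab 12 (G444 c k)) 10 11 (by decide) (by decide +kernel)
    (by decide +kernel) (by decide +kernel) (by decide +kernel)

/-- the partitions of shape [4, 4, 4, 4] -/
def G4444 : Fin 7 → Fin 4 → ℕ :=
  ![![2449361202, 3172197960, 4074342513, 999690351], ![397679403, 3624802038, 3857750913, 4192563840], ![2512355778, 253059771, 78632628, 3429290604], ![3635289411, 1236820797, 3320670984, 3658604046], ![3677728866, 1578812145, 2489269896, 1573428366], ![3598732251, 824911734, 689599437, 847601295], ![1838338755, 3796579812, 517416099, 1517532720]]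

theorem cert4444 : Cert 16 ![4, 4, 4, 4] :=
  cert_of _ false (lab 16 4289352960) (fun c k => lab 16 (G4444 c k)) 14 15 (by decide) (by decide +kernel)
    (by decide +kernel) (by decide +kernel) (by decide +kernel)

end Cfsg.Agent.SB.Alt
end

-- part: SB/Alt/Aff
section
/-!
# S5765, alternating row: the affine case (helper96)

`X` a transitive elementary abelian subgroup of `Sym Ω` normalised by the solvable group `S` with `MaxInv`.  Then
`|Ω|` is a prime or `9` (else `SL_k(r) ≤ S`), and some `A_n`-conjugate of `S` meets `X` trivially.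
-/

set_option autoImplicit false

namespace Cfsg.Agent.SB.Alt

open Subgroup Equiv Equiv.Perm Cfsg

section elem

variable {r : ℕ} [hr : Fact r.Prime]

theorem lin_equiv_aux {V : Type*} [AddCommGroup V] [Module (ZMod r) V] [Finite V] :
    ∃ k : ℕ, Nonempty (V ≃ₗ[ZMod r] (Fin k → ZMod r)) := by
  have : Module.Finite (ZMod r) V := Module.Finite.of_finite
  exact ⟨_, ⟨(Module.finBasis (ZMod r) V).equivFun⟩⟩

theorem exists_elem_equiv {A : Type*} [Group A] [Finite A] (hc : ∀ x y : A, x * y = y * x) (he : ∀ x : A, x ^ r = 1) :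
    ∃ k : ℕ, Nonempty (A ≃* Multiplicative (Fin k → ZMod r)) := by
  let _ : CommGroup A := { (inferInstance : Group A) with mul_comm := hc }
  let _ : Module (ZMod r) (Additive A) := AddCommGroup.zmodModule (fun x => by
    have := he (Additive.toMul x)
    exact congrArg Additive.ofMul this)
  obtain ⟨k, ⟨c⟩⟩ := lin_equiv_aux (r := r) (V := Additive A)
  exact ⟨k, ⟨AddEquiv.toMultiplicativeRight c.toAddEquiv⟩⟩

end elem

section aff

variable {Ω : Type*} {X : Subgroup (Perm Ω)}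

/-- a transitive abelian group is self-centralising -/
theorem mem_of_comm (hc : ∀ x ∈ X, ∀ y ∈ X, x * y = y * x) (ht : ∀ a b : Ω, ∃ x ∈ X, x a = b) {g : Perm Ω}
    (hg : ∀ x ∈ X, g * x = x * g) : g ∈ X := by
  rcases isEmpty_or_nonempty Ω with h | ⟨⟨o⟩⟩
  · have : g = 1 := Equiv.ext fun a => h.elim a
    rw [this]
    exact one_mem _
  obtain ⟨x, hx, hxo⟩ := ht o (g o)
  have : g = x := by
    ext a
    obtain ⟨y, hy, rfl⟩ := ht o a
    rw [← Perm.mul_apply, hg y hy, Perm.mul_apply, ← hxo, ← Perm.mul_apply, hc y hy x hx, Perm.mul_apply]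
  rw [this]
  exact hx

/-- coordinates for a transitive elementary abelian group -/
theorem exists_model [Finite Ω] [Nonempty Ω] {r : ℕ} [Fact r.Prime] (hc : ∀ x ∈ X, ∀ y ∈ X, x * y = y * x)
    (he : ∀ x ∈ X, x ^ r = 1) (ht : ∀ a b : Ω, ∃ x ∈ X, x a = b) :
    ∃ (k : ℕ) (e : (Fin k → ZMod r) ≃ Ω), Nat.card X = r ^ k ∧
      ∀ x : Perm Ω, x ∈ X ↔ ∃ w, x = e.permCongrHom (Equiv.addLeft w) := by
  obtain ⟨o⟩ := ‹Nonempty Ω›
  obtain ⟨k, ⟨c⟩⟩ := exists_elem_equiv (r := r) (A := X) (fun x y => Subtype.ext (hc x x.2 y y.2))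
    (fun x => Subtype.ext (he x x.2))
  have hb : Function.Bijective fun x : X => (x : Perm Ω) o := by
    constructor
    · intro x y h
      apply Subtype.ext
      ext a
      obtain ⟨z, hz, rfl⟩ := ht o a
      have h' : (x : Perm Ω) o = (y : Perm Ω) o := h
      rw [← Perm.mul_apply, hc x x.2 z hz, Perm.mul_apply, h', ← Perm.mul_apply, hc z hz y y.2, Perm.mul_apply]
    · intro a
      obtain ⟨z, hz, rfl⟩ := ht o a
      exact ⟨⟨z, hz⟩, rfl⟩
  let e : (Fin k → ZMod r) ≃ Ω := (Multiplicative.ofAdd.trans c.symm.toEquiv).trans (Equiv.ofBijective _ hb)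
  have he' : ∀ w, e w = (c.symm (Multiplicative.ofAdd w) : Perm Ω) o := fun _ => rfl
  have key : ∀ w, e.permCongrHom (Equiv.addLeft w) = (c.symm (Multiplicative.ofAdd w) : Perm Ω) := by
    intro w
    ext a
    obtain ⟨u, rfl⟩ := e.surjective a
    change e (Equiv.addLeft w (e.symm (e u))) = _
    rw [symm_apply_apply, Equiv.coe_addLeft, he', he', ofAdd_add, map_mul]
    rfl
  refine ⟨k, e, ?_, fun x => ⟨fun hx => ⟨Multiplicative.toAdd (c ⟨x, hx⟩), ?_⟩, ?_⟩⟩
  · rw [Nat.card_congr c.toEquiv, Nat.card_congr Multiplicative.toAdd, Nat.card_fun, Nat.card_zmod, Nat.card_fin]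
  · rw [key]
    simp
  · rintro ⟨w, rfl⟩
    rw [key]
    exact Subtype.coe_prop _

variable [Fintype Ω] [DecidableEq Ω] {S : Subgroup (Perm Ω)}

/-- `SL_k(r)` does not lie in `S` -/
theorem not_perfect_sl (hT : AS (alternatingGroup Ω)) (hS : Group.IsSolvable S) (hm : MaxInv (alternatingGroup Ω) S)
    (hXS : X ≤ S) (hX0 : X ≠ ⊥) (hXn : ∀ s ∈ S, ∀ x ∈ X, s * x * s⁻¹ ∈ X) {r k : ℕ} [Fact r.Prime]
    (e : (Fin k → ZMod r) ≃ Ω) (hX : ∀ x : Perm Ω, x ∈ X ↔ ∃ w, x = e.permCongrHom (Equiv.addLeft w))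
    (hk : 2 ≤ k) : _root_.commutator (Matrix.SpecialLinearGroup (Fin k) (ZMod r)) ≠ ⊤ := by
  intro hp
  let ψ : Matrix.SpecialLinearGroup (Fin k) (ZMod r) →* Perm Ω :=
    e.permCongrHom.toMonoidHom.comp (MulAction.toPermHom _ (Fin k → ZMod r))
  have hψ : ∀ M, ψ M ∈ S := by
    intro M
    refine hm.mem_of_normalizes hT hX0 (fun h => hT.not_le hS (h.trans hXS)) hXn ?_ ?_
    · have h1 := Abelianization.commutator_subset_ker (sign.comp ψ) (hp ▸ mem_top M)
      exact mem_alternatingGroup.2 h1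
    · intro x hx
      obtain ⟨w, rfl⟩ := (hX x).1 hx
      refine (hX _).2 ⟨M • w, ?_⟩
      change e.permCongrHom _ * e.permCongrHom _ * (e.permCongrHom _)⁻¹ = _
      rw [← map_inv, ← map_mul, ← map_mul]
      congr 1
      ext1 a
      simp [smul_add]
  have hr : ⁅ψ.range, ψ.range⁆ = ψ.range := by
    rw [MonoidHom.range_eq_map, ← map_commutator]
    exact congrArg _ hp
  have hsol : Group.IsSolvable ψ.range := by
    have h1 : ψ.range ≤ S := by
      rintro _ ⟨M, rfl⟩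
      exact hψ M
    exact Group.isSolvable_of_isSolvable_injective (f := inclusion h1) (inclusion_injective h1)
  have hne : Nontrivial ψ.range := by
    have h01 : (⟨0, by omega⟩ : Fin k) ≠ ⟨1, by omega⟩ := by simp
    refine ⟨⟨⟨ψ (Matrix.SpecialLinearGroup.transvection h01 1), _, rfl⟩, 1, fun h => ?_⟩⟩
    have h1 : ψ (Matrix.SpecialLinearGroup.transvection h01 1) = 1 := congrArg Subtype.val h
    have h2 : MulAction.toPermHom _ (Fin k → ZMod r) (Matrix.SpecialLinearGroup.transvection h01 (1 : ZMod r)) = 1 :=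
      (map_eq_one_iff _ e.permCongrHom.injective).1 h1
    have h3 := DFunLike.congr_fun h2 (Pi.single ⟨1, by omega⟩ 1)
    rw [MulAction.toPermHom_apply, MulAction.toPerm_apply, Matrix.SpecialLinearGroup.transvection_smul_single_snd] at h3
    have h4 := congrFun h3 ⟨0, by omega⟩
    simp at h4
  have h1 := Group.IsSolvable.commutator_lt_top_of_nontrivial ψ.range
  apply h1.ne
  apply map_injective ψ.range.subtype_injective
  rw [_root_.commutator, map_commutator, ← MonoidHom.range_eq_map, range_subtype, hr]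

/-- prime degree -/
theorem aff_prime (hT : AS (alternatingGroup Ω)) (hS : Group.IsSolvable S) (hm : MaxInv (alternatingGroup Ω) S)
    (hXS : X ≤ S) (hX0 : X ≠ ⊥) (hXn : ∀ s ∈ S, ∀ x ∈ X, s * x * s⁻¹ ∈ X) {r : ℕ} [hr : Fact r.Prime]
    (he : ∀ x ∈ X, x ^ r = 1) (hcX : Nat.card X = r) (hcΩ : Fintype.card Ω = r) :
    ∃ x ∈ alternatingGroup Ω, ∀ v ∈ X, x⁻¹ * v * x ∈ S → v = 1 := by
  obtain ⟨x, hx, hxS⟩ := SetLike.not_le_iff_exists.1 (hT.not_le hS)
  refine ⟨x, hx, fun v hv hvx => ?_⟩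
  by_contra hv1
  have hXp : IsPGroup r X := IsPGroup.iff_card.2 ⟨1, by rw [hcX, pow_one]⟩
  have hgr : (x⁻¹ * v * x) ^ r = 1 := by
    have := conj_pow (a := x⁻¹) (b := v) (i := r)
    rw [inv_inv] at this
    rw [this, he v hv]
    simp
  have hgp : IsPGroup r (zpowers (x⁻¹ * v * x)) := by
    rintro ⟨_, j, rfl⟩
    refine ⟨1, Subtype.ext ?_⟩
    change ((x⁻¹ * v * x) ^ j) ^ r ^ 1 = 1
    rw [pow_one, ← zpow_natCast, ← zpow_mul, mul_comm, zpow_mul, zpow_natCast, hgr, one_zpow]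
  have hP := hgp.to_sup_of_normal_right' hXp ((zpowers_le.2 hvx).trans (le_normalizer_of_conj hXn))
  obtain ⟨j, hj⟩ := hP.exists_card_eq
  have hdvd : r ^ j ∣ r.factorial := by
    rw [← hj, ← hcΩ, ← Fintype.card_perm, ← Nat.card_eq_fintype_card]
    exact card_subgroup_dvd_card _
  have hj1 : j ≤ 1 := by
    by_contra hcon
    have h2 : r ^ 2 ∣ r.factorial := (pow_dvd_pow r (by omega)).trans hdvd
    have h3 : r.factorial = r * (r - 1).factorial := (Nat.mul_factorial_pred hr.out.ne_zero).symm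
    rw [h3, pow_two] at h2
    have h4 := (hr.out.dvd_factorial).1 (Nat.dvd_of_mul_dvd_mul_left hr.out.pos h2)
    have := hr.out.pos
    omega
  have hXP : X = zpowers (x⁻¹ * v * x) ⊔ X := by
    refine eq_of_le_of_card_ge le_sup_right ?_
    rw [hj, hcX]
    calc r ^ j ≤ r ^ 1 := Nat.pow_le_pow_right hr.out.pos hj1
      _ = r := pow_one r
  have hg : x⁻¹ * v * x ∈ X := hXP ▸ mem_sup_left (mem_zpowers _)
  have hXv : zpowers v = X := by
    refine eq_of_le_of_card_ge (zpowers_le.2 hv) ?_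
    rw [Nat.card_zpowers, orderOf_eq_prime (he v hv) hv1, hcX]
  apply hxS
  have h1 : x⁻¹ ∈ S := by
    refine hm.mem_of_normalizes hT hX0 (fun h => hT.not_le hS (h.trans hXS)) hXn (inv_mem hx) fun y hy => ?_
    rw [← hXv] at hy
    obtain ⟨i, rfl⟩ := hy
    have := conj_zpow (a := x⁻¹) (b := v) (i := i)
    rw [← this, inv_inv]
    exact zpow_mem hg i
  exact inv_mem_iff.1 h1

/-- the three-cycle used in degree nine -/
def cyc9 : Perm (Fin 2 → ZMod 3) := swap ![0, 0] ![1, 0] * swap ![0, 0] ![0, 1]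

theorem cyc9_spec : ∀ w : Fin 2 → ZMod 3, w ≠ 0 → ∃ u a : Fin 2 → ZMod 3,
    (cyc9⁻¹ * Equiv.addLeft w * cyc9) (u + a) + (cyc9⁻¹ * Equiv.addLeft w * cyc9) 0 ≠
      (cyc9⁻¹ * Equiv.addLeft w * cyc9) u + (cyc9⁻¹ * Equiv.addLeft w * cyc9) a := by
  decide +kernel

/-- degree nine -/
theorem aff_nine (hXn : ∀ s ∈ S, ∀ x ∈ X, s * x * s⁻¹ ∈ X)
    (e : (Fin 2 → ZMod 3) ≃ Ω) (hX : ∀ x : Perm Ω, x ∈ X ↔ ∃ w, x = e.permCongrHom (Equiv.addLeft w)) :
    ∃ x ∈ alternatingGroup Ω, ∀ v ∈ X, x⁻¹ * v * x ∈ S → v = 1 := by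
  refine ⟨e.permCongrHom cyc9, ?_, fun v hv hvx => ?_⟩
  · rw [mem_alternatingGroup]
    change sign (e.permCongr cyc9) = 1
    rw [sign_permCongr]
    exact mem_alternatingGroup.1
      (mul_mem_alternatingGroup_of_isSwap ⟨_, _, by decide, rfl⟩ ⟨_, _, by decide, rfl⟩)
  obtain ⟨w, rfl⟩ := (hX v).1 hv
  by_cases hw : w = 0
  · rw [hw]
    exact (map_eq_one_iff _ e.permCongrHom.injective).2 (Equiv.ext fun a => zero_add a)
  exfalso
  obtain ⟨u, a, hua⟩ := cyc9_spec w hw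
  rw [← map_inv, ← map_mul, ← map_mul] at hvx
  generalize cyc9⁻¹ * Equiv.addLeft w * cyc9 = g at hua hvx
  obtain ⟨u', hu'⟩ := (hX _).1 (hXn _ hvx _ ((hX _).2 ⟨u, rfl⟩))
  rw [← map_inv, ← map_mul, ← map_mul] at hu'
  have h1 := e.permCongrHom.injective hu'
  have h2 : ∀ b, g (u + b) = u' + g b := by
    intro b
    have := DFunLike.congr_fun h1 (g b)
    simpa using this
  apply hua
  have h3 := h2 0
  rw [add_zero] at h3
  rw [h2 a, h3]
  abel

/-- **The affine case.** -/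
theorem aff_main (h5 : 5 ≤ Fintype.card Ω) (hT : AS (alternatingGroup Ω)) (hS : Group.IsSolvable S)
    (hm : MaxInv (alternatingGroup Ω) S) (hXS : X ≤ S) (hX0 : X ≠ ⊥) (hXn : ∀ s ∈ S, ∀ x ∈ X, s * x * s⁻¹ ∈ X)
    (hc : ∀ x ∈ X, ∀ y ∈ X, x * y = y * x) {r : ℕ} (hr : r.Prime) (he : ∀ x ∈ X, x ^ r = 1)
    (ht : ∀ a b : Ω, ∃ x ∈ X, x a = b) : ∃ x ∈ alternatingGroup Ω, ∀ v ∈ X, x⁻¹ * v * x ∈ S → v = 1 := by
  have : Fact r.Prime := ⟨hr⟩
  have : Nonempty Ω := Fintype.card_pos_iff.1 (by omega)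
  obtain ⟨k, e, hcX, hX⟩ := exists_model hc he ht
  have hcΩ : Fintype.card Ω = r ^ k := by
    rw [← Nat.card_eq_fintype_card, ← Nat.card_congr e, Nat.card_fun, Nat.card_zmod, Nat.card_fin]
  rcases Nat.lt_or_ge k 3 with hk | hk
  · interval_cases k
    · rw [pow_zero] at hcΩ
      omega
    · rw [pow_one] at hcΩ hcX
      exact aff_prime hT hS hm hXS hX0 hXn he hcX hcΩ
    · by_cases h3 : r = 3
      · subst h3
        exact aff_nine hXn e hX
      · refine absurd (PLocal.SL2Perfect.commutator_eq_top ?_ h3) (not_perfect_sl hT hS hm hXS hX0 hXn e hX le_rfl)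
        rintro rfl
        omega
  · have h1 : _root_.commutator (Matrix.SpecialLinearGroup (Fin k) (ZMod r)) = ⊤ := S0248.result (F := ZMod r) k hk
    exact not_perfect_sl hT hS hm hXS hX0 hXn e hX (by omega) h1 |>.elim

end aff

end Cfsg.Agent.SB.Alt
end

-- part: SB/Alt/SixCert
section
/-!
# S5765, alternating row: `A₆` (helper96)

An automorphism of `A₆` which stabilises four suitable conjugates of one of five invariant sets (an involution, the
non-trivial elements of one of the two four-groups, of a Sylow 5-subgroup or of a Sylow 3-subgroup) is trivial.  No model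
of `Aut A₆` is used: an automorphism is determined by the images of three generators.
-/

set_option autoImplicit false

namespace Cfsg.Agent.SB.Alt

open Subgroup Equiv Equiv.Perm Cfsg Cfsg.Agent.H786.FC Cfsg.Agent.Lib.AltCarmichael

/-- `S₆` -/
abbrev P6 := Perm (Fin 6)

/-- `A₆` -/
abbrev K6 := ↥(alternatingGroup (Fin 6))

/-- the table coded by a number -/
def tb (N : ℕ) (i : Fin 6) : Fin 6 := Fin.ofNat 6 ((N >>> (3 * i.val)) % 8)

/-- the permutation with given table and inverse table -/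
def pm (N M : ℕ) (h1 : ∀ i, tb M (tb N i) = i := by decide) (h2 : ∀ i, tb N (tb M i) = i := by decide) : P6 :=
  ⟨tb N, tb M, h1, h2⟩

/-- the value of a word -/
def ev {G : Type*} [Group G] (b : Fin 3 → G) (w : List (Fin 3)) : G := (w.map b).prod

theorem map_ev {G H : Type*} [Group G] [Group H] (f : G →* H) (b : Fin 3 → G) (w : List (Fin 3)) :
    f (ev b w) = ev (fun i => f (b i)) w := by
  unfold ev
  rw [map_list_prod, List.map_map]
  rfl

/-- `S` stabilises the set `L` -/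
def Stab (L : List P6) (S : Subgroup (MulAut K6)) : Prop :=
  ∀ s ∈ S, ∀ g : K6, (g : P6) ∈ L → ((s g : K6) : P6) ∈ L

theorem Stab.conj {L : List P6} {S : Subgroup (MulAut K6)} (h : Stab L S) {s : MulAut K6} {u : K6}
    (hs : (MulAut.conj u)⁻¹ * s * MulAut.conj u ∈ S) {g : K6} (hg : (u : P6)⁻¹ * g * u ∈ L) :
    (u : P6)⁻¹ * (s g : K6) * u ∈ L := by
  have h1 := h _ hs (u⁻¹ * g * u) hg
  have e : ((MulAut.conj u)⁻¹ * s * MulAut.conj u) (u⁻¹ * g * u) = u⁻¹ * s g * u := by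
    rw [MulAut.mul_apply, MulAut.mul_apply, MulAut.conj_inv_apply, MulAut.conj_apply]
    congr 3
    group
  rw [e] at h1
  exact h1

theorem aut_eq_one {s : MulAut K6} (h : ∀ i : Fin 4, ∃ g : K6, (g : P6) = cyc 4 i ∧ s g = g) : s = 1 := by
  have h1 : gen 4 (cyc 4) ≤ (s.toMonoidHom.eqLocus (MonoidHom.id K6)).map (alternatingGroup (Fin 6)).subtype := by
    rw [gen_def, closure_le]
    rintro _ ⟨i, hi, rfl⟩
    obtain ⟨g, hg, hsg⟩ := h ⟨i, hi⟩
    exact ⟨g, hsg, hg⟩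
  rw [gen_cyc 4 (by norm_num)] at h1
  ext1 g
  obtain ⟨g', hg', he⟩ := h1 g.2
  have : g' = g := Subtype.ext he
  rw [← this]
  exact hg'

theorem seven_of_cert (L : List P6) (t : Fin 4 → P6) (a : Fin 3 → P6) (conds : List (List (Fin 3) × Fin 4))
    (gw : Fin 4 → List (Fin 3)) (y : Fin 7 → P6)
    (hE : t 0 = 1 ∧ (∀ k, sign (t k) = 1) ∧ (∀ c, sign (y c) = 1) ∧ ∀ g ∈ L, sign g = 1)
    (hA : (∀ i : Fin 3, (t i.castSucc)⁻¹ * a i * t i.castSucc ∈ L) ∧
      (∀ p ∈ conds, (t p.2)⁻¹ * ev a p.1 * t p.2 ∈ L) ∧ ∀ i : Fin 4, ev a (gw i) = cyc 4 i)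
    (hM : ∀ σ0 ∈ L, ∀ σ1 ∈ L, ∀ σ2 ∈ L, (∀ p ∈ conds, (t p.2)⁻¹ *
      ev ![t 0 * σ0 * (t 0)⁻¹, t 1 * σ1 * (t 1)⁻¹, t 2 * σ2 * (t 2)⁻¹] p.1 * t p.2 ∈ L) →
      t 0 * σ0 * (t 0)⁻¹ = a 0 ∧ t 1 * σ1 * (t 1)⁻¹ = a 1 ∧ t 2 * σ2 * (t 2)⁻¹ = a 2)
    (hY : ∀ c c', (∀ g ∈ L, (y c)⁻¹ * y c' * g * ((y c)⁻¹ * y c')⁻¹ ∈ L) → c = c')
    {S : Subgroup (MulAut K6)} (h : Stab L S) : Seven (InnG K6) S := by
  obtain ⟨h0, hEt, hEy, hEL⟩ := hE
  obtain ⟨hA1, hA2, hA3⟩ := hA
  let T : Fin 4 → K6 := fun k => ⟨t k, mem_alternatingGroup.2 (hEt k)⟩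
  let Y : Fin 7 → K6 := fun c => ⟨y c, mem_alternatingGroup.2 (hEy c)⟩
  have hEa : ∀ i, sign (a i) = 1 := by
    intro i
    have h1 := hEL _ (hA1 i)
    rwa [map_mul, map_mul, map_inv, hEt, inv_one, one_mul, mul_one] at h1
  let A : Fin 3 → K6 := fun i => ⟨a i, mem_alternatingGroup.2 (hEa i)⟩
  have key : ∀ s : MulAut K6, (∀ k, (MulAut.conj (T k))⁻¹ * s * MulAut.conj (T k) ∈ S) → s = 1 := by
    intro s hs
    have hb : ∀ i : Fin 3, (t i.castSucc)⁻¹ * (s (A i) : K6) * t i.castSucc ∈ L := fun i =>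
      h.conj (u := T i.castSucc) (hs _) (hA1 i)
    have e : ∀ u v : P6, u * (u⁻¹ * v * u) * u⁻¹ = v := fun u v => by group
    have hevA : ∀ w, ((ev A w : K6) : P6) = ev a w := fun w => map_ev (alternatingGroup (Fin 6)).subtype A w
    have hevs : ∀ w, ((s (ev A w) : K6) : P6) = ev (fun i => ((s (A i) : K6) : P6)) w := fun w =>
      map_ev ((alternatingGroup (Fin 6)).subtype.comp s.toMonoidHom) A w
    have h1 := hM _ (hb 0) _ (hb 1) _ (hb 2) (fun p hp => by
      have h2 := h.conj (u := T p.2) (g := ev A p.1) (hs _) (by rw [hevA]; exact hA2 p hp)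
      rw [hevs] at h2
      have e2 : (fun i => ((s (A i) : K6) : P6)) =
          ![t 0 * ((t (Fin.castSucc (0 : Fin 3)))⁻¹ * (s (A 0) : K6) * t (Fin.castSucc (0 : Fin 3))) * (t 0)⁻¹,
            t 1 * ((t (Fin.castSucc (1 : Fin 3)))⁻¹ * (s (A 1) : K6) * t (Fin.castSucc (1 : Fin 3))) * (t 1)⁻¹,
            t 2 * ((t (Fin.castSucc (2 : Fin 3)))⁻¹ * (s (A 2) : K6) * t (Fin.castSucc (2 : Fin 3))) * (t 2)⁻¹] := by
        funext i
        fin_cases i
        exacts [(e _ _).symm, (e _ _).symm, (e _ _).symm]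
      rw [e2] at h2
      exact h2)
    have h3 : (fun i => ((s (A i) : K6) : P6)) = a := by
      funext i
      fin_cases i
      exacts [(e _ _).symm.trans h1.1, (e _ _).symm.trans h1.2.1, (e _ _).symm.trans h1.2.2]
    refine aut_eq_one fun i => ⟨ev A (gw i), (hevA _).trans (hA3 i), Subtype.ext ?_⟩
    rw [hevs, h3, hevA]
  refine ⟨fun c => ![MulAut.conj (T 1), MulAut.conj (T 2), MulAut.conj (T 3), MulAut.conj (Y c)], fun c i => ?_,
    fun s hs c c' hi => ?_⟩
  · fin_cases i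
    exacts [⟨_, rfl⟩, ⟨_, rfl⟩, ⟨_, rfl⟩, ⟨_, rfl⟩]
  · have h1 : s = 1 := by
      refine key s fun k => ?_
      fin_cases k
      · have : T 0 = 1 := Subtype.ext h0
        change (MulAut.conj (T 0))⁻¹ * s * MulAut.conj (T 0) ∈ S
        rw [this, map_one, inv_one, one_mul, mul_one]
        exact hs
      exacts [hi 0, hi 1, hi 2]
    refine ⟨hY c c' fun g hg => ?_, h1⟩
    have h2 : (MulAut.conj (Y c))⁻¹ * s * MulAut.conj (Y c') ∈ S := hi 3
    rw [h1, mul_one, ← map_inv, ← map_mul] at h2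
    exact h _ h2 ⟨g, mem_alternatingGroup.2 (hEL g hg)⟩ hg

/-- pointwise comparison -/
private def eqB (a b : P6) : Bool :=
  Nat.beq (a 0).1 (b 0).1 && (Nat.beq (a 1).1 (b 1).1 && (Nat.beq (a 2).1 (b 2).1 && (Nat.beq (a 3).1 (b 3).1 &&
    (Nat.beq (a 4).1 (b 4).1 && Nat.beq (a 5).1 (b 5).1))))

private theorem eqB_iff (a b : P6) : eqB a b = true ↔ a = b := by
  refine ⟨fun h => Equiv.ext fun i => Fin.ext ?_, fun h => by simp only [eqB, h, Nat.beq_refl, Bool.and_self]⟩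
  simp only [eqB, Bool.and_eq_true, Nat.beq_eq] at h
  fin_cases i
  exacts [h.1, h.2.1, h.2.2.1, h.2.2.2.1, h.2.2.2.2.1, h.2.2.2.2.2]

@[reducible] private def deq : DecidableEq P6 := fun a b => decidable_of_iff _ (eqB_iff a b)

@[reducible] private def dball (p : P6 → Prop) [DecidablePred p] (L : List P6) : Decidable (∀ a ∈ L, p a) :=
  List.decidableBAll p L

attribute [local instance high] deq dball

/-- the invariant set of type 2 -/
def L2 : List P6 := [pm 181441 181441]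

theorem seven2 {S : Subgroup (MulAut K6)} (h : Stab L2 S) : Seven (InnG K6) S :=
  seven_of_cert L2 ![pm 181896 181896, pm 72472 107360, pm 84547 115025, pm 98981 6812]
    ![pm 181441 181441, pm 151691 151691, pm 49323 49323]
    []
    ![[0, 1, 2, 0], [1, 2], [1, 2, 0, 1, 0, 1, 2], [1, 0, 2, 1, 0, 1]]
    ![pm 66284 34140, pm 21274 139805, pm 139371 53523, pm 166097 177220, pm 106597 6931, pm 174280 177416, pm 144005 22681]
    (by decide +kernel) (by decide +kernel) (by decide +kernel) (by decide +kernel) h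

/-- the invariant set of type A -/
def LA : List P6 := [pm 181441 181441, pm 180762 180762, pm 180307 180307]

theorem sevenA {S : Subgroup (MulAut K6)} (h : Stab LA S) : Seven (InnG K6) S :=
  seven_of_cert LA ![pm 181896 181896, pm 86220 132427, pm 41196 34091, pm 80396 100682]
    ![pm 180762 180762, pm 168099 168099, pm 151691 151691]
    [([2, 0, 2], 0), ([1, 0, 2, 1, 0, 2], 3)]
    ![[2, 0, 2, 1, 0, 2], [1, 2], [1, 0, 2, 0, 1, 2, 1], [0, 1, 2, 0]]
    ![pm 69980 66403, pm 14673 79941, pm 22156 132749, pm 135402 54307, pm 86115 135507, pm 152643 151761, pm 140008 54552]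
    (by decide +kernel) (by decide +kernel) (by decide +kernel) (by decide +kernel) h

/-- the invariant set of type B -/
def LB : List P6 := [pm 181441 181441, pm 153217 153217, pm 152776 152776]

theorem sevenB {S : Subgroup (MulAut K6)} (h : Stab LB S) : Seven (InnG K6) S :=
  seven_of_cert LB ![pm 181896 181896, pm 152601 152258, pm 54804 132714, pm 34973 12972]
    ![pm 153217 153217, pm 152216 152216, pm 42792 42792]
    [([1, 0, 2, 1, 0, 2], 3)]
    ![[0, 1, 0, 2, 0, 1, 2], [0, 2, 1, 0, 2, 0, 1], [2, 0, 1, 2, 1, 0, 2, 1], [0, 1, 0, 2, 1, 0, 2]]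
    ![pm 53523 139371, pm 173580 165642, pm 133834 119820, pm 10571 78093, pm 106597 6931, pm 103720 43744, pm 165068 165068]
    (by decide +kernel) (by decide +kernel) (by decide +kernel) (by decide +kernel) h

/-- the invariant set of type 5 -/
def L5 : List P6 := [pm 166097 177220, pm 168218 172579, pm 172579 168218, pm 177220 166097]

theorem seven5 {S : Subgroup (MulAut K6)} (h : Stab L5 S) : Seven (InnG K6) S :=
  seven_of_cert L5 ![pm 181896 181896, pm 49365 17515, pm 18005 18005, pm 22681 144005]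
    ![pm 177220 166097, pm 132427 86220, pm 43744 103720]
    [([1, 0, 2], 3)]
    ![[1, 0, 0, 0, 2, 1], [1, 0, 2, 1, 0], [1, 0, 2, 2], [2, 2, 1, 0]]
    ![pm 5475 69861, pm 132945 87620, pm 115522 84505, pm 170178 177185, pm 43205 13609, pm 10473 46341, pm 169744 173664]
    (by decide +kernel) (by decide +kernel) (by decide +kernel) (by decide +kernel) h

/-- the invariant set of type 3 -/
def L3 : List P6 := [pm 120968 146056, pm 146056 120968, pm 181777 181826, pm 120849 145986, pm 145937 120898, pm 181826 181777, pm 120898 145937, pm 145986 120849]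

theorem seven3 {S : Subgroup (MulAut K6)} (h : Stab L3 S) : Seven (InnG K6) S :=
  seven_of_cert L3 ![pm 181896 181896, pm 11033 107269, pm 55427 143529, pm 168218 172579]
    ![pm 145986 120849, pm 6490 78373, pm 181259 180426]
    [([2, 1, 0], 3), ([1, 2, 0], 2)]
    ![[0, 0, 1, 2, 0, 1], [1, 2, 0, 2], [1, 2, 1, 1], [1, 0, 0, 1, 2]]
    ![pm 168988 164578, pm 22681 144005, pm 47748 100521, pm 140869 22289, pm 144005 22681, pm 43205 13609, pm 78177 72003]
    (by decide +kernel) (by decide +kernel) (by decide +kernel) (by decide +kernel) h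

end Cfsg.Agent.SB.Alt
end

-- part: SB/Alt/Six
section
/-!
# S5765, alternating row: `Row A₆` (helper96)
-/

set_option autoImplicit false

namespace Cfsg.Agent.SB.Alt

open Subgroup Equiv Equiv.Perm Cfsg Cfsg.Agent.H786.FC

attribute [local instance high] deq dball

/-- `(0 1)(2 3)` -/
def g2 : P6 := pm 181441 181441
/-- `(0 1 2)` -/
def g3 : P6 := pm 181777 181826
/-- `(0 1 2)(3 4 5)` -/
def g33 : P6 := pm 120849 145986
/-- `(0 1 2 3 4)` -/
def g5 : P6 := pm 166097 177220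

theorem ct2 : cycleType g2 = Multiset.replicate 2 2 := by decide +kernel
theorem ct3 : cycleType g3 = Multiset.replicate 1 3 := by decide +kernel
theorem ct33 : cycleType g33 = Multiset.replicate 2 3 := by decide +kernel
theorem ct5 : cycleType g5 = Multiset.replicate 1 5 := by decide +kernel

/-- six digits -/
private def dg6 (a b c d e f : ℕ) : ℕ :=
  Nat.add a (Nat.mul 8 (Nat.add b (Nat.mul 8 (Nat.add c (Nat.mul 8 (Nat.add d (Nat.mul 8 (Nat.add e (Nat.mul 8 f)))))))))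

/-- one digit -/
private def tv (N i : ℕ) : ℕ := Nat.mod (Nat.shiftRight N (Nat.mul 3 i)) 8

/-- the code of a permutation -/
private def cd (z : P6) : ℕ := dg6 (z 0).1 (z 1).1 (z 2).1 (z 3).1 (z 4).1 (z 5).1

private theorem tv_cd (z : P6) (i : Fin 6) : tv (cd z) i.1 = (z i).1 := by
  have h0 := (z 0).2; have h1 := (z 1).2; have h2 := (z 2).2; have h3 := (z 3).2; have h4 := (z 4).2; have h5 := (z 5).2
  have e : ∀ k, tv (cd z) k = ((z 0).1 + 8 * ((z 1).1 + 8 * ((z 2).1 + 8 * ((z 3).1 + 8 * ((z 4).1 + 8 * (z 5).1))))) / 2 ^ (3 * k) % 8 :=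
    fun k => congrArg (· % 8) (Nat.shiftRight_eq_div_pow _ _)
  rw [e]
  fin_cases i
  exacts [show _ / 1 % 8 = (z 0).1 by omega, show _ / 8 % 8 = (z 1).1 by omega, show _ / 64 % 8 = (z 2).1 by omega,
    show _ / 512 % 8 = (z 3).1 by omega, show _ / 4096 % 8 = (z 4).1 by omega, show _ / 32768 % 8 = (z 5).1 by omega]

private theorem cd_inj {a b : P6} (h : cd a = cd b) : a = b :=
  Equiv.ext fun i => Fin.ext (by rw [← tv_cd, h, tv_cd])

/-- the code of a product -/
private def ml (N M : ℕ) : ℕ := dg6 (tv N (tv M 0)) (tv N (tv M 1)) (tv N (tv M 2)) (tv N (tv M 3)) (tv N (tv M 4)) (tv N (tv M 5))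

private theorem cd_mul (a b : P6) : cd (a * b) = ml (cd a) (cd b) := by
  have e : ∀ i : Fin 6, tv (cd a) (tv (cd b) i.1) = ((a * b) i).1 := fun i => by rw [tv_cd, tv_cd]; rfl
  exact (congr (congr (congr (congr (congr (congrArg dg6 (e 0)) (e 1)) (e 2)) (e 3)) (e 4)) (e 5)).symm

private theorem cd_pow (z : P6) : ∀ n : ℕ, cd (z ^ n) = Nat.rec 181896 (fun _ s => ml s (cd z)) n
  | 0 => by rw [pow_zero]; rfl
  | n + 1 => by rw [pow_succ, cd_mul, cd_pow z n]

/-- all codes -/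
private def all6 (q : ℕ → Bool) : Bool :=
  [0, 1, 2, 3, 4, 5].all fun a => [0, 1, 2, 3, 4, 5].all fun b => Nat.beq a b || [0, 1, 2, 3, 4, 5].all fun c =>
    Nat.beq a c || (Nat.beq b c || [0, 1, 2, 3, 4, 5].all fun d => Nat.beq a d || (Nat.beq b d || (Nat.beq c d ||
      [0, 1, 2, 3, 4, 5].all fun e => Nat.beq a e || (Nat.beq b e || (Nat.beq c e || (Nat.beq d e ||
        [0, 1, 2, 3, 4, 5].all fun f => Nat.beq a f || (Nat.beq b f || (Nat.beq c f || (Nat.beq d f || (Nat.beq e f ||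
          q (dg6 a b c d e f)))))))))))

private theorem all6_spec {q : ℕ → Bool} (h : all6 q = true) (z : P6) : q (cd z) = true := by
  have m : ∀ i : Fin 6, i.1 ∈ [0, 1, 2, 3, 4, 5] := by decide
  have n : ∀ {i j : Fin 6} {x : Bool}, (Nat.beq (z i).1 (z j).1 || x) = true → i ≠ j → x = true := fun h hij =>
    (Bool.or_eq_true_iff.1 h).resolve_left fun e => hij (z.injective (Fin.ext (Nat.eq_of_beq_eq_true e)))
  have a := List.all_eq_true.1 (n (List.all_eq_true.1 (List.all_eq_true.1 h _ (m (z 0))) _ (m (z 1))) (by decide)) _ (m (z 2))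
  have b := List.all_eq_true.1 (n (n a (by decide)) (by decide)) _ (m (z 3))
  have c := List.all_eq_true.1 (n (n (n b (by decide)) (by decide)) (by decide)) _ (m (z 4))
  have d := List.all_eq_true.1 (n (n (n (n c (by decide)) (by decide)) (by decide)) (by decide)) _ (m (z 5))
  exact n (n (n (n (n d (by decide)) (by decide)) (by decide)) (by decide)) (by decide)

/-- the elements with `z ^ n = 1` which commute with an element of `Y` lie in `L` -/
private def tiB (n : ℕ) (Y L : List P6) : Bool :=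
  all6 fun N => !Nat.beq (Nat.rec 181896 (fun _ s => ml s N) n) 181896 ||
    Y.all fun y => !Nat.beq (ml N (cd y)) (ml (cd y) N) || L.any fun g => Nat.beq N (cd g)

private theorem tiB_spec {n : ℕ} {Y L : List P6} (h : tiB n Y L = true) {y : P6} (hy : y ∈ Y) (z : P6) (h1 : z * y = y * z)
    (h2 : z ^ n = 1) : z ∈ L := by
  have h3 := all6_spec h z
  rw [← cd_pow, h2, show Nat.beq (cd 1) 181896 = true from rfl, Bool.not_true, Bool.false_or] at h3
  have h4 := List.all_eq_true.1 h3 y hy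
  rw [← cd_mul, ← cd_mul, h1, Nat.beq_refl, Bool.not_true, Bool.false_or] at h4
  obtain ⟨g, hg, e⟩ := List.any_eq_true.1 h4
  exact cd_inj (Nat.eq_of_beq_eq_true e) ▸ hg

theorem ti3 : ∀ y ∈ L3, ∀ z : P6, z * y = y * z → z ^ 3 = 1 → z = 1 ∨ z ∈ L3 := fun _ hy z h1 h2 =>
  List.mem_cons.1 (tiB_spec (L := 1 :: L3) (by decide +kernel) hy z h1 h2)
theorem ti5 : ∀ y ∈ L5, ∀ z : P6, z * y = y * z → z ^ 5 = 1 → z = 1 ∨ z ∈ L5 := fun _ hy z h1 h2 =>
  List.mem_cons.1 (tiB_spec (L := 1 :: L5) (by decide +kernel) hy z h1 h2)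
theorem ab3 : ∀ y ∈ L3, y ≠ 1 ∧ y ^ 3 = 1 ∧ ∀ z ∈ L3, y * z = z * y := by decide +kernel
theorem ab5 : ∀ y ∈ L5, y ≠ 1 ∧ y ^ 5 = 1 ∧ ∀ z ∈ L5, y * z = z * y := by decide +kernel
/-- the odd involutions which commute with `g2` -/
private def LO : List P6 := [pm 181889 181889, pm 181448 181448, pm 153224 153224, pm 152769 152769, pm 152090 152090, pm 151635 151635]
theorem cen2 : ∀ z : P6, z * g2 = g2 * z → z ^ 2 = 1 → sign z = 1 → z = 1 ∨ z ∈ LA ∨ z ∈ LB := fun z h1 h2 h3 =>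
  (List.mem_cons.1 (tiB_spec (L := 1 :: (LO ++ (LA ++ LB))) (by decide +kernel) (List.mem_singleton_self g2) z h1 h2)).imp_right fun h =>
    List.mem_append.1 ((List.mem_append.1 h).resolve_left fun h4 => (by decide +kernel : ∀ g ∈ LO, sign g ≠ 1) z h4 h3)
theorem fourA1 : ∀ z ∈ LA, z ≠ g2 → ∀ h ∈ LA, h ≠ 1 ∧ (h = g2 ∨ h = z ∨ h = g2 * z) := by decide +kernel
theorem fourA2 : ∀ z ∈ LA, z ≠ g2 → ∀ w ∈ LB, w * z = z * w → w ∈ LA := by decide +kernel
theorem fourB1 : ∀ z ∈ LB, z ≠ g2 → ∀ h ∈ LB, h ≠ 1 ∧ (h = g2 ∨ h = z ∨ h = g2 * z) := by decide +kernel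
theorem fourB2 : ∀ z ∈ LB, z ≠ g2 → ∀ w ∈ LA, w * z = z * w → w ∈ LB := by decide +kernel

/-- the classes of even elements of prime order -/
theorem std6 {σ : P6} (hs : sign σ = 1) (h1 : σ ≠ 1) {r : ℕ} (hr : r.Prime) (hσ : σ ^ r = 1) :
    ∃ τ : P6, (r = 2 ∧ τ * σ * τ⁻¹ = g2) ∨ (r = 3 ∧ τ * σ * τ⁻¹ ∈ L3) ∨ (r = 5 ∧ τ * σ * τ⁻¹ ∈ L5) := by
  have : Fact r.Prime := ⟨hr⟩
  have hc := cycleType_of_pow_prime_eq_one hσ
  have hpos : 0 < Multiset.card σ.cycleType := card_cycleType_pos.2 h1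
  have hsum := sum_cycleType_le σ
  have hsg := sign_of_cycleType σ
  generalize Multiset.card σ.cycleType = k at hc hpos hsg
  rw [hc, Multiset.sum_replicate, smul_eq_mul, Fintype.card_fin] at hsum
  rw [hc, Multiset.sum_replicate, smul_eq_mul, hs] at hsg
  have h2 := hr.two_le
  have hr6 : r ≤ 6 := le_trans (Nat.le_mul_of_pos_left r hpos) hsum
  have hk : k ≤ 3 := by nlinarith
  have conj : ∀ {g : P6}, cycleType g = Multiset.replicate k r → ∃ τ : P6, τ * σ * τ⁻¹ = g := fun h =>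
    isConj_iff.1 (isConj_iff_cycleType_eq.2 (hc.trans h.symm))
  interval_cases r
  · interval_cases k
    · exact absurd hsg (by decide)
    · obtain ⟨τ, h⟩ := conj ct2
      exact ⟨τ, Or.inl ⟨rfl, h⟩⟩
    · exact absurd hsg (by decide)
  · interval_cases k
    · obtain ⟨τ, h⟩ := conj ct3
      exact ⟨τ, Or.inr (Or.inl ⟨rfl, h ▸ (by decide +kernel : g3 ∈ L3)⟩)⟩
    · obtain ⟨τ, h⟩ := conj ct33
      exact ⟨τ, Or.inr (Or.inl ⟨rfl, h ▸ (by decide +kernel : g33 ∈ L3)⟩)⟩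
    · omega
  · exact absurd hr (by decide)
  · interval_cases k
    · obtain ⟨τ, h⟩ := conj ct5
      exact ⟨τ, Or.inr (Or.inr ⟨rfl, h ▸ (by decide +kernel : g5 ∈ L5)⟩)⟩
    · omega
    · omega
  · exact absurd hr (by decide)

section core

variable {S : Subgroup (MulAut K6)} {X : Subgroup K6}

theorem aut_ne_one (s : MulAut K6) {g : K6} (hg : (g : P6) ≠ 1) : ((s g : K6) : P6) ≠ 1 := fun h =>
  hg (congrArg Subtype.val ((map_eq_one_iff s s.injective).1 (Subtype.ext h)))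

theorem stab_ti {L : List P6} {r : ℕ} (hF : ∀ y ∈ L, ∀ z : P6, z * y = y * z → z ^ r = 1 → z = 1 ∨ z ∈ L)
    (hL : ∀ y ∈ L, y ≠ 1 ∧ y ^ r = 1 ∧ ∀ z ∈ L, y * z = z * y) (hX : ∀ s ∈ S, ∀ g ∈ X, s g ∈ X)
    (hc : ∀ g ∈ X, ∀ h ∈ X, g * h = h * g) {g : K6} (hg : g ∈ X) (hgL : (g : P6) ∈ L) : Stab L S := by
  intro s hs h hh
  have hp : ∀ u : K6, (u : P6) ∈ L → ((s u : K6) : P6) ^ r = 1 := by
    intro u hu
    have h1 : u ^ r = 1 := Subtype.ext (hL _ hu).2.1
    have h2 : (s u) ^ r = 1 := by rw [← map_pow, h1, map_one]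
    exact congrArg Subtype.val h2
  have h1 : ((s g : K6) : P6) ∈ L :=
    (hF _ hgL _ (congrArg Subtype.val (hc _ (hX s hs g hg) g hg)) (hp g hgL)).resolve_left
      (aut_ne_one s (hL _ hgL).1)
  have h2 : s h * s g = s g * s h := by
    rw [← map_mul, ← map_mul]
    exact congrArg s (Subtype.ext ((hL _ hh).2.2 _ hgL))
  exact (hF _ h1 _ (congrArg Subtype.val h2) (hp h hh)).resolve_left (aut_ne_one s (hL _ hh).1)

theorem mem_four (hc : ∀ g ∈ X, ∀ h ∈ X, g * h = h * g) (he : ∀ g ∈ X, g ^ 2 = 1) {g : K6} (hg : g ∈ X)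
    (hg2 : (g : P6) = g2) {w : K6} (hw : w ∈ X) (hw1 : (w : P6) ≠ 1) : (w : P6) ∈ LA ∨ (w : P6) ∈ LB :=
  (cen2 w (hg2 ▸ congrArg Subtype.val (hc w hw g hg)) (congrArg Subtype.val (he w hw))
    (mem_alternatingGroup.1 w.2)).resolve_left hw1

theorem stab_four {L L' : List P6} (hX : ∀ s ∈ S, ∀ g ∈ X, s g ∈ X) (hc : ∀ g ∈ X, ∀ h ∈ X, g * h = h * g)
    {g z : K6} (hg : g ∈ X) (hg2 : (g : P6) = g2) (hz : z ∈ X)
    (hmem : ∀ w ∈ X, (w : P6) ≠ 1 → (w : P6) ∈ L ∨ (w : P6) ∈ L')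
    (hL : (∀ h ∈ L, h ≠ 1 ∧ (h = g2 ∨ h = z ∨ h = g2 * z)) ∧ ∀ w ∈ L', w * z = z * w → w ∈ L) : Stab L S := by
  intro s hs h hh
  have hhX : h ∈ X := by
    rcases (hL.1 _ hh).2 with h1 | h1 | h1
    · rwa [(Subtype.ext (h1.trans hg2.symm) : h = g)]
    · rwa [(Subtype.ext h1 : h = z)]
    · rw [← hg2] at h1
      rw [(Subtype.ext h1 : h = g * z)]
      exact mul_mem hg hz
  rcases hmem _ (hX s hs h hhX) (aut_ne_one s (hL.1 _ hh).1) with h1 | h1
  · exact h1
  · exact hL.2 _ h1 (congrArg Subtype.val (hc _ (hX s hs h hhX) z hz))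

theorem seven_core (hX : ∀ s ∈ S, ∀ g ∈ X, s g ∈ X) (hc : ∀ g ∈ X, ∀ h ∈ X, g * h = h * g) {r : ℕ}
    (he : ∀ g ∈ X, g ^ r = 1) {g : K6} (hg : g ∈ X)
    (h : (r = 2 ∧ (g : P6) = g2) ∨ (r = 3 ∧ (g : P6) ∈ L3) ∨ (r = 5 ∧ (g : P6) ∈ L5)) : Seven (InnG K6) S := by
  rcases h with ⟨rfl, h⟩ | ⟨-, h⟩ | ⟨-, h⟩
  · by_cases hfix : ∀ s ∈ S, s g = g
    · refine seven2 fun s hs u hu => ?_
      have h1 : u = g := Subtype.ext ((List.mem_singleton.1 hu).trans h.symm)
      rw [h1, hfix s hs]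
      exact List.mem_singleton.2 h
    · push Not at hfix
      obtain ⟨s, hs, hsg⟩ := hfix
      have h1 : ((s g : K6) : P6) ≠ g2 := fun h2 => hsg (Subtype.ext (h2.trans h.symm))
      have h2 : (g : P6) ≠ 1 := h ▸ (by decide +kernel : g2 ≠ 1)
      rcases mem_four hc he hg h (hX s hs g hg) (aut_ne_one s h2) with h3 | h3
      · exact sevenA (stab_four hX hc hg h (hX s hs g hg) (fun w hw hw1 => mem_four hc he hg h hw hw1) 
          ⟨fourA1 _ h3 h1, fourA2 _ h3 h1⟩)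
      · exact sevenB (stab_four hX hc hg h (hX s hs g hg) (fun w hw hw1 => (mem_four hc he hg h hw hw1).symm)
          ⟨fourB1 _ h3 h1, fourB2 _ h3 h1⟩)
  · exact seven3 (stab_ti ti3 ab3 hX hc hg h)
  · exact seven5 (stab_ti ti5 ab5 hX hc hg h)

end core

theorem nonab_alt {n : ℕ} (hn : 5 ≤ n) : ¬ IsMulCommutative (alternatingGroup (Fin n)) := by
  intro h
  have h1 := commutator_alternatingGroup_eq_top (α := Fin n) (by simpa using hn)
  have h2 : Nontrivial (alternatingGroup (Fin n)) := alternatingGroup.nontrivial_of_three_le_card (by simp; omega)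
  have h3 : Group.IsSolvable (alternatingGroup (Fin n)) := Group.isSolvable_of_comm h.is_comm.comm
  exact (Group.IsSolvable.commutator_lt_top_of_nontrivial _).ne h1

/-- **`Row A₆`.** -/
theorem row_six : Row K6 := by
  intro S hS hm
  have hsimple : IsSimpleGroup K6 := alternatingGroup.isSimpleGroup (by simp)
  have hna : ¬ IsMulCommutative K6 := nonab_alt (by norm_num)
  have : Finite (MulAut K6) := Finite.of_injective (fun α : MulAut K6 => (α : K6 → K6)) DFunLike.coe_injective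
  obtain ⟨X, hXle, hX0, hXn, -, hc, ⟨r, hr, he⟩, -⟩ := hm.exists_min (as_inn hna) hS
  obtain ⟨⟨x, hx⟩, hx1⟩ := (ne_bot_iff_exists_ne_one).1 hX0
  obtain ⟨g, rfl⟩ := (mem_inf.1 (hXle hx)).2
  have hinj := conj_injective hna
  have hg1 : (g : P6) ≠ 1 := by
    intro h
    have h1 : g = 1 := Subtype.ext h
    exact hx1 (Subtype.ext ((congrArg MulAut.conj h1).trans (map_one _)))
  have he' : ∀ u : K6, MulAut.conj u ∈ X → u ^ r = 1 := fun u hu => hinj (by rw [map_pow, he _ hu, map_one])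
  obtain ⟨τ, hτ⟩ := std6 (mem_alternatingGroup.1 g.2) hg1 hr (congrArg Subtype.val (he' g hx))
  let α : MulAut K6 := MulAut.conjNormal τ
  refine Good.of_conj (innG_normal K6) α (Or.inr ?_)
  refine seven_core (X := (X.comap MulAut.conj).map α.toMonoidHom) (r := r) (g := α g) ?_ ?_ ?_ ⟨g, hx, rfl⟩ hτ
  · rintro _ ⟨s, hs, rfl⟩ _ ⟨u, hu, rfl⟩
    refine ⟨s u, ?_, by simp⟩
    have h1 : MulAut.conj (s u) = s * MulAut.conj u * s⁻¹ := by
      ext1 v
      simp
    change MulAut.conj (s u) ∈ X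
    rw [h1]
    exact hXn s hs _ hu
  · rintro _ ⟨u, hu, rfl⟩ _ ⟨v, hv, rfl⟩
    rw [← map_mul, ← map_mul]
    congr 1
    exact hinj (by rw [map_mul, map_mul]; exact hc _ hu _ hv)
  · rintro _ ⟨u, hu, rfl⟩
    rw [← map_pow, he' u hu, map_one]

end Cfsg.Agent.SB.Alt
end

-- part: SB/Alt/Main
section
/-!
# S5765: the alternating row (helper96)

`rowAlt`, `boxAlt`.
-/

set_option autoImplicit false

namespace Cfsg.Agent.SB.Alt

open Subgroup Equiv Equiv.Perm Cfsg Cfsg.Agent.H786.FC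

theorem Cert.relabel {n : ℕ} {m : Fin 4 → ℕ} (h : Cert n m) (σ : Perm (Fin 4)) : Cert n fun t => m (σ t) := by
  intro f hf
  rw [← pstab_comp f σ.injective]
  refine h _ fun t => ?_
  have h1 := hf (σ⁻¹ t)
  simp only [Perm.coe_inv, apply_symm_apply] at h1
  rw [← h1]
  unfold fib
  congr 1
  ext i
  simp [Equiv.eq_symm_apply]

theorem fib_eq {n : ℕ} (f : Fin n → Fin 4) (t : Fin 4) : fib f t = Nat.card {i // f i = t} := by
  rw [Nat.card_eq_fintype_card, Fintype.card_subtype]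
  rfl

theorem sum_fib {n : ℕ} (f : Fin n → Fin 4) : fib f 0 + fib f 1 + fib f 2 + fib f 3 = n := by
  have h := Finset.card_eq_sum_card_fiberwise (f := f) (s := Finset.univ) (t := Finset.univ) (fun _ _ => Finset.mem_univ _)
  rw [Finset.card_univ, Fintype.card_fin, Fin.sum_univ_four] at h
  exact h.symm

theorem cert_two {n a b : ℕ} (hn : 5 ≤ n) (h6 : n ≠ 6) (ha : a ≤ 4) (hb : b ≤ 4) (hab : a + b = n) :
    Cert n ![a, b, 0, 0] := by
  have sw : ∀ {a b : ℕ}, Cert n ![a, b, 0, 0] → Cert n ![b, a, 0, 0] := by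
    intro a b h
    have h1 := h.relabel (swap 0 1)
    have e : (fun t => (![a, b, 0, 0] : Fin 4 → ℕ) (swap 0 1 t)) = ![b, a, 0, 0] := by
      funext t
      fin_cases t <;> rfl
    rwa [e] at h1
  subst hab
  interval_cases a <;> interval_cases b <;> first
    | omega
    | exact cert14
    | exact cert23
    | exact cert34
    | exact cert44
    | exact sw cert14
    | exact sw cert23
    | exact sw cert34

theorem cert_eq {n a b : ℕ} (hn : 5 ≤ n) (h6 : n ≠ 6) (ha : a ≤ 4) (hb : b ≤ 4) (hab : b * a = n) :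
    Cert n fun t => if t.val < b then a else 0 := by
  subst hab
  have e : ∀ {n : ℕ} {m m' : Fin 4 → ℕ}, Cert n m → (∀ t, m t = m' t) → Cert n m' := by
    intro n m m' h h'
    rwa [← funext h']
  interval_cases a <;> interval_cases b <;> first
    | omega
    | exact e cert44 (by decide)
    | exact e cert2222 (by decide)
    | exact e cert333 (by decide)
    | exact e cert3333 (by decide)
    | exact e cert444 (by decide)
    | exact e cert4444 (by decide)

section cases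

variable {n : ℕ} {S X : Subgroup (Perm (Fin n))}

/-- the intransitive case -/
theorem seven_intrans (hn : 5 ≤ n) (h6 : n ≠ 6) (hS : Group.IsSolvable S) (hm : MaxInv (alternatingGroup (Fin n)) S)
    {a b : Fin n} (hab : ¬ ∃ s ∈ S, s a = b) : Seven (alternatingGroup (Fin n)) S := by
  classical
  let f : Fin n → Fin 4 := fun i => if ∃ s ∈ S, s a = i then 0 else 1
  have hf01 : ∀ i, f i = 0 ∨ f i = 1 := by
    intro i
    by_cases h : ∃ s ∈ S, s a = i
    · exact Or.inl (if_pos h)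
    · exact Or.inr (if_neg h)
  have hfa : f a = 0 := if_pos ⟨1, one_mem _, rfl⟩
  have hfb : f b = 1 := if_neg hab
  have hSf : S ≤ pstab f := by
    intro s hs i j
    have key : ∀ i, f (s i) = f i := by
      intro i
      refine if_congr ⟨?_, ?_⟩ rfl rfl
      · rintro ⟨u, hu, h⟩
        exact ⟨s⁻¹ * u, mul_mem (inv_mem hs) hu, by rw [Perm.mul_apply, h]; simp⟩
      · rintro ⟨u, hu, h⟩
        exact ⟨s * u, mul_mem hs hu, by rw [Perm.mul_apply, h]⟩
    rw [key, key]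
  obtain ⟨i, j, hij, hf⟩ := Fintype.exists_ne_map_eq_of_card_lt f (by simp; omega)
  obtain ⟨c, hc⟩ : ∃ c, f c ≠ f i := by
    rcases hf01 i with h | h
    · exact ⟨b, by rw [hfb, h]; decide⟩
    · exact ⟨a, by rw [hfa, h]; decide⟩
  have hsol := solvable_of_le hS hm hSf (not_alt_le (by simp; omega) hij hf hc)
  have hz : ∀ t : Fin 4, t ≠ 0 → t ≠ 1 → fib f t = 0 := by
    intro t h0 h1
    unfold fib
    rw [Finset.card_eq_zero, Finset.filter_eq_empty_iff]
    intro u _ hu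
    rcases hf01 u with h | h
    · exact h0 (hu ▸ h)
    · exact h1 (hu ▸ h)
  have hsum := sum_fib f
  rw [hz 2 (by decide) (by decide), hz 3 (by decide) (by decide)] at hsum
  have h4 : ∀ t, fib f t ≤ 4 := fun t => by
    rw [fib_eq]
    exact fibre_le_four hsol t
  refine (cert_two hn h6 (h4 0) (h4 1) hsum f fun t => ?_).mono hSf
  fin_cases t
  exacts [rfl, rfl, hz 2 (by decide) (by decide), hz 3 (by decide) (by decide)]

/-- the imprimitive case -/
theorem seven_imprim (hn : 5 ≤ n) (h6 : n ≠ 6) (hS : Group.IsSolvable S) (hm : MaxInv (alternatingGroup (Fin n)) S)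
    (ht : ∀ a b : Fin n, ∃ s ∈ S, s a = b) (hX0 : X ≠ ⊥) (hXn : ∀ s ∈ S, ∀ x ∈ X, s * x * s⁻¹ ∈ X)
    {u v : Fin n} (huv : ¬ ∃ x ∈ X, x u = v) : Seven (alternatingGroup (Fin n)) S := by
  classical
  let R : Setoid (Fin n) :=
    ⟨fun i j => ∃ x ∈ X, x i = j, fun i => ⟨1, one_mem _, rfl⟩,
      fun ⟨x, hx, h⟩ => ⟨x⁻¹, inv_mem hx, by rw [← h]; simp⟩,
      fun ⟨x, hx, h⟩ ⟨y, hy, h'⟩ => ⟨y * x, mul_mem hy hx, by rw [Perm.mul_apply, h, h']⟩⟩
  let f : Fin n → Quotient R := Quotient.mk R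
  have hf : ∀ i j, f i = f j ↔ ∃ x ∈ X, x i = j := fun i j => Quotient.eq
  have hSf : S ≤ pstab f := by
    intro s hs i j
    rw [hf, hf]
    constructor
    · rintro ⟨x, hx, h⟩
      refine ⟨s⁻¹ * x * s⁻¹⁻¹, hXn _ (inv_mem hs) x hx, ?_⟩
      rw [inv_inv, Perm.mul_apply, Perm.mul_apply, h]
      simp
    · rintro ⟨x, hx, h⟩
      refine ⟨s * x * s⁻¹, hXn _ hs x hx, ?_⟩
      rw [← h]
      simp
  obtain ⟨⟨x, hx⟩, hx1⟩ := ne_bot_iff_exists_ne_one.1 hX0
  obtain ⟨a, ha⟩ : ∃ a, x a ≠ a := by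
    by_contra hcon
    push Not at hcon
    exact hx1 (Subtype.ext (Equiv.ext hcon))
  have hfa : f a = f (x a) := (hf _ _).2 ⟨x, hx, rfl⟩
  obtain ⟨c, hc⟩ : ∃ c, f c ≠ f a := by
    by_contra hcon
    push Not at hcon
    exact huv ((hf _ _).1 ((hcon u).trans (hcon v).symm))
  have hsol := solvable_of_le hS hm hSf (not_alt_le (by simp; omega) ha.symm hfa hc)
  have hfib : ∀ t, Nat.card {i // f i = t} = Nat.card {i // f i = f a} := by
    intro t
    obtain ⟨w, rfl⟩ := Quotient.exists_rep t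
    obtain ⟨s, hs, hsw⟩ := ht w a
    refine Nat.card_congr (s.subtypeEquiv fun i => ?_)
    rw [← hsw]
    exact (hSf hs i w).symm
  have hprod : ∀ t : Quotient R, Nat.card {p : Quotient R × {i // f i = f a} // p.1 = t} = Nat.card {i // f i = f a} :=
    fun t => Nat.card_congr ⟨fun p => p.1.2, fun y => ⟨(t, y), rfl⟩, fun ⟨⟨_, _⟩, rfl⟩ => rfl, fun _ => rfl⟩
  have e0 : ∀ t, {i // f i = t} ≃ {p : Quotient R × {i // f i = f a} // p.1 = t} := fun t =>
    (Finite.card_eq.1 ((hfib t).trans (hprod t).symm)).some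
  have : Nonempty {i // f i = f a} := ⟨⟨a, rfl⟩⟩
  have hb := classes_le_four hsol (Equiv.ofFiberEquiv e0) (Equiv.ofFiberEquiv_map e0)
  have hcard : Nat.card (Quotient R) * Nat.card {i // f i = f a} = n := by
    rw [← Nat.card_prod, ← Nat.card_congr (Equiv.ofFiberEquiv e0), Nat.card_fin]
  let l : Quotient R → Fin 4 := fun t => Fin.castLE hb (Finite.equivFin (Quotient R) t)
  have hl : Function.Injective l := (Fin.castLE_injective hb).comp (Finite.equivFin (Quotient R)).injective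
  refine (cert_eq hn h6 (fibre_le_four hsol (f a)) hb hcard (l ∘ f) fun t => ?_).mono (by rwa [pstab_comp f hl])
  rw [fib_eq]
  beta_reduce
  split_ifs with h
  · have h1 : t = l ((Finite.equivFin (Quotient R)).symm ⟨t.val, h⟩) := by
      apply Fin.ext
      simp [l]
    rw [← hfib ((Finite.equivFin (Quotient R)).symm ⟨t.val, h⟩)]
    refine Nat.card_congr (Equiv.subtypeEquivRight fun i => ?_)
    rw [← hl.eq_iff, ← h1]
    rfl
  · have : IsEmpty {i // (l ∘ f) i = t} := ⟨fun i => h (by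
      rw [← i.2]
      exact (Finite.equivFin (Quotient R) (f i)).2)⟩
    exact Nat.card_of_isEmpty

end cases

theorem as_alt {n : ℕ} (hn : 5 ≤ n) (h6 : n ≠ 6) : AS (alternatingGroup (Fin n)) where
  normal := inferInstance
  simple := alternatingGroup.isSimpleGroup (by simpa using hn)
  nonab := nonab_alt hn
  cent := by
    rw [eq_bot_iff]
    intro g hg
    apply (S2119.result n (by omega) h6).1
    rw [map_one]
    ext1 t
    apply Subtype.ext
    rw [MulAut.conjNormal_apply, ← mem_centralizer_iff.1 hg t t.2]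
    simp

theorem rowIn_alt {n : ℕ} (hn : 5 ≤ n) (h6 : n ≠ 6) : RowIn (alternatingGroup (Fin n)) := by
  intro S hS hm
  have hT := as_alt hn h6
  obtain ⟨X, hXle, hX0, hXn, -, hc, ⟨r, hr, he⟩, -, hF⟩ := hm.exists_min hT hS
  by_cases ht : ∀ a b : Fin n, ∃ s ∈ S, s a = b
  · by_cases htX : ∀ a b : Fin n, ∃ x ∈ X, x a = b
    · obtain ⟨x, hx, h⟩ := aff_main (by simpa using hn) hT hS hm (hXle.trans inf_le_left) hX0 hXn hc hr he htX
      exact Or.inl (fitReg_of_le (N := X) (fun v hv => mem_of_comm hc htX (hF v hv)) hx fun v hv _ => h v hv)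
    · push Not at htX
      obtain ⟨u, v, huv⟩ := htX
      exact Or.inr (seven_imprim hn h6 hS hm ht hX0 hXn (u := u) (v := v) fun ⟨x, hx, h⟩ => huv x hx h)
  · push Not at ht
    obtain ⟨a, b, hab⟩ := ht
    exact Or.inr (seven_intrans hn h6 hS hm (a := a) (b := b) fun ⟨s, hs, h⟩ => hab s hs h)

/-- **The alternating groups have `Row`.** -/
theorem rowAlt {n : ℕ} (hn : 5 ≤ n) : Row (alternatingGroup (Fin n)) := by
  by_cases h6 : n = 6
  · subst h6
    exact row_six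
  · refine RowIn.row inferInstance (as_alt hn h6).cent (fun α => ?_) (rowIn_alt hn h6)
    obtain ⟨g, rfl⟩ := (S2119.result n (by omega) h6).2 α
    exact ⟨g, fun t => MulAut.conjNormal_apply g t⟩

/-- a group isomorphic to an alternating group has `Row` -/
theorem row_of_isAlternating {K : Type*} [Group K] (h : IsAlternating K) : Row K := by
  obtain ⟨n, hn, ⟨e⟩⟩ := h
  exact Row.of_equiv e (rowAlt hn)

/-- **The alternating box.** -/
theorem boxAlt : Box fun K _ => IsAlternating K := fun _ _ _ _ _ h => row_of_isAlternating h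

end Cfsg.Agent.SB.Alt
end

-- part: SB/R1/U3A
section
/-!
# S5765: three-dimensional unitary groups, stabilizers of lines (helper61)

`FixL h v` is the stabilizer of the line of `v`; `four_line` : four conjugates of it meet trivially.
-/

set_option autoImplicit false
set_option linter.unusedSectionVars false

namespace Cfsg.Agent.SB.R1

open Cfsg Cfsg.Agent.DS.Cl Cfsg.Agent.DS.Cl.Fwd Module Cfsg.Agent.SB.Tor

variable {K V : Type} [Field K] [Finite K] [AddCommGroup V] [Module K V] [Finite V] {h : HF K V}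

/-- the stabilizer of the line of `v` -/
def FixL (h : HF K V) (v : V) : Subgroup (RingAut h.EB) where
  carrier := {γ | ∀ a, h.ap (γ a) v = 0 ↔ h.ap a v = 0}
  mul_mem' := fun hγ hδ a => (hγ _).trans (hδ a)
  one_mem' := fun _ => Iff.rfl
  inv_mem' := fun {γ} hγ a => by rw [← hγ (γ⁻¹ a), ra_apply_inv]

theorem FixL_smul {c : K} (hc : c ≠ 0) (v : V) : FixL h (c • v) = FixL h v := by
  ext γ
  refine forall_congr' fun a => ?_
  rw [map_smul, map_smul, smul_eq_zero_iff_right hc, smul_eq_zero_iff_right hc]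

theorem FixL.exists_smul {γ : RingAut h.EB} (L : SL h γ) {v : V} (hγ : γ ∈ FixL h v) : ∃ c : K, L.g v = c • v := by
  by_contra hcon
  push Not at hcon
  obtain ⟨y, h1, h2⟩ := exists_sep (h := h) hcon
  have h3 : h.b v y = 0 := by rw [h.swap, h1, map_zero, mul_zero]
  have h4 := (hγ (γ⁻¹ (h.eb (h.ro (L.g v) y)))).1 (by rw [ra_apply_inv, h.ap_eb, h.ro_apply, h3, zero_smul])
  have h5 := L.conj (γ⁻¹ (h.eb (h.ro (L.g v) y))) v
  rw [h4, map_zero, ra_apply_inv, h.ap_eb, h.ro_apply, smul_eq_zero_iff_right (h.ne_swap h2)] at h5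
  exact hcon 0 (by rw [h5, zero_smul])

theorem mem_FixL {γ : RingAut h.EB} (L : SL h γ) {v : V} {c : K} (hv : L.g v = c • v) : γ ∈ FixL h v := by
  intro a
  by_cases hc : c = 0
  · rw [hc, zero_smul, map_eq_zero_iff _ L.g.injective] at hv
    simp [hv]
  rw [← smul_eq_zero_iff_right hc, ← map_smul, ← hv, L.conj, map_eq_zero_iff _ L.g.injective]

theorem ap_cj_zero {u : h.EBˣ} {v w : V} {c : K} (hc : c ≠ 0) (hu : h.ap u v = c • w) (a : h.EB) :
    h.ap (cj h.EB u a) w = 0 ↔ h.ap a v = 0 := by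
  rw [← smul_eq_zero_iff_right hc, ← map_smul, ← hu, ← h.ap_mul, cj_mul_eq, h.ap_mul]
  refine ⟨fun h0 => ?_, fun h0 => by rw [h0, map_zero]⟩
  rw [← ap_inv_ap h u (h.ap a v), h0, map_zero]

theorem cj_mem_FixL {u : h.EBˣ} {v : V} (hu : h.ap u v = v) : cj h.EB u ∈ FixL h v :=
  ap_cj_zero one_ne_zero (by rw [hu, one_smul])

theorem conj_FixL {u : h.EBˣ} {v w : V} {c : K} (hc : c ≠ 0) (hu : h.ap u v = c • w) {s : RingAut h.EB}
    (hs : (cj h.EB u)⁻¹ * s * cj h.EB u ∈ FixL h v) : s ∈ FixL h w := by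
  intro a
  obtain ⟨a, rfl⟩ := (cj h.EB u).surjective a
  rw [ap_cj_zero hc hu, ← hs a, ← ap_cj_zero hc hu, ra_mul, ra_mul, ra_apply_inv]

/-- three independent vectors -/
def Ind3 (K : Type) {V : Type} [Field K] [AddCommGroup V] [Module K V] (x y z : V) : Prop :=
  ∀ a b c : K, a • x + b • y + c • z = 0 → a = 0 ∧ b = 0 ∧ c = 0

theorem Ind3.span (hV : finrank K V = 3) {x y z : V} (H : Ind3 K x y z) (v : V) :
    ∃ a b c : K, v = a • x + b • y + c • z := by
  have : Module.Finite K V := Module.Finite.of_finite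
  have h1 : LinearIndependent K ![x, y, z] := by
    rw [Fintype.linearIndependent_iff]
    intro g hg i
    rw [Fin.sum_univ_three] at hg
    obtain ⟨a, b, c⟩ := H _ _ _ hg
    fin_cases i
    exacts [a, b, c]
  have h2 := h1.span_eq_top_of_card_eq_finrank' (by rw [hV, Fintype.card_fin])
  obtain ⟨g, hg⟩ := (Submodule.mem_span_range_iff_exists_fun K).1 (h2 ▸ Submodule.mem_top : v ∈ _)
  rw [Fin.sum_univ_three] at hg
  exact ⟨_, _, _, hg.symm⟩

theorem Ind3.eq_zero (hV : finrank K V = 3) {x y z : V} (H : Ind3 K x y z) {v : V} (h1 : h.b x v = 0)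
    (h2 : h.b y v = 0) (h3 : h.b z v = 0) : v = 0 := h.nondeg v fun u => by
  obtain ⟨a, b, c, rfl⟩ := H.span hV u
  rw [h.add_left, h.add_left, h.smul_left, h.smul_left, h.smul_left, h1, h2, h3]
  simp

theorem exists_perp (hV : 3 ≤ finrank K V) (x y : V) : ∃ w, w ≠ 0 ∧ h.b w x = 0 ∧ h.b w y = 0 := by
  have : Module.Finite K V := Module.Finite.of_finite
  have h1 := LinearMap.ker_ne_bot_of_finrank_lt (f := (h.lin x).prod (h.lin y)) (by simp; omega)
  obtain ⟨w, hw, hw0⟩ := Submodule.exists_mem_ne_zero_of_ne_bot h1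
  exact ⟨w, hw0, congrArg Prod.fst (LinearMap.mem_ker.1 hw), congrArg Prod.snd (LinearMap.mem_ker.1 hw)⟩

theorem b_zero {x y : V} (h0 : h.b x y = 0) : h.b y x = 0 := by rw [h.swap, h0, map_zero, mul_zero]

theorem qr_smul (κ c : K) (y : V) : qr h κ (c • y) = qr h (κ * h.τ c * c) y := h.ap_ext fun x => by
  rw [ap_qr, ap_qr, h.smul_right, smul_smul]
  congr 2
  ring

/-- `u` is an isometry and a quasi-reflection or a transvection -/
def IsQ (u : h.EBˣ) : Prop := (u : h.EB) * star (u : h.EB) = 1 ∧ ∃ κ y, (u : h.EB) = qr h κ y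

/-- a quasi-reflection or a transvection takes the line of `v` to the line of `w` -/
def Reach (h : HF K V) (v w : V) : Prop := ∃ u : h.EBˣ, IsQ u ∧ ∃ c : K, c ≠ 0 ∧ h.ap u v = c • w

section unitary

variable (hU : Cl.IsU h)
include hU

theorem tau_ne : h.τ ≠ RingHom.id K := fun e => by
  obtain ⟨c, hc⟩ := hU.2
  exact hc (by rw [e]; rfl)

theorem b_swap (x y : V) : h.b y x = h.τ (h.b x y) := by rw [h.swap, hU.1, one_mul]

theorem exists_norm {v : V} (hv : h.b v v ≠ 0) {n : K} (hn : h.τ n = n) (h0 : n ≠ 0) :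
    ∃ c : K, c ≠ 0 ∧ h.b (c • v) (c • v) = n := by
  obtain ⟨c, hc⟩ := ClassicalGeometry.InvolutiveNorm.exists_mul_sigma_eq (tau_ne hU) h.τ_τ (a := n / h.b v v)
    (by rw [map_div₀, hn, tau_self hU.1])
  refine ⟨c, ?_, by rw [h.smul_left, h.smul_right, ← mul_assoc, hc, div_mul_cancel₀ _ hv]⟩
  rintro rfl
  rw [zero_mul] at hc
  exact div_ne_zero h0 hv hc.symm

theorem exists_gen : ∃ ξ : K, ξ * h.τ ξ = 1 ∧ (Nat.card K ≠ 4 → ξ ^ 3 ≠ 1) ∧ h.τ ξ ≠ ξ ∧
    ∀ σ : K →+* K, σ ξ = ξ → σ = RingHom.id K := by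
  let τ : K ≃+* K := ⟨⟨h.τ, h.τ, h.τ_τ, h.τ_τ⟩, map_mul h.τ, map_add h.τ⟩
  obtain ⟨ξ, h1, h2, -, h3⟩ := H324.FC.exists_xi τ h.τ_τ hU.2
  exact ⟨ξ, h1, h2, fun e => tau_ne hU (h3 _ e), h3⟩

theorem exists_sym (hK : Nat.card K ≠ 4) (m : K) : ∃ n : K, h.τ n = n ∧ n ≠ 0 ∧ n ≠ m := by
  by_cases hm : m = 1
  swap
  · exact ⟨1, map_one _, one_ne_zero, Ne.symm hm⟩
  obtain ⟨ξ, h1, h2, h3, -⟩ := exists_gen hU
  refine ⟨-1 - ξ - h.τ ξ, ?_, fun e => h2 hK ?_, fun e => h3 ?_⟩
  · simp only [map_sub, map_neg, map_one, h.τ_τ]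
    ring
  · linear_combination (1 - ξ) * ξ * e + (1 - ξ) * h1
  · have h8 : (ξ + 1) ^ 2 = 0 := by linear_combination (-ξ) * e - ξ * hm - h1
    rw [eq_neg_of_add_eq_zero_left (pow_eq_zero_iff two_ne_zero |>.1 h8), map_neg, map_one]

theorem house {v w : V} (hvw : h.b w w = h.b v v) (hβ : h.b w (w - v) ≠ 0) : ∃ u : h.EBˣ, IsQ u ∧ h.ap u w = v := by
  have h1 : h.τ (h.b w (w - v)) = h.b w w - h.b v w := by
    rw [h.sub_right, map_sub, tau_self hU.1, b_swap hU w v]
  have h2 : h.τ (h.b w (w - v)) ≠ 0 := by simpa using hβ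
  have h3 : h.b (w - v) (w - v) = h.b w (w - v) + h.τ (h.b w (w - v)) := by
    rw [h1, h.sub_left, h.sub_right v, ← hvw]
    ring
  refine ⟨isoU h _ (qr_form h hU.1 (κ := (h.b w (w - v))⁻¹) (v := w - v) ?_), ⟨isoU_ms _ _ _, _, _, rfl⟩, ?_⟩
  · rw [h3, map_inv₀]
    field_simp
    ring
  · rw [isoU_val, ap_qr, inv_mul_cancel₀ hβ, one_smul, sub_sub_cancel]

theorem reach_iso {v w : V} (hv : h.b v v = 0) (hw : h.b w w = 0) (hvw : h.b v w ≠ 0) : Reach h v w := by
  obtain ⟨u, h1, h2⟩ := house hU (hv.trans hw.symm) (by rwa [h.sub_right, hv, zero_sub, neg_ne_zero])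
  exact ⟨u, h1, 1, one_ne_zero, by rw [h2, one_smul]⟩

theorem reach {v w : V} (hv : h.b v v ≠ 0) (hw : h.b w w ≠ 0) : Reach h v w := by
  obtain ⟨c, hc, h1⟩ := exists_norm hU hw (tau_self hU.1 v) hv
  by_cases h2 : h.b v (v - c • w) = 0
  swap
  · obtain ⟨u, h3, h4⟩ := house hU h1.symm h2
    exact ⟨u, h3, c, hc, h4⟩
  obtain ⟨ξ, a1, -, a2, -⟩ := exists_gen hU
  rw [h.sub_right, sub_eq_zero] at h2
  obtain ⟨u, h3, h4⟩ := house hU (v := ξ • c • w) (w := v)
    (by rw [h.smul_left, h.smul_right, h1, ← mul_assoc, a1, one_mul]) (fun h3 => by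
      rw [h.sub_right, h.smul_right, ← h2, ← one_sub_mul, mul_eq_zero_iff_right hv, sub_eq_zero] at h3
      rw [← h3, mul_one] at a1
      exact a2 (h3.symm.trans a1.symm))
  exact ⟨u, h3, ξ * c, mul_ne_zero (left_ne_zero_of_mul (a1.trans_ne one_ne_zero)) hc, by rw [h4, mul_smul]⟩

theorem transv_mem (hV : 3 ≤ finrank K V) (F : FR h.EB) {u : h.EBˣ} (hu : (u : h.EB) * star (u : h.EB) = 1) {κ : K}
    {y : V} (hq : (u : h.EB) = qr h κ y) (hy : h.b y y = 0) : cj h.EB u ∈ F.S := by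
  have : Module.Finite K V := Module.Finite.of_finite
  by_cases h0 : κ = 0 ∨ y = 0
  · have h1 : u = 1 := Units.ext (h.ap_ext fun x => by
      rw [hq, ap_qr]
      rcases h0 with rfl | rfl <;> simp [h.ap_one])
    rw [h1, map_one]
    exact one_mem _
  push Not at h0
  obtain ⟨θ, hθ⟩ := hU.2
  obtain ⟨x, hx⟩ := h.exists_ne h0.2
  have h1 : h.τ κ = -κ := by
    have h2 := (h.unit_iff u).1 hu x x
    rw [hq, ap_qr, h.sub_left, h.sub_right, h.sub_right, h.smul_left, h.smul_left, h.smul_right, h.smul_right, hy,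
      b_swap hU x y, map_mul] at h2
    have h3 : h.b x y * h.τ (h.b x y) ≠ 0 := mul_ne_zero hx (by simpa using hx)
    apply mul_left_cancel₀ h3
    linear_combination -h2
  obtain ⟨-, t, ht, ht'⟩ := (Fld.luU h hθ).transv F hV (s := h.eb (((-κ) • h.lin y).smulRight y)) (by
      refine h.ap_ext fun z => h.ext_right fun w => ?_
      rw [h.b_star]
      change h.b ((-κ * h.b w y) • y) z = h.b w (-((-κ * h.b z y) • y))
      rw [← neg_smul, h.smul_left, h.smul_right, b_swap hU z y, map_neg, map_mul, map_neg, h1]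
      ring) h0.2 (f := (-κ) • h.lin y) (fun h2 => mul_ne_zero (neg_ne_zero.2 h0.1) hx (LinearMap.congr_fun h2 x))
    (show -κ * h.b y y = 0 by rw [hy, mul_zero]) rfl
  refine ⟨t, ht, congrArg _ (Units.ext (h.ap_ext fun z => ?_))⟩
  rw [ht', hq, ap_qr, h.ap_add, h.ap_one, sub_eq_add_neg, ← neg_smul, ← neg_mul]
  rfl

/-- quasi-reflections and transvections lie in `T S` -/
theorem qr_TS (hV : 3 ≤ finrank K V) (F : FR h.EB) {S : Subgroup (RingAut h.EB)} {y₀ : V} (hy₀ : h.b y₀ y₀ ≠ 0)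
    (hS : ∀ k ∈ F.Iso, (∃ κ, (k : h.EB) = qr h κ y₀) → cj h.EB k ∈ S) {u : h.EBˣ} (hu : IsQ u) :
    ∃ s ∈ S, cj h.EB u * s⁻¹ ∈ F.S := by
  obtain ⟨h1, κ, y, h2⟩ := hu
  by_cases hy : h.b y y = 0
  · exact ⟨1, one_mem _, by rw [inv_one, mul_one]; exact transv_mem hU hV F h1 h2 hy⟩
  obtain ⟨g, hg, c, -, hc⟩ := reach hU hy hy₀
  have hF := L_eq_of_U hU F
  have hg' := mem_Iso_max hF hg.1
  have hu' := mem_Iso_max hF h1
  have hk : g * u * g⁻¹ ∈ F.Iso := mul_mem (mul_mem hg' hu') (inv_mem hg')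
  have h3 := Cl.cj_TS F (inv_mem hg') hk (hS _ hk ⟨_, by
    rw [Units.val_mul, Units.val_mul, h2, qr_conj h hg.1, hc, qr_smul]⟩)
  have e : g⁻¹ * (g * u * g⁻¹) * g⁻¹⁻¹ = u := by group
  rwa [e] at h3

variable (hV : finrank K V = 3)
include hV

theorem third {x y : V} (hd : h.b x x * h.b y y ≠ h.b x y * h.b y x) {n : K} (hn : h.τ n = n) (h0 : n ≠ 0) :
    ∃ w, h.b w w = n ∧ h.b w x = 0 ∧ h.b w y = 0 ∧ Ind3 K x y w := by
  obtain ⟨w, hw0, h1, h2⟩ := exists_perp (h := h) hV.ge x y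
  have key : ∀ w, w ≠ 0 → h.b w x = 0 → h.b w y = 0 → Ind3 K x y w := fun w hw0 h1 h2 a b c habc => by
    have h3 := congrArg (fun v => h.b v x) habc
    have h4 := congrArg (fun v => h.b v y) habc
    simp only [h.add_left, h.smul_left, h.zero_left, h1, h2, mul_zero, add_zero] at h3 h4
    have ha : a = 0 := (mul_eq_zero.1 (show a * (h.b x x * h.b y y - h.b x y * h.b y x) = 0 by
      linear_combination h.b y y * h3 - h.b y x * h4)).resolve_right (sub_ne_zero.2 hd)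
    have hb : b = 0 := (mul_eq_zero.1 (show b * (h.b x x * h.b y y - h.b x y * h.b y x) = 0 by
      linear_combination h.b x x * h4 - h.b x y * h3)).resolve_right (sub_ne_zero.2 hd)
    rw [ha, hb, zero_smul, zero_smul, add_zero, zero_add] at habc
    exact ⟨ha, hb, (smul_eq_zero.1 habc).resolve_right hw0⟩
  obtain ⟨c, hc, h3⟩ := exists_norm hU (v := w)
    (fun h3 => hw0 ((key w hw0 h1 h2).eq_zero hV (b_zero h1) (b_zero h2) h3)) hn h0
  have h4 : h.b (c • w) x = 0 := by rw [h.smul_left, h1, mul_zero]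
  have h5 : h.b (c • w) y = 0 := by rw [h.smul_left, h2, mul_zero]
  exact ⟨c • w, h3, h4, h5, key _ (smul_ne_zero hc hw0) h4 h5⟩

theorem second {x : V} (hx : h.b x x ≠ 0) {n : K} (hn : h.τ n = n) (h0 : n ≠ 0) :
    ∃ y, h.b y y = n ∧ h.b y x = 0 := by
  suffices H : ∃ y, h.b y y ≠ 0 ∧ h.b y x = 0 by
    obtain ⟨y, h1, h2⟩ := H
    obtain ⟨c, -, hc⟩ := exists_norm hU h1 hn h0
    exact ⟨c • y, hc, by rw [h.smul_left, h2, mul_zero]⟩
  by_contra hcon
  push Not at hcon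
  have h1 : ∀ y, h.b y x = 0 → h.b y y = 0 := fun y hy => by
    by_contra h2
    exact hcon y h2 hy
  obtain ⟨w, hw0, hw, -⟩ := exists_perp (h := h) hV.ge x x
  obtain ⟨y, hy⟩ := h.exists_ne hw0
  obtain ⟨z, hz, hzw⟩ : ∃ z, h.b z x = 0 ∧ h.b z w ≠ 0 :=
    ⟨y - (h.b y x / h.b x x) • x, by rw [h.sub_left, h.smul_left, div_mul_cancel₀ _ hx, sub_self],
      by rwa [h.sub_left, h.smul_left, b_zero hw, mul_zero, sub_zero]⟩
  obtain ⟨c, hc⟩ := ClassicalGeometry.InvolutiveNorm.exists_add_sigma_ne_zero (tau_ne hU)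
  have h2 := h1 (w + (c / h.b z w) • z) (by rw [h.add_left, h.smul_left, hw, hz, mul_zero, add_zero])
  rw [h.add_left, h.add_right, h.smul_left, h.smul_right, h.add_right, h.smul_right, h1 w hw, h1 z hz, mul_zero,
    add_zero, zero_add, div_mul_cancel₀ _ hzw, b_swap hU z w, ← map_mul, div_mul_cancel₀ _ hzw, add_comm] at h2
  exact hc h2

end unitary

/-- a frame of the projective plane which is fixed by the identity only -/
structure Cfg (h : HF K V) (x y z : V) : Prop where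
  ind : Ind3 K x y z
  ratio : ∃ ξ : K, (∀ σ : K →+* K, σ ξ = ξ → σ = RingHom.id K) ∧
    ((h.b x x ≠ 0 ∧ h.b y x = ξ * h.b x x) ∨ (h.b y x ≠ 0 ∧ h.b z x = ξ * h.b y x))

theorem Cfg.eq_one (hV : finrank K V = 3) {x y z : V} (C : Cfg h x y z) {γ : RingAut h.EB} (hγ : γ ∈ SAut h.EB)
    (h1 : γ ∈ FixL h x) (h2 : γ ∈ FixL h y) (h3 : γ ∈ FixL h z) (h4 : γ ∈ FixL h (x + y + z)) : γ = 1 := by
  have : Nontrivial V := Module.nontrivial_of_finrank_pos (R := K) (by omega)
  obtain ⟨L⟩ := exists_SL h hγ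
  obtain ⟨a, ha⟩ := FixL.exists_smul L h1
  obtain ⟨b, hb⟩ := FixL.exists_smul L h2
  obtain ⟨c, hc⟩ := FixL.exists_smul L h3
  obtain ⟨d, hd⟩ := FixL.exists_smul L h4
  rw [map_add, map_add, ha, hb, hc] at hd
  obtain ⟨e1, e2, e3⟩ := C.ind (a - d) (b - d) (c - d) (by linear_combination (norm := module) hd)
  rw [sub_eq_zero.1 e1] at ha
  rw [sub_eq_zero.1 e2] at hb
  rw [sub_eq_zero.1 e3] at hc
  have key : ∀ s s' ξ, L.g s = d • s → L.g s' = d • s' → h.b s x ≠ 0 → h.b s' x = ξ * h.b s x → L.σ ξ = ξ := by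
    intro s s' ξ a1 a2 a3 a4
    have a5 := L.form s x
    have a6 := L.form s' x
    rw [a1, ha, h.smul_left, h.smul_right] at a5
    rw [a2, ha, h.smul_left, h.smul_right, a4, map_mul] at a6
    apply mul_left_cancel₀ (mul_ne_zero L.μ_ne ((map_ne_zero L.σ).2 a3))
    linear_combination ξ * a5 - a6
  obtain ⟨ξ, hξ, h5⟩ := C.ratio
  have hσ : ∀ c, L.σ c = c := RingHom.congr_fun (hξ (L.σ : K →+* K)
    (h5.elim (fun h6 => key x y ξ ha hb h6.1 h6.2) fun h6 => key y z ξ hb hc h6.1 h6.2))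
  refine L.eq_one (c := d) fun v => ?_
  obtain ⟨s, t, u, rfl⟩ := C.ind.span hV v
  rw [map_add, map_add, L.smul, L.smul, L.smul, hσ, hσ, hσ, ha, hb, hc]
  module

variable (hU : Cl.IsU h) (hV : finrank K V = 3)
include hU hV

theorem cfg_iso {e : V} (he0 : e ≠ 0) (he : h.b e e = 0) : ∃ y z w : V, Cfg h e y z ∧ h.b w w ≠ 0 ∧ h.b e w = 0 ∧
    ∀ v, v = y ∨ v = z ∨ v = e + y + z → h.b v v = 0 ∧ h.b e v ≠ 0 := by
  obtain ⟨f, hfe, hff⟩ : ∃ f, h.b f e = 1 ∧ h.b f f = 0 := by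
    obtain ⟨y, hy⟩ := h.exists_ne he0
    have h1 : h.b ((h.b y e)⁻¹ • y) e = 1 := by rw [h.smul_left, inv_mul_cancel₀ hy]
    generalize (h.b y e)⁻¹ • y = y at h1
    obtain ⟨t, ht⟩ := ClassicalGeometry.InvolutiveNorm.exists_add_sigma_eq (tau_ne hU) h.τ_τ (tau_self hU.1 y)
    refine ⟨y - t • e, by rw [h.sub_left, h.smul_left, h1, he, mul_zero, sub_zero], ?_⟩
    rw [h.sub_left, h.sub_right, h.sub_right, h.smul_left, h.smul_left, h.smul_right, h.smul_right, he, b_swap hU y e,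
      h1, map_one]
    linear_combination -ht
  have hef : h.b e f = 1 := by rw [b_swap hU, hfe, map_one]
  obtain ⟨w, hw, hwe, hwf, hI⟩ := third hU hV (x := e) (y := f) (by rw [he, hef, hfe]; simp) (map_one _) one_ne_zero
  have hew := b_zero hwe
  have hfw := b_zero hwf
  obtain ⟨ξ, a1, -, a2, a3⟩ := exists_gen hU
  obtain ⟨θ, hθ⟩ := ClassicalGeometry.InvolutiveNorm.exists_add_sigma_eq (tau_ne hU) h.τ_τ (a := -1) (by simp)
  have hξ0 : ξ ≠ 0 := left_ne_zero_of_mul (a1.trans_ne one_ne_zero)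
  have hξ1 : 1 + ξ ≠ 0 := fun h0 => a2 (by rw [eq_neg_of_add_eq_zero_right h0, map_neg, map_one])
  have hθ0 : h.τ θ ≠ 0 := fun h0 => by
    rw [h0, (map_eq_zero h.τ).1 h0, add_zero] at hθ
    exact one_ne_zero (neg_eq_zero.1 hθ.symm)
  obtain ⟨s, hs0, hs⟩ : ∃ s : K, s ≠ 0 ∧ -(1 + ξ) * (ξ * s) = h.τ θ :=
    ⟨h.τ θ / (-(1 + ξ) * ξ), div_ne_zero hθ0 (mul_ne_zero (neg_ne_zero.2 hξ1) hξ0), by field_simp⟩
  have hs' := congrArg h.τ hs
  simp only [map_mul, map_neg, map_add, map_one, h.τ_τ] at hs'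
  have hτ : ∀ c : K, c ≠ 0 → h.τ c ≠ 0 := fun c hc => by simpa using hc
  refine ⟨s • f, -(1 + h.τ ξ) • e + (ξ * s) • f + w, w, ⟨fun a b c habc => ?_, ξ, a3, Or.inr ⟨?_, ?_⟩⟩,
    hw.trans_ne one_ne_zero, hew, ?_⟩
  · obtain ⟨b1, b2, b3⟩ := hI (a - c * (1 + h.τ ξ)) (b * s + c * (ξ * s)) c (by linear_combination (norm := module) habc)
    rw [b3, zero_mul, sub_zero] at b1
    rw [b3, zero_mul, add_zero] at b2
    exact ⟨b1, (mul_eq_zero.1 b2).resolve_right hs0, b3⟩
  · rwa [h.smul_left, hfe, mul_one]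
  · simp only [h.add_left, h.smul_left, he, hfe, hwe]
    ring
  · rintro v (rfl | rfl | rfl) <;>
      simp only [h.add_left, h.add_right, h.smul_left, h.smul_right, he, hfe, hef, hff, hwe, hwf, hew, hfw, hw,
        map_mul, map_neg, map_add, map_one, h.τ_τ, mul_zero, mul_one, add_zero, zero_add]
    · exact ⟨trivial, hτ s hs0⟩
    · exact ⟨by linear_combination hθ + hs + hs', mul_ne_zero (hτ ξ hξ0) (hτ s hs0)⟩
    · refine ⟨by linear_combination hθ + hs + hs', ?_⟩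
      rw [← one_add_mul, ← map_one h.τ, ← map_add]
      exact mul_ne_zero (hτ _ hξ1) (hτ s hs0)

theorem cfg_an (hK : Nat.card K ≠ 4) {x : V} (hx : h.b x x = 1) : ∃ y z : V, Cfg h x y z ∧ h.b x z = 0 ∧
    ∀ v, v = y ∨ v = z ∨ v = x + y + z → h.b v v ≠ 0 := by
  obtain ⟨ξ, a1, -, -, a3⟩ := exists_gen hU
  obtain ⟨n, n1, n2, n3⟩ := exists_sym hU hK (-1)
  obtain ⟨y, hy, hyx⟩ := second hU hV (hx.trans_ne one_ne_zero) n1 n2
  have hxy := b_zero hyx
  obtain ⟨m, m1, m2, m3⟩ := exists_sym hU hK (-((1 + ξ) * (1 + h.τ ξ) + n))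
  obtain ⟨w, hw, hwx, hwy, hI⟩ := third hU hV (x := x) (y := y) (by rw [hx, hy, hyx]; simpa using n2) m1 m2
  have hxw := b_zero hwx
  have hyw := b_zero hwy
  refine ⟨ξ • x + y, w, ⟨fun a b c habc => ?_, ξ, a3, Or.inl ⟨hx.trans_ne one_ne_zero, ?_⟩⟩, hxw, ?_⟩
  · obtain ⟨b1, b2, b3⟩ := hI (a + b * ξ) b c (by linear_combination (norm := module) habc)
    rw [b2, zero_mul, add_zero] at b1
    exact ⟨b1, b2, b3⟩
  · rw [h.add_left, h.smul_left, hyx, add_zero]
  · rintro v (rfl | rfl | rfl) <;>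
      simp only [h.add_left, h.add_right, h.smul_left, h.smul_right, hx, hy, hw, hxy, hyx, hwx, hwy, hxw, hyw,
        mul_zero, mul_one, add_zero, zero_add]
    · exact fun h0 => n3 (by linear_combination h0 - a1)
    · exact m2
    · exact fun h0 => m3 (by linear_combination h0)

/-- **Stabilizers of lines.** -/
theorem four_line (hK : Nat.card K ≠ 4) (F : FR h.EB) {v : V} (hv : v ≠ 0) : Four F.S (F.Aut ⊓ FixL h v) := by
  have key : ∀ x y z w : V, Cfg h x y z → h.b w w ≠ 0 → h.b x w = 0 → Reach h x y → Reach h x z →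
      Reach h x (x + y + z) → Four F.S (F.Aut ⊓ FixL h x) := by
    rintro x y z w C hw hxw ⟨u₁, a₁, c₁, b₁, d₁⟩ ⟨u₂, a₂, c₂, b₂, d₂⟩ ⟨u₃, a₃, c₃, b₃, d₃⟩
    have h1 := @qr_TS _ _ _ _ _ _ _ _ hU hV.ge F (F.Aut ⊓ FixL h x) w hw fun k hk ⟨κ, hκ⟩ =>
      ⟨FR.cj_mem_Aut hk, cj_mem_FixL (by rw [hκ, ap_qr, hxw, mul_zero, zero_smul, sub_zero])⟩
    exact four_of_TS (h1 a₁) (h1 a₂) (h1 a₃) fun s hs e₁ e₂ e₃ =>
      C.eq_one hV hs.1.1 hs.2 (conj_FixL b₁ d₁ e₁.2) (conj_FixL b₂ d₂ e₂.2) (conj_FixL b₃ d₃ e₃.2)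
  by_cases h0 : h.b v v = 0
  · obtain ⟨y, z, w, C, h1, h2, h3⟩ := cfg_iso hU hV hv h0
    have h4 := fun u hu => reach_iso hU h0 (h3 u hu).1 (h3 u hu).2
    exact key v y z w C h1 h2 (h4 _ (Or.inl rfl)) (h4 _ (Or.inr (Or.inl rfl))) (h4 _ (Or.inr (Or.inr rfl)))
  · obtain ⟨c, hc, h1⟩ := exists_norm hU h0 (map_one _) one_ne_zero
    obtain ⟨y, z, C, h2, h3⟩ := cfg_an hU hV hK h1
    have h4 := fun u hu => reach hU (h1.trans_ne one_ne_zero) (h3 u hu)
    rw [← FixL_smul hc]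
    exact key _ y z z C (h3 _ (Or.inr (Or.inl rfl))) h2 (h4 _ (Or.inl rfl)) (h4 _ (Or.inr (Or.inl rfl)))
      (h4 _ (Or.inr (Or.inr rfl)))

end Cfsg.Agent.SB.R1
end
end

-- part: SB/R1/Main
section
prune_inst 0x441400240090000000000008401000000400000000000000000800a00020000000402000000000000100a000000040000004400800040000004000400000001000080000000000000000000000000000000000000000000000000000000000004000000000
set_option linter.all false
open scoped Cfsg.Agent.FastGrp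

-- part: SB/R1/U3B
section
/-!
# S5765: three-dimensional unitary groups, invariant lines (helper61)
-/

set_option autoImplicit false
set_option linter.unusedSectionVars false

namespace Cfsg.Agent.SB.R1

open Cfsg Cfsg.Agent.DS.Cl Cfsg.Agent.DS.Cl.Fwd Module Cfsg.Agent.SB.Tor

variable {K V : Type} [Field K] [Finite K] [AddCommGroup V] [Module K V] [Finite V] {h : HF K V}

theorem ind3_of {x y z : V} (H : Ind K x y) (hz : ∀ a b : K, z ≠ a • x + b • y) : Ind3 K x y z := by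
  intro a b c habc
  have hc : c = 0 := by
    by_contra hc
    refine hz (-(c⁻¹ * a)) (-(c⁻¹ * b)) (smul_right_injective V hc ?_)
    change c • z = c • (-(c⁻¹ * a) • x + -(c⁻¹ * b) • y)
    rw [smul_add, smul_smul, smul_smul, mul_neg, mul_neg, mul_inv_cancel_left₀ hc, mul_inv_cancel_left₀ hc]
    linear_combination (norm := module) habc
  rw [hc, zero_smul, add_zero] at habc
  exact ⟨(H a b habc).1, (H a b habc).2, hc⟩

theorem ap_pow_sc {z : h.EB} {c : K} (hz : ∀ v, h.ap z v = c • v) (n : ℕ) (v : V) : h.ap (z ^ n) v = c ^ n • v := by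
  induction n with
  | zero => rw [pow_zero, pow_zero, one_smul, h.ap_one]
  | succ n ih => rw [pow_succ', pow_succ', h.ap_mul, ih, hz, mul_smul]

variable (hV : finrank K V = 3) {S : Subgroup (RingAut h.EB)} (hS : S ≤ SAut h.EB)
include hV hS

/-- an invariant subspace gives an invariant line -/
theorem line_of_sub (W : Submodule K V) (h0 : W ≠ ⊥) (h1 : W ≠ ⊤)
    (hW : ∀ γ ∈ S, ∀ L : SL h γ, ∀ w ∈ W, L.g w ∈ W) : ∃ v, v ≠ 0 ∧ S ≤ FixL h v := by
  obtain ⟨x, hx, hx0⟩ := Submodule.exists_mem_ne_zero_of_ne_bot h0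
  have : Nontrivial V := ⟨x, 0, hx0⟩
  by_cases h2 : ∀ w ∈ W, ∃ c : K, w = c • x
  · refine ⟨x, hx0, fun γ hγ => ?_⟩
    obtain ⟨L⟩ := exists_SL h (hS hγ)
    obtain ⟨c, hc⟩ := h2 _ (hW γ hγ L x hx)
    exact mem_FixL L hc
  push Not at h2
  obtain ⟨y, hy, hxy⟩ := h2
  have hI := ind_of_ne hx0 hxy
  obtain ⟨v, hv0, hvx, hvy⟩ := exists_perp (h := h) hV.ge x y
  have h3 : ∀ w ∈ W, h.b w v = 0 := fun w hw => by
    by_cases h4 : ∃ a b : K, w = a • x + b • y
    · obtain ⟨a, b, rfl⟩ := h4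
      rw [h.add_left, h.smul_left, h.smul_left, b_zero hvx, b_zero hvy]
      simp
    push Not at h4
    refine absurd (eq_top_iff.2 fun u _ => ?_) h1
    obtain ⟨a, b, c, rfl⟩ := (ind3_of hI h4).span hV u
    exact W.add_mem (W.add_mem (W.smul_mem _ hx) (W.smul_mem _ hy)) (W.smul_mem _ hw)
  refine ⟨v, hv0, fun γ hγ => ?_⟩
  obtain ⟨L⟩ := exists_SL h (hS hγ)
  have h4 : ∀ w ∈ W, h.b w (L.g v) = 0 := fun w hw => by
    obtain ⟨w', hw'⟩ := Finite.surjective_of_injective (f := fun u : W => (⟨L.g u, hW γ hγ L u u.2⟩ : W))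
      (fun a b hab => Subtype.ext (L.g.injective (congrArg Subtype.val hab))) ⟨w, hw⟩
    rw [← show L.g w' = w from congrArg Subtype.val hw', L.form, h3 _ w'.2, map_zero, mul_zero]
  obtain ⟨z, hz⟩ := h.exists_ne hv0
  refine mem_FixL L (c := h.τ (h.b z (L.g v) / h.b z v)) (sub_eq_zero.1 ((ind3_of hI (z := z) fun a b hab => hz ?_).eq_zero
    (h := h) hV ?_ ?_ ?_))
  · exact h3 z (hab ▸ W.add_mem (W.smul_mem _ hx) (W.smul_mem _ hy))
  · rw [h.sub_right, h.smul_right, h3 x hx, h4 x hx, mul_zero, sub_zero]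
  · rw [h.sub_right, h.smul_right, h3 y hy, h4 y hy, mul_zero, sub_zero]
  · rw [h.sub_right, h.smul_right, h.τ_τ, div_mul_cancel₀ _ hz, sub_self]

/-- the parabolic case -/
theorem line_of_par {F : FR h.EB} (hsolv : Group.IsSolvable S) {p : ℕ} (hp : p.Prime) (h0 : (p : h.EB) = 0)
    (hn : ¬ NPar p F.S S) : ∃ v, v ≠ 0 ∧ S ≤ FixL h v := by
  have : Nontrivial V := Module.nontrivial_of_finrank_pos (R := K) (by omega)
  have : Fact p.Prime := ⟨hp⟩
  obtain ⟨v₀, hv₀⟩ := exists_ne (0 : V)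
  have hK : (p : K) = 0 := by
    have h1 : (p : Module.End K V) v₀ = 0 := LinearMap.congr_fun (show (p : Module.End K V) = 0 from h0) v₀
    rw [Module.End.natCast_apply, ← Nat.cast_smul_eq_nsmul K] at h1
    exact (smul_eq_zero.1 h1).resolve_right hv₀
  have : CharP K p := (CharP.charP_iff_prime_eq_zero hp).2 hK
  unfold NPar at hn
  push Not at hn
  obtain ⟨Y, hY, hYp, hYn, hY0⟩ := hn
  obtain ⟨X, hXY, hX0, hXn, -, hXc, ⟨r, hr, hXr⟩, -⟩ := exists_min hsolv hY0 (hY.trans inf_le_left) hYn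
  obtain ⟨⟨x, hx⟩, hx1⟩ := Subgroup.ne_bot_iff_exists_ne_one.1 hX0
  have hx1' : x ≠ 1 := fun h1 => hx1 (Subtype.ext h1)
  obtain rfl : r = p := by
    have : Fact r.Prime := ⟨hr⟩
    obtain ⟨k, hk⟩ := hYp ⟨x, hXY hx⟩
    have h1 : orderOf x ∣ p ^ k := orderOf_dvd_of_pow_eq_one (congrArg Subtype.val hk)
    rw [orderOf_eq_prime (hXr x hx) hx1'] at h1
    exact (Nat.prime_dvd_prime_iff_eq hr hp).1 (hr.dvd_of_dvd_pow h1)
  let P : Subgroup h.EBˣ :=
    { carrier := {u | cj h.EB u ∈ X ∧ u ^ r = 1}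
      one_mem' := ⟨by rw [map_one]; exact one_mem _, one_pow _⟩
      inv_mem' := fun hu => ⟨by rw [map_inv]; exact inv_mem hu.1, by rw [inv_pow, hu.2, inv_one]⟩
      mul_mem' := fun {a b} ha hb => ⟨by rw [map_mul]; exact mul_mem ha.1 hb.1, by
        obtain ⟨z, hz, h1⟩ := cj_eq_iff.1 (show cj h.EB (a * b * a⁻¹) = cj h.EB b by
          rw [map_mul, map_mul, map_inv, hXc _ ha.1 _ hb.1, mul_inv_cancel_right])
        obtain ⟨c, hc⟩ := exists_sc h hz
        have h2 := congrArg (· ^ r) h1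
        simp only [conj_pow, hb.2, mul_one, mul_inv_cancel] at h2
        rw [Commute.mul_pow (units_comm hz b), hb.2, one_mul] at h2
        have h3 := ap_pow_sc hc r v₀
        rw [← Units.val_pow_eq_pow_val, ← h2, Units.val_one, h.ap_one] at h3
        have h4 : c = 1 := frobenius_inj K r (by
          rw [map_one, frobenius_def]
          exact smul_left_injective K hv₀ (h3.symm.trans (one_smul K v₀).symm))
        have h5 : z = 1 := Units.ext (h.ap_ext fun v => by rw [hc, h4, one_smul]; rfl)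
        rw [h5, mul_one, mul_inv_eq_iff_eq_mul] at h1
        rw [Commute.mul_pow h1, ha.2, hb.2, one_mul]⟩ }
  let W : Submodule K V :=
    { carrier := {w | ∀ u ∈ P, h.ap u w = w}
      zero_mem' := fun _ _ => map_zero _
      add_mem' := fun ha hb u hu => by rw [map_add, ha u hu, hb u hu]
      smul_mem' := fun c w hw u hu => by rw [map_smul, hw u hu] }
  refine line_of_sub hV hS W (fun h1 => ?_) (fun h1 => ?_) fun γ hγ L w hw u hu => ?_
  · let _ : MulAction P V :=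
      { smul := fun u v => h.ap (u : h.EBˣ) v
        one_smul := fun _ => rfl
        mul_smul := fun _ _ _ => rfl }
    have hP : IsPGroup r P := fun u => ⟨1, Subtype.ext (by rw [pow_one]; exact u.2.2)⟩
    have := Fintype.ofFinite K
    obtain ⟨n, -, hn⟩ := FiniteField.card K r
    obtain ⟨w, h2, h3⟩ := hP.exists_fixed_point_of_prime_dvd_card_of_fixed_point V (a := 0) (by
      rw [Module.natCard_eq_pow_finrank (K := K), hV, Nat.card_eq_fintype_card, hn]
      exact (dvd_pow_self r n.ne_zero).trans (dvd_pow_self _ (by norm_num))) fun u => map_zero (h.ap (u : h.EBˣ))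
    have h4 : w ∈ W := fun u hu => h2 ⟨u, hu⟩
    rw [h1] at h4
    exact h3 ((Submodule.mem_bot K).1 h4).symm
  · obtain ⟨u, -, rfl⟩ := F.S_le_PI (hY (hXY hx)).2
    have h2 := hXr _ hx
    rw [← map_pow, cj_eq_one_iff] at h2
    obtain ⟨c, hc⟩ := exists_sc h h2
    obtain ⟨d, rfl⟩ := surjective_frobenius K r c
    have hd : d ≠ 0 := by
      rintro rfl
      have h3 := ap_inv_ap h (u ^ r) v₀
      rw [hc, map_zero, zero_smul, map_zero] at h3
      exact hv₀ h3.symm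
    let z : h.EBˣ := ⟨h.eb (d⁻¹ • 1), h.eb (d • 1),
      h.ap_ext fun v => by rw [h.ap_mul, ap_sc, ap_sc, inv_smul_smul₀ hd]; rfl,
      h.ap_ext fun v => by rw [h.ap_mul, ap_sc, ap_sc, smul_inv_smul₀ hd]; rfl⟩
    have hz : (z : h.EB) ∈ Subring.center h.EB := h.smul_mem_center _
    have h3 : cj h.EB (u * z) = cj h.EB u := cj_eq_iff.2 ⟨z, hz, rfl⟩
    have h4 : u * z ∈ P := ⟨h3 ▸ hx, Units.ext (h.ap_ext fun v => by
      rw [Commute.mul_pow (units_comm hz u), Units.val_mul, h.ap_mul, hc, Units.val_pow_eq_pow_val,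
        ap_pow_sc (ap_sc h d⁻¹), smul_smul, frobenius_def, ← mul_pow, mul_inv_cancel₀ hd, one_pow, one_smul]
      rfl)⟩
    have h5 : u * z = 1 := Units.ext (h.ap_ext fun v => (h1 ▸ Submodule.mem_top : v ∈ W) _ h4)
    exact hx1' (by rw [← h3, h5, map_one])
  · have h1 : um γ⁻¹ u ∈ P := ⟨by rw [← conj_cj]; exact hXn _ (inv_mem hγ) _ hu.1, by rw [← map_pow, hu.2, map_one]⟩
    have h2 := L.conj (um γ⁻¹ u : h.EBˣ) w
    rwa [hw _ h1, um_val, ra_apply_inv] at h2

/-- frames -/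
theorem line_of_fr {D : Finset h.EB} (hD : Fr D) (hI : _root_.Cfsg.Agent.DS.Cl.Inv S D) :
    (∃ v, v ≠ 0 ∧ S ≤ FixL h v) ∨ Cl.Many (Cl.rk h) D 1 := by
  have : Module.Finite K V := Module.Finite.of_finite
  have hfix := fun e he => exists_fix (h := h) (hD.idem e he) (hD.ne e he)
  have hz := fun {e e'} he he' hee {w} => Fr.ap_eq_zero h hD (e := e) (e' := e') he he' hee (w := w)
  by_cases h1 : ∃ e ∈ D, 2 ≤ Cl.rk h e
  · obtain ⟨e, he, h1⟩ := h1
    obtain ⟨x, hx, hx0⟩ := hfix e he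
    obtain ⟨y, hy, hxy⟩ := exists_ind h1 (hD.idem e he) hx0
    refine Or.inl (line_of_sub hV hS (LinearMap.range (h.ap e)) (fun h2 => hx0 ?_) (fun h2 => ?_) ?_)
    · exact (Submodule.mem_bot K).1 (h2 ▸ ⟨x, hx⟩)
    · obtain ⟨e', he', hee⟩ := Finset.exists_mem_ne hD.two e
      obtain ⟨w, hw, hw0⟩ := hfix e' he'
      obtain ⟨u, rfl⟩ : w ∈ LinearMap.range (h.ap e) := h2 ▸ Submodule.mem_top
      exact hw0 (hw.symm.trans (hz he' he hee (by rw [← h.ap_mul, hD.idem e he])))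
    · rintro γ hγ L _ ⟨w, rfl⟩
      have h2 : γ e = e := by
        by_contra h2
        have h3 := hI γ hγ e he
        have h4 : L.g x ≠ 0 := by simpa using hx0
        obtain ⟨a, b, c, h5⟩ := (ind3_of hxy (z := L.g x) fun a b hab => h4 (by
          rw [← L.map_fix hx, hab, map_add, map_smul, map_smul, hz h3 he h2 hx, hz h3 he h2 hy]
          simp)).span hV (L.g y)
        have h6 := congrArg (h.ap (γ e)) h5
        rw [map_add, map_add, map_smul, map_smul, map_smul, hz h3 he h2 hx, hz h3 he h2 hy, L.map_fix hx, L.map_fix hy,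
          smul_zero, smul_zero, add_zero, zero_add, ← L.σ.apply_symm_apply c, ← L.smul] at h6
        exact one_ne_zero (hxy (-L.σ.symm c) 1 (by rw [L.g.injective h6]; simp)).2
      exact ⟨L.g w, by rw [← L.conj, h2]⟩
  push Not at h1
  have h2 : ∀ e ∈ D, Cl.rk h e = 1 := fun e he => by
    have h3 := h1 e he
    obtain ⟨x, hx, hx0⟩ := hfix e he
    have h4 : Cl.rk h e ≠ 0 := fun h4 =>
      hx0 ((Submodule.mem_bot K).1 (Submodule.finrank_eq_zero.1 h4 ▸ (⟨x, hx⟩ : x ∈ LinearMap.range (h.ap e))))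
    omega
  refine Or.inr ⟨Or.inl (le_antisymm ?_ ?_), h2⟩
  · by_contra h3
    obtain ⟨e₁, e₂, e₃, e₄, m₁, m₂, m₃, m₄, n12, n13, n14, n23, n24, n34⟩ := Finset.three_lt_card_iff.1 (not_le.1 h3)
    obtain ⟨x₁, a₁, b₁⟩ := hfix e₁ m₁
    obtain ⟨x₂, a₂, b₂⟩ := hfix e₂ m₂
    obtain ⟨x₃, a₃, b₃⟩ := hfix e₃ m₃
    obtain ⟨x₄, a₄, b₄⟩ := hfix e₄ m₄
    obtain ⟨a, b, c, h4⟩ := (ind3_of (ind_of_ne (y := x₂) b₁ fun c hc => b₂ (by
      rw [← a₂, hc, map_smul, hz m₂ m₁ n12.symm a₁, smul_zero])) (z := x₃) fun a b hab => b₃ (by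
      rw [← a₃, hab, map_add, map_smul, map_smul, hz m₃ m₁ n13.symm a₁, hz m₃ m₂ n23.symm a₂]
      simp)).span hV x₄
    refine b₄ ?_
    rw [← a₄, h4, map_add, map_add, map_smul, map_smul, map_smul, hz m₄ m₁ n14.symm a₁, hz m₄ m₂ n24.symm a₂,
      hz m₄ m₃ n34.symm a₃]
    simp
  · have h3 := finrank_le_sum h hD.sum
    rwa [Finset.sum_congr rfl h2, Finset.sum_const, smul_eq_mul, mul_one, hV] at h3

omit hS in
/-- the centralizer of `T` is trivial -/
theorem cent_three (hU : Cl.IsU h) (F : FR h.EB) : ∀ γ ∈ F.Aut, (∀ s ∈ F.S, γ * s = s * γ) → γ = 1 := by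
  intro γ hγ hc
  have : Nontrivial V := Module.nontrivial_of_finrank_pos (R := K) (by omega)
  obtain ⟨L⟩ := exists_SL h hγ.1
  obtain ⟨θ, hθ⟩ := hU.2
  have hκ : θ - h.τ θ ≠ 0 := sub_ne_zero.2 hθ.symm
  have key : ∀ v, v ≠ 0 → h.b v v = 0 → γ ∈ FixL h v := fun v hv0 hv => by
    have h1 := qr_form h hU.1 (κ := θ - h.τ θ) (v := v) (by rw [hv, map_sub, h.τ_τ]; ring)
    have h2 := hc _ (transv_mem hU hV.ge F (isoU_ms h _ h1) rfl hv)
    rw [← mul_inv_eq_iff_eq_mul, conj_cj] at h2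
    obtain ⟨z, hz, h3⟩ := cj_eq_iff.1 h2
    obtain ⟨c, hc⟩ := exists_sc h hz
    have h4 := fun x => congrArg (fun u : h.EBˣ => h.ap u x) h3
    simp only [um_val, Units.val_mul, isoU_val, L.map_qr, h.ap_mul, hc, map_smul, ap_qr] at h4
    obtain ⟨x, hx0, h5, h6⟩ := exists_perp (h := h) hV.ge v (L.g v)
    have h7 := h4 x
    rw [h5, h6, mul_zero, mul_zero, zero_smul, zero_smul, sub_zero] at h7
    have h8 : c = 1 := smul_left_injective K hx0 (h7.symm.trans (one_smul K x).symm)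
    obtain ⟨y, hy⟩ := h.exists_ne (v := L.g v) (by simpa using hv0)
    have h9 := h4 y
    rw [h8, one_smul, sub_right_inj] at h9
    have h10 : L.σ (θ - h.τ θ) / L.μ * h.b y (L.g v) ≠ 0 :=
      mul_ne_zero (div_ne_zero ((map_ne_zero L.σ).2 hκ) L.μ_ne) hy
    exact mem_FixL L (by rw [← inv_smul_smul₀ h10 (L.g v), h9, smul_smul])
  obtain ⟨e, he0, he⟩ : ∃ e, e ≠ 0 ∧ h.b e e = 0 := by
    obtain ⟨v, hv⟩ := exists_ne (0 : V)
    by_cases h1 : h.b v v = 0
    · exact ⟨v, hv, h1⟩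
    obtain ⟨y, h2, h3⟩ := second hU hV h1 (n := -h.b v v) (by rw [map_neg, tau_self hU.1]) (neg_ne_zero.2 h1)
    refine ⟨v + y, fun h4 => h1 ?_, by rw [h.add_left, h.add_right, h.add_right, h2, h3, b_zero h3]; ring⟩
    have h5 := h.add_left v y v
    rwa [h4, h.zero_left, h3, add_zero, eq_comm] at h5
  obtain ⟨y, z, -, C, -, -, h1⟩ := cfg_iso hU hV he0 he
  have h2 := fun v hv => key v (fun h0 => (h1 v hv).2 (by rw [h0, h.zero_right])) (h1 v hv).1
  exact C.eq_one hV hγ.1 (key e he0 he) (h2 _ (Or.inl rfl)) (h2 _ (Or.inr (Or.inl rfl))) (h2 _ (Or.inr (Or.inr rfl)))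

end Cfsg.Agent.SB.R1
end

-- part: SB/R1/U3S
section
/-!
# S5765: three-dimensional unitary groups, Singer cycles (helper61, after helper52)
-/

set_option autoImplicit false
set_option linter.unusedSectionVars false

namespace Cfsg.Agent.SB.R1

open Module Cfsg.Agent.DS.Cl Cfsg.Agent.DS.Cl.Fwd Cfsg.Agent.SB.Cl Cfsg.Agent.SB.Fld

section general

variable {A : Type} [Ring A] [StarRing A] {K V : Type} [Field K] [AddCommGroup V] [Module K V]

/-- a good parameter -/
theorem exists_good' {E : Subalgebra K (End K V)} (h : MaxF E) [Finite K] [Module.Finite K V] {v : V} (hv : v ≠ 0)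
    (f : V →ₗ[K] K) (S : AddSubgroup (End K V)) (hS : ∀ y ∈ S, y ∈ E) (X : Set K) (hX : ∀ y ∈ S, f (y v) ∈ X)
    (h4 : 4 * Nat.card X ≤ Nat.card S) :
    ∃ y ∈ S, y ≠ 0 ∧ f (y v) = 0 ∧
      ∀ a ∈ E, a ≠ 0 → ¬ ∀ b ∈ E, LinearMap.trace K V (a * b) = f ((a * y) v) * f ((b * y) v) := by
  by_contra hcon
  push Not at hcon
  have hV : Finite V := Module.finite_of_finite K
  have hE : Finite (End K V) := Finite.of_injective (fun x : End K V => (x : V → V)) DFunLike.coe_injective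
  let φ : S →+ K :=
    { toFun := fun y => f (y.1 v)
      map_zero' := by simp only [_root_.ZeroMemClass.coe_zero, _root_.LinearMap.zero_apply, _root_.map_zero]
      map_add' := fun a b => by simp only [_root_.AddSubgroup.coe_add, _root_.LinearMap.add_apply, _root_.map_add] }
  have h1 : 4 ≤ Nat.card φ.ker := by
    have h2 := AddSubgroup.card_mul_index φ.ker
    rw [AddSubgroup.index_ker] at h2
    have h3 : Nat.card φ.range ≤ Nat.card X := Nat.card_le_card_of_injective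
      (fun y => ⟨y.1, by obtain ⟨_, y, rfl⟩ := y; exact hX _ y.2⟩) fun a b hab => Subtype.ext (Subtype.mk.inj hab)
    have h5 : 0 < Nat.card φ.range := Nat.card_pos
    by_contra h6
    have h7 : Nat.card φ.ker * Nat.card φ.range ≤ 3 * Nat.card X := Nat.mul_le_mul (by omega) h3
    omega
  obtain ⟨b₀, hb₀, htr⟩ := h.exists_trace hv
  have hnd : ∀ x ∈ E, (∀ b ∈ E, LinearMap.trace K V (x * b) = 0) → x = 0 := by
    intro x hx h0
    by_contra h2
    obtain ⟨d, hd, h3, -⟩ := h.inv hx h2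
    have h5 := h0 _ (mul_mem hd hb₀)
    rw [← mul_assoc, h3, one_mul] at h5
    exact htr h5
  have hk : ∀ {a y : End K V}, a ∈ E → a ≠ 0 →
      (∀ b ∈ E, LinearMap.trace K V (a * b) = f ((a * y) v) * f ((b * y) v)) → f ((a * y) v) ≠ 0 :=
    fun ha ha0 hb h0 => ha0 (hnd _ ha fun b hb' => by rw [hb b hb', h0, zero_mul])
  classical
  obtain ⟨y₁, hy₁⟩ : ∃ y : φ.ker, y ≠ 0 := by
    have : Nontrivial φ.ker := Finite.one_lt_card_iff_nontrivial.1 (by omega)
    exact exists_ne 0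
  obtain ⟨y₂, hy₂⟩ : ∃ y : φ.ker, y ∉ ({0, y₁, -y₁} : Finset φ.ker) := by
    by_contra h2
    push Not at h2
    have := Fintype.ofFinite φ.ker
    have h3 := Finset.card_le_card (fun y _ => h2 y : Finset.univ ⊆ _)
    have h5 := Finset.card_le_three (a := (0 : φ.ker)) (b := y₁) (c := -y₁)
    rw [Finset.card_univ, ← Nat.card_eq_fintype_card] at h3
    omega
  simp only [Finset.mem_insert, Finset.mem_singleton, not_or] at hy₂
  have hne : ∀ y : φ.ker, y ≠ 0 → y.1.1 ≠ 0 := fun y hy h0 => hy (Subtype.ext (Subtype.ext h0))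
  obtain ⟨a₁, ha₁, ha₁0, hb₁⟩ := hcon _ y₁.1.2 (hne _ hy₁) y₁.2
  obtain ⟨d, hd, -, hd'⟩ := h.inv (hS _ y₁.1.2) (hne _ hy₁)
  have hk₁ := hk ha₁ ha₁0 hb₁
  set k₁ := f ((a₁ * y₁.1.1) v)
  obtain ⟨l, hl, hl'⟩ : ∃ l ∈ E, ∀ b ∈ E, LinearMap.trace K V (l * b) = f (b v) := by
    refine ⟨k₁⁻¹ • (a₁ * d), E.smul_mem (mul_mem ha₁ hd) _, fun b hb => ?_⟩
    rw [smul_mul_assoc, map_smul, mul_assoc, hb₁ _ (mul_mem hd hb), h.comm hd hb, mul_assoc, hd', mul_one,
      smul_eq_mul, ← mul_assoc, inv_mul_cancel₀ hk₁, one_mul]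
  have hQ : ∀ y : φ.ker, y ≠ 0 → f ((l * y.1.1 * y.1.1) v) = 1 := by
    intro y hy
    obtain ⟨a, ha, ha0, hb⟩ := hcon _ y.1.2 (hne _ hy) y.2
    have hk' := hk ha ha0 hb
    have hyE := hS _ y.1.2
    have h2 := hnd _ (sub_mem ha (E.smul_mem (mul_mem hl hyE) (f ((a * y.1.1) v)))) fun b hb' => by
      rw [sub_mul, map_sub, hb b hb', smul_mul_assoc, map_smul, mul_assoc, hl' _ (mul_mem hyE hb'), h.comm hyE hb',
        smul_eq_mul, sub_self]
    have h3 := congrArg (fun x : End K V => f ((x * y.1.1) v)) (sub_eq_zero.1 h2)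
    simp only [smul_mul_assoc, LinearMap.smul_apply, map_smul, smul_eq_mul] at h3
    exact mul_left_cancel₀ hk' (by rw [← h3, mul_one])
  have q1 := hQ _ hy₁
  have q2 := hQ _ hy₂.1
  have q3 := hQ (y₁ + y₂) fun h0 => hy₂.2.2 (eq_neg_of_add_eq_zero_right h0)
  have q4 := hQ (y₁ - y₂) fun h0 => hy₂.2.1 (sub_eq_zero.1 h0).symm
  have hc : l * y₂.1.1 * y₁.1.1 = l * y₁.1.1 * y₂.1.1 := by
    rw [mul_assoc, mul_assoc, h.comm (hS _ y₂.1.2) (hS _ y₁.1.2)]
  simp only [AddSubgroup.coe_add, AddSubgroup.coe_sub, mul_add, add_mul, mul_sub, sub_mul, hc, LinearMap.add_apply,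
    LinearMap.sub_apply, map_add, map_sub, q1, q2] at q3 q4
  have h2 : (2 : K) = 0 := by linear_combination q3 + q4
  exact one_ne_zero (α := K) (by linear_combination -q3 + (1 + f ((l * y₁.1.1 * y₂.1.1) v)) * h2)

/-- **Singer cycles** -/
theorem four' {π : A →+* End K V} {c η θ : A} (h : LU π c η θ) [Finite A] [Finite K] [Finite V] (F : FR A) (hA : SS A) (h3 : 3 ≤ finrank K V) {Z : Subring A}
    (hZ : ComSub Z) (hE : ∀ z ∈ Z, π z ≠ 0 → IsUnit (π z)) (hc : Nat.card V ≤ Nat.card (h.img Z hZ.1))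
    {s : A} (hs : star s = -s) {v : V} (hv : v ≠ 0) {f : V →ₗ[K] K} (hf : f ≠ 0) (hπ : π s = f.smulRight v)
    (X : Set K) (hX : ∀ y : A, star y = y → f (π y v) ∈ X)
    (hnum : ∀ Q q : ℕ, Nat.card Z ≤ Q * Q → 2 ≤ q → q * q ≤ Nat.card (Subring.center A) →
      4 * Nat.card X ≤ Q ∧ (q + 2) ^ 2 < Q)
    {S : Subgroup (RingAut A)} (hS : S ≤ F.Aut) (hI : _root_.Cfsg.Agent.DS.Cl.Inv S Z) : Four F.S S := by
  have : Nontrivial V := ⟨⟨v, 0, hv⟩⟩
  have hfin : Finite (End K V) := Finite.of_surjective π h.surj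
  have hEf := h.img_field hZ hE
  have hM := maxF_of_card hEf hv hc
  set E := h.img Z hZ.1
  let _ : Field E := hEf.toField
  set B := Blk.ofSubring Z hZ.2.1
  let _ : CommRing B.T := { (inferInstance : Ring B.T) with
    mul_comm := fun x y => B.val_inj (hZ.2.2 _ (B.val_mem x) _ (B.val_mem y)) }
  let ρ : B.T →+* E :=
    { toFun := fun x => ⟨π (B.val x), _, B.val_mem x, rfl⟩
      map_one' := Subtype.ext (map_one π)
      map_mul' := fun x y => Subtype.ext (map_mul π _ _)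
      map_zero' := Subtype.ext (map_zero π)
      map_add' := fun x y => Subtype.ext (map_add π _ _) }
  have hρ : _root_.Cfsg.Agent.SB.Fld.Sep ρ := fun a h1 h2 => B.val_inj (h.sep _ (congrArg Subtype.val h1) (congrArg Subtype.val h2))
  have hθ : IsUnit (B.mk' θ (hZ.1 h.θ_cen) - star (B.mk' θ (hZ.1 h.θ_cen))) := by
    obtain ⟨u, hu⟩ := h.θ_unit
    have h1 : (u : A) ∈ Subring.center A := hu ▸ Subring.sub_mem _ h.θ_cen (star_cen h.θ_cen)
    refine IsUnit.of_mul_eq_one (B.mk' _ (hZ.1 (inv_cen h1))) (B.val_inj ?_)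
    change (θ - star θ) * ((u⁻¹ : Aˣ) : A) = 1
    rw [← hu, Units.mul_inv]
  let C : Subring B.T :=
    { carrier := {x | B.val x ∈ Subring.center A}
      mul_mem' := fun ha hb => (Subring.center A).mul_mem ha hb
      one_mem' := (Subring.center A).one_mem
      add_mem' := fun ha hb => (Subring.center A).add_mem ha hb
      zero_mem' := (Subring.center A).zero_mem
      neg_mem' := fun {a} ha => show B.val (-a) ∈ Subring.center A by rw [map_neg]; exact neg_mem ha }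
  obtain ⟨n1, n2⟩ := hnum (Nat.card (sym B.T)) (Nat.card ↥(C ⊓ sym B.T)) (card_le_sq (R := B.T) hθ)
    (hρ.two_le_card _ inf_le_right) ((sq_le_card hθ C h.θ_cen).trans (Nat.card_le_card_of_injective
      (fun x : C => (⟨B.val x, x.2⟩ : Subring.center A)) fun a b hab =>
        Subtype.ext (B.val_inj (Subtype.mk.inj hab))))
  obtain ⟨u, hu, hfaith⟩ := hρ.faithful hθ C (fun a ha => star_cen ha) n2
  let ι : B.T →+ End K V := π.toAddMonoidHom.comp B.val
  obtain ⟨_, ⟨y, hy, rfl⟩, hy0, hyv, hgood⟩ := exists_good' hM hv f ((sym B.T).toAddSubgroup.map ι)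
    (by rintro _ ⟨y, -, rfl⟩; exact ⟨_, B.val_mem y, rfl⟩) X
    (by rintro _ ⟨y, hy, rfl⟩; exact hX _ (congrArg B.val hy))
    (n1.trans (Nat.card_le_card_of_injective (fun x : sym B.T => ⟨ι x, x, x.2, rfl⟩) fun a b hab =>
      Subtype.ext (hρ.sym_inj a.2 b.2 (Subtype.ext (Subtype.mk.inj hab)))))
  obtain ⟨w, hw⟩ := hρ.norm_surj hθ hy
  have hwZ : B.val w ∈ Z := B.val_mem w
  set W := B.val w
  have hW : π W * π (star W) = ι y := by rw [← map_mul]; exact congrArg (fun x => π (B.val x)) hw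
  have hWE : π W ∈ E := ⟨_, hwZ, rfl⟩
  have hWE' : π (star W) ∈ E := ⟨_, hZ.2.1 _ hwZ, rfl⟩
  have hf' : ∀ b ∈ E, f (π (star W) (b (π W v))) = f ((b * ι y) v) := fun b hb => by
    rw [← hW, hM.comm hWE hWE', ← mul_assoc, hM.comm hb hWE']; rfl
  have hv1 : π W v ≠ 0 := fun h0 => hy0 (by rw [← hW, hM.eq_zero hWE hv h0, zero_mul])
  have hf1 : f.comp (π (star W)) ≠ 0 := fun h0 => by
    obtain ⟨d, -, hd, -⟩ := hM.inv hWE' fun h1 => hy0 (by rw [← hW, h1, mul_zero])
    refine hf (LinearMap.ext fun x => ?_)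
    have h1 := LinearMap.congr_fun h0 (d x)
    rwa [LinearMap.comp_apply, ← Module.End.mul_apply, hd] at h1
  have hfv1 : f.comp (π (star W)) (π W v) = 0 := by
    have h1 := hf' 1 (one_mem E)
    rw [one_mul, hyv] at h1
    exact h1
  have hπ1 : π (W * s * star W) = (f.comp (π (star W))).smulRight (π W v) := LinearMap.ext fun x => by
    rw [map_mul, map_mul, hπ]; simp only [_root_.Module.End.mul_apply, _root_.LinearMap.coe_smulRight, _root_.map_smul, _root_.LinearMap.coe_comp, _root_.Function.comp_apply]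
  obtain ⟨hss, t, ht, ht'⟩ := h.transv F h3 (s := W * s * star W)
    (by rw [star_mul, star_mul, star_star, hs, neg_mul, mul_neg, mul_assoc]) hv1 hf1 hfv1 hπ1
  have ht'' : ((t⁻¹ : Aˣ) : A) = 1 - W * s * star W :=
    (Units.eq_inv_of_mul_eq_one_left (by rw [ht', add_mul, one_mul, mul_sub, mul_one, hss]; abel)).symm
  have hx : cj A t ∈ F.S := ⟨t, ht, rfl⟩
  have hNS : F.Aut ⊓ _root_.Cfsg.Agent.DS.Cl.Fix (Z : Set A) ≤ F.Aut ⊓ B.stab :=
    inf_le_inf_left _ (Blk.mem_stab fun γ hγ x hx => by rw [hγ x hx]; exact hx)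
  have hNn : ∀ k ∈ F.Aut ⊓ B.stab, ∀ γ ∈ F.Aut ⊓ _root_.Cfsg.Agent.DS.Cl.Fix (Z : Set A), k * γ * k⁻¹ ∈ F.Aut ⊓ _root_.Cfsg.Agent.DS.Cl.Fix (Z : Set A) :=
    fun k hk γ hγ => ⟨F.Aut.mul_mem (F.Aut.mul_mem hk.1 hγ.1) (F.Aut.inv_mem hk.1), fun x hx => by
      rw [ra_mul, ra_mul, hγ.2 _ (((B.stab.inv_mem hk.2) x).1 hx), ra_apply_inv]⟩
  have hxN : ∀ γ ∈ F.Aut ⊓ _root_.Cfsg.Agent.DS.Cl.Fix (Z : Set A), (cj A t)⁻¹ * γ * cj A t ∈ F.Aut ⊓ B.stab → γ = 1 := by
    intro γ hγ hγ'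
    obtain ⟨z, rfl⟩ := hA.sn (γ := γ) fun d hd => hγ.2 d (hZ.1 hd)
    have hz : (z : A) ∈ Z := h.cent hZ hM fun x hx => by rw [← cj_mul_eq, hγ.2 x hx]
    rw [← map_inv, ← map_mul, ← map_mul] at hγ'
    have hz0 : π z * π (z⁻¹ : Aˣ) = 1 := by rw [← map_mul, Units.mul_inv, map_one]
    rcases hM.bad h3 hv1 hf1 hfv1 (a := π z) ⟨_, hz, rfl⟩ (by
      rintro _ ⟨b, hb, rfl⟩
      refine ⟨_, ⟨_, (hγ'.2 b).1 hb, rfl⟩, ?_⟩
      have h1 := congrArg π (cj_mul_eq (t⁻¹ * z * t) b)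
      rw [cj_apply, Units.inv_mul_cancel_right] at h1
      have h2 : π ((t⁻¹ * z * t : Aˣ) : A) = (1 - π (W * s * star W)) * π z * (1 + π (W * s * star W)) := by
        rw [Units.val_mul, Units.val_mul, ht', ht'', map_mul, map_mul, map_sub, map_add, map_one]
      rw [← hπ1, ← h2, ← map_mul, ← map_mul, cj_mul_eq]) with ⟨k, hk⟩ | h1
    · obtain ⟨k', hk'⟩ := h.scal_of (cj_SAut_cen hγ.1.1)
      have hk0 : k ≠ 0 := fun h0 => by
        rw [hk, h0, zero_smul, zero_mul] at hz0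
        exact zero_ne_one hz0
      rw [map_mul, hk, mul_smul_comm, mul_one] at hk'
      exact cj_eq_one_iff.2 (h.cen_of hk (k' := k⁻¹ * k') (by
        rw [mul_smul, ← hk', smul_smul, inv_mul_cancel₀ hk0, one_smul]))
    · refine absurd (fun b hb => ?_) (hgood (π z) ⟨_, hz, rfl⟩ fun h0 => by
        rw [h0, zero_mul] at hz0
        exact zero_ne_one hz0)
      rw [h1 b hb, ← hf' b hb, ← hf' _ ⟨_, hz, rfl⟩]
      rfl
  have hu' : B.val u * star (B.val u) = 1 := congrArg B.val hu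
  have hvN : cj A (mkU _ hu') ∈ F.Aut ⊓ _root_.Cfsg.Agent.DS.Cl.Fix (Z : Set A) :=
    ⟨FR.cj_mem_Aut (mem_Iso_max (F.L_eq h.c_cen h.c_add) hu'), fun x hx =>
      cj_eq_of_mul (hZ.2.2 _ (B.val_mem u) x hx)⟩
  refine Four.mono (S' := F.Aut ⊓ B.stab) ⟨_, hx, _, FR.conj_mem_S hvN.1 hx, _, hx, fun k hk a0 a1 _ => ?_⟩
    (le_inf hS (Blk.mem_stab hI))
  have h1 := trick_key hNS hNn hxN hvN hvN hk a0 a1
  rw [conj_cj, cj_eq_iff] at h1
  obtain ⟨z, hz, hz'⟩ := h1
  have h2 := hfaith (B.res ⟨k, hk.2⟩ : B.T →+* B.T) (B.res_SAut (γ := ⟨k, hk.2⟩) hk.1.1)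
    ⟨B.mk' z (hZ.1 hz), hz, B.val_inj (by
      have h2 := congrArg Units.val hz'
      rw [um_val, Units.val_mul, mkU_val, cen_comm hz] at h2
      exact h2)⟩
  exact hxN k ⟨hk.1, fun x hx => congrArg B.val (h2 (B.mk' x hx))⟩ a0

end general

variable {K V : Type} [Field K] [Finite K] [AddCommGroup V] [Module K V] [Finite V] {h : HF K V}

/-- **Singer cycles in dimension three** -/
theorem four_singer (F : FR h.EB) (hU : IsU h) (hV : finrank K V = 3) (hK : Nat.card K ≠ 4) {Z : Subring h.EB}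
    (hZ : ComSub Z) (hE : ∀ x ∈ Z, x ≠ 0 → IsUnit x) (hc : Nat.card Z = Nat.card K ^ finrank K V)
    {S : Subgroup (RingAut h.EB)} (hS : S ≤ F.Aut) (hI : _root_.Cfsg.Agent.DS.Cl.Inv S Z) : Four F.S S := by
  obtain ⟨hε, θ, hθ⟩ := hU
  have hl := luU h hθ
  have hfin : Finite (End K V) := Finite.of_surjective _ hl.surj
  have : Nontrivial V := Module.nontrivial_of_finrank_pos (R := K) (by omega)
  obtain ⟨v, hv⟩ := exists_ne (0 : V)
  have h0 : θ - h.τ θ ≠ 0 := sub_ne_zero.2 hθ.symm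
  refine four' hl F h.ss (by omega) hZ hE ?_ (s := h.eb (((θ - h.τ θ) • h.lin v).smulRight v)) ?_ hv
    (f := (θ - h.τ θ) • h.lin v) (fun h1 => ?_) rfl {x | h.τ x = -x} (fun y hy => ?_) ?_ hS hI
  · rw [Module.natCard_eq_pow_finrank (K := K) (V := V), ← hc]
    exact Nat.card_le_card_of_injective (fun z : Z => ⟨_, z, z.2, rfl⟩) fun a b hab => Subtype.ext (Subtype.mk.inj hab)
  · refine h.ap_ext fun y => h.ext_right fun u => ?_
    rw [h.b_star]
    change h.b (((θ - h.τ θ) * h.b u v) • v) y = h.b u (-(((θ - h.τ θ) * h.b y v) • v))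
    rw [← neg_smul, h.smul_left, h.smul_right, h.swap y v, hε, map_neg, map_mul, map_sub, h.τ_τ]
    ring
  · obtain ⟨u, hu⟩ := h.exists_ne hv
    exact mul_ne_zero h0 hu (LinearMap.congr_fun h1 u)
  · change h.τ ((θ - h.τ θ) * h.b (h.ap y v) v) = -((θ - h.τ θ) * h.b (h.ap y v) v)
    have h1 : h.τ (h.b (h.ap y v) v) = h.b (h.ap y v) v := by
      rw [← one_mul (h.τ _), ← hε, ← h.swap, ← h.star_b, hy]
    rw [map_mul, h1, map_sub, h.τ_τ]
    ring
  · intro Q q h1 h2 h3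
    have h6 : Nat.card (Subring.center h.EB) ≤ Nat.card K :=
      Nat.card_le_card_of_injective (fun a => (hl.scal_of a.2).choose) fun a b hab => Subtype.ext (by
        have h7 := (hl.scal_of a.2).choose_spec
        rw [show (hl.scal_of a.2).choose = (hl.scal_of b.2).choose from hab, ← (hl.scal_of b.2).choose_spec] at h7
        exact h7)
    have h7 := h3.trans h6
    have h8 : Nat.card {x | h.τ x = -x} * Nat.card {x | h.τ x = -x} ≤ Nat.card K := by
      rw [← Nat.card_prod]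
      refine Nat.card_le_card_of_injective (fun a => a.1.1 + a.2.1 * θ) fun a b (hab : _ + _ = _ + _) => ?_
      have h9 := congrArg h.τ hab
      rw [map_add, map_add, map_mul, map_mul, a.1.2, a.2.2, b.1.2, b.2.2] at h9
      have h10 : a.2.1 = b.2.1 := mul_right_cancel₀ h0 (by linear_combination hab + h9)
      rw [h10, add_left_inj] at hab
      exact Prod.ext (Subtype.ext hab) (Subtype.ext h10)
    let τ : K ≃+* K := ⟨⟨h.τ, h.τ, h.τ_τ, h.τ_τ⟩, map_mul h.τ, map_add h.τ⟩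
    obtain ⟨r, h9, h10, -⟩ := H324.FC.exists_q τ h.τ_τ ⟨θ, hθ⟩
    rw [hc, hV, h10, ← pow_mul, show 2 * 3 = 3 + 3 from rfl, pow_add] at h1
    rw [h10, pow_two] at h7 h8
    have h11 : 3 ≤ r := by
      by_contra h11
      exact hK (by rw [h10, show r = 2 by omega]; rfl)
    have h12 := Nat.mul_self_le_mul_self_iff.1 h1
    have h13 := Nat.mul_self_le_mul_self_iff.1 h7
    have h14 := Nat.mul_self_le_mul_self_iff.1 h8
    have h15 : 3 * (r * r) ≤ r ^ 3 := by
      rw [pow_succ', pow_two]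
      exact Nat.mul_le_mul_right _ h11
    have h16 : 3 * r ≤ r * r := Nat.mul_le_mul_right _ h11
    have h17 : (q + 2) ^ 2 ≤ (r + 2) ^ 2 := Nat.pow_le_pow_left (by omega) 2
    exact ⟨by omega, by linarith only [h7, h11, h12, h13, h15, h16]⟩

end Cfsg.Agent.SB.R1
end

-- part: SB/R1/L2B
section
/-!
# S5765: normalizers of non-split tori and of four-groups (helper61)
-/

set_option autoImplicit false
set_option linter.unusedSectionVars false

namespace Cfsg.Agent.SB.R1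

open Subgroup MulAction Cfsg Cfsg.Agent.H786.FC Cfsg.Agent.ClassicalGeometry.KleinCount
open scoped Pointwise

theorem eq_of_sq_cyclic {G : Type*} [Group G] [Finite G] {t c z : G} (hc : c ∈ zpowers t) (hz : z ∈ zpowers t)
    (hc2 : c * c = 1) (hz2 : z * z = 1) (hc1 : c ≠ 1) (hz1 : z ≠ 1) : c = z := by
  classical
  have := Fintype.ofFinite (zpowers t)
  have h1 := IsCyclic.card_pow_eq_one_le (α := zpowers t) (n := 2) (by norm_num)
  by_contra hne
  have h2 : ({1, ⟨c, hc⟩, ⟨z, hz⟩} : Finset (zpowers t)) ⊆ Finset.univ.filter fun a => a ^ 2 = 1 := by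
    intro x hx
    simp only [Finset.mem_insert, Finset.mem_singleton] at hx
    rw [Finset.mem_filter]
    refine ⟨Finset.mem_univ _, ?_⟩
    rcases hx with rfl | rfl | rfl
    · exact one_pow 2
    · exact Subtype.ext (by rw [pow_two]; exact hc2)
    · exact Subtype.ext (by rw [pow_two]; exact hz2)
  have h3 := Finset.card_le_card h2
  rw [Finset.card_eq_three.2 ⟨_, _, _, fun h => hc1 (congrArg Subtype.val h).symm,
    fun h => hz1 (congrArg Subtype.val h).symm, fun h => hne (congrArg Subtype.val h), rfl⟩] at h3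
  omega

theorem exists_conj_not_mem' {K : Type*} [Group K] [IsSimpleGroup K] {H : Subgroup K} (hH : H ≠ ⊤) {z : K}
    (hz : z ≠ 1) : ∃ x : K, x⁻¹ * z * x ∉ H := by
  by_contra hcon
  push Not at hcon
  rcases H.normalCore_normal.eq_bot_or_eq_top with h | h
  · apply hz
    rw [← mem_bot, ← h]
    intro b
    simpa only [_root_.inv_inv] using hcon b⁻¹
  · exact hH (top_le_iff.1 (h ▸ H.normalCore_le))

theorem zpowers_ne_top {K : Type*} [Group K] (hK : ¬ IsMulCommutative K) (y : K) : zpowers y ≠ ⊤ := by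
  intro h
  refine hK ⟨⟨fun a b => ?_⟩⟩
  obtain ⟨i, rfl⟩ : a ∈ zpowers y := h ▸ mem_top a
  obtain ⟨j, rfl⟩ : b ∈ zpowers y := h ▸ mem_top b
  exact zpow_mul_comm y i j

theorem apply_mem_zpowers {K : Type*} [Group K] {s : MulAut K} {y t x : K} (h : s y ∈ zpowers t) (hx : x ∈ zpowers y) :
    s x ∈ zpowers t := by
  obtain ⟨i, rfl⟩ := hx
  rw [map_zpow]
  exact zpow_mem h i

/-- a cyclic TI-subgroup with its dihedral normalizer -/
structure Tor {K : Type*} [Group K] (t : K) (D : Subgroup K) (m : ℕ) : Prop where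
  ord : orderOf t = m
  mem : t ∈ D
  card : Nat.card D ≤ 2 * m
  out : ∀ g ∈ D, g ∈ zpowers t ∨ g * g = 1
  ti : ∀ g, g ∉ D → ∀ x ∈ zpowers t, g⁻¹ * x * g ∈ zpowers t → x = 1
  ne_top : D ≠ ⊤

theorem Tor.map {K : Type*} [Group K] {t : K} {D : Subgroup K} {m : ℕ} (h : Tor t D m) (φ : MulAut K) :
    Tor (φ t) (D.map φ.toMonoidHom) m where
  ord := (φ.orderOf_eq t).trans h.ord
  mem := mem_map_of_mem _ h.mem
  card := by rw [card_map_of_injective φ.injective]; exact h.card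
  out := by
    rintro _ ⟨g, hg, rfl⟩
    rcases h.out g hg with h1 | h1
    · exact Or.inl (apply_mem_zpowers (mem_zpowers _) h1)
    · exact Or.inr ((map_mul φ g g).symm.trans (by rw [h1, map_one]))
  ti := by
    intro g hg x hx hgx
    obtain ⟨g, rfl⟩ := φ.surjective g
    obtain ⟨x, rfl⟩ := φ.surjective x
    have key : ∀ y, φ y ∈ zpowers (φ t) → y ∈ zpowers t := fun y hy => by
      have := apply_mem_zpowers (s := φ⁻¹) (t := t) (by rw [MulAut.inv_apply_self]; exact mem_zpowers t) hy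
      rwa [MulAut.inv_apply_self] at this
    rw [← map_inv, ← map_mul, ← map_mul] at hgx
    rw [h.ti g (fun h1 => hg (mem_map_of_mem _ h1)) x (key _ hx) (key _ hgx), map_one]
  ne_top := fun h1 => h.ne_top (by
    rw [eq_top_iff]
    intro x _
    exact (mem_map_iff_mem φ.injective).1 (h1 ▸ mem_top _))

variable {p : ℕ} {K : Type*} [Group K] {Q h N : ℕ}

namespace TI

variable (H : TI p K Q h N)
include H

variable [Fact p.Prime] [Finite K] [IsSimpleGroup K]

theorem free_of_coprime {t : K} (hc : (orderOf t).Coprime (Q * h)) {c : K} (hct : c ∈ zpowers t) {P : Sylow p K}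
    (hP : c • P = P) : c = 1 := by
  have h1 : orderOf c ∣ Q * h := H.card_stab P ▸ orderOf_dvd_natCard (stabilizer K P) hP
  have h2 : orderOf c ∣ orderOf t := orderOf_dvd_of_mem_zpowers hct
  exact orderOf_eq_one_iff.1 (Nat.eq_one_of_dvd_coprimes hc h2 h1)

/-- the centralizer of a large fixed point free element acts freely -/
theorem semi {t : K} (hc : (orderOf t).Coprime (Q * h)) (h1 : t ≠ 1) (hk : ∀ k < N, p ^ k + 1 < orderOf t)
    {β : MulAut K} (hβ : β t = t) {P : Sylow p K} (hP : β • P = P) : β = 1 := by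
  classical
  have := H.finite_sylow
  by_contra hβ1
  have hfix : ∀ c ∈ zpowers t, β • c • P = c • P := fun c hct => by
    rw [smul_smul_sylow, hP, (zpowers_le.2 (show t ∈ fixS β from hβ)) hct]
  have hne : t • P ≠ P := fun h2 => h1 (H.free_of_coprime hc (mem_zpowers t) h2)
  obtain ⟨k, hkN, h2, -⟩ := H.two_fix hβ1 hne hP (hfix t (mem_zpowers t))
  rw [← H.card_fixed hne hP (hfix t (mem_zpowers t))] at h2
  have h3 : Nat.card (zpowers t) ≤ Nat.card (Option {P' : Sylow p K // P' ≠ P ∧ β • P' = P'}) := by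
    refine Nat.card_le_card_of_injective
      (fun c => if h4 : (c : K) • P = P then none else some ⟨(c : K) • P, h4, hfix c c.2⟩) fun c c' hcc => ?_
    have h5 : (c : K) • P = (c' : K) • P := by
      by_cases a : (c : K) • P = P <;> by_cases a' : (c' : K) • P = P <;> simp only [a, a', dite_true, dite_false] at hcc
      · rw [a, a']
      · cases hcc
      · cases hcc
      · exact congrArg Subtype.val (Option.some.inj hcc)
    have h6 := H.free_of_coprime hc (mul_mem (inv_mem c'.2) c.2) (P := P) (by rw [mul_smul, h5, inv_smul_smul])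
    exact Subtype.ext (inv_mul_eq_one.1 h6).symm
  rw [Finite.card_option, h2, Nat.card_zpowers] at h3
  have := hk k hkN
  omega

/-- **The normalizer of a non-split torus.** -/
theorem good_of_tor (hK : ¬ IsMulCommutative K) {S : Subgroup (MulAut K)} (hS : Group.IsSolvable S)
    (hm : MaxInv (InnG K) S) {t : K} {D : Subgroup K} {m : ℕ} (hT : Tor t D m) {y : K} (hy : y ∈ zpowers t)
    (hy1 : y ≠ 1) (hSy : ∀ s ∈ S, s y ∈ zpowers y) (h3 : 3 ≤ m) (hc : m.Coprime (Q * h)) (hQ : Q + 1 ≤ 2 * m)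
    (hk : ∀ k < N, p ^ k + 1 < m) (h7 : 14 * m ≤ Nat.card K) : Good (InnG K) S := by
  have := H.finite_sylow
  have hinv : ∀ s ∈ S, ∀ x ∈ zpowers y, s x ∈ zpowers y := fun s hs x hx => apply_mem_zpowers (hSy s hs) hx
  have hRD : innS S ≤ D := fun g hg => by
    by_contra hgD
    refine hy1 (hT.ti g hgD y hy (zpowers_le.2 hy ?_))
    have h1 := hSy _ (inv_mem hg)
    simpa using h1
  have htR : zpowers t ≤ innS S := by
    refine le_trans ?_ (norm_le_innS hK hm (zpowers_ne_bot.2 hy1) (zpowers_ne_top hK y) hinv)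
    refine le_normalizer_of_conj fun s hs x hx => ?_
    obtain ⟨i, rfl⟩ := hs
    obtain ⟨j, hj⟩ := zpowers_le.2 hy hx
    have e : t ^ i * x * (t ^ i)⁻¹ = x := by
      rw [← hj]
      group
    exact e.symm ▸ hx
  have ht2 : t * t ≠ 1 := fun h1 => by
    have h2 := Nat.le_of_dvd (by norm_num) (orderOf_dvd_of_pow_eq_one (x := t) (n := 2) (by rwa [pow_two]))
    rw [hT.ord] at h2
    omega
  have ht1 : t ≠ 1 := fun h1 => ht2 (by rw [h1, mul_one])
  have hSt : ∀ s ∈ S, s t ∈ zpowers t := fun s hs =>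
    (hT.out _ (hRD (apply_mem_innS hs (htR (mem_zpowers t))))).resolve_right fun h1 =>
      ht2 (s.injective (by rw [map_mul, h1, map_one]))
  obtain ⟨x, hxD, hx⟩ : ∃ x : K, x ∉ D ∧ ∀ c ∈ zpowers t, c * c = 1 → c ≠ 1 → x⁻¹ * c * x ∉ D := by
    by_cases h1 : ∃ z ∈ zpowers t, z * z = 1 ∧ z ≠ 1
    · obtain ⟨z, hz, hz2, hz1⟩ := h1
      obtain ⟨x, hx⟩ := exists_conj_not_mem' hT.ne_top hz1
      exact ⟨x, fun h2 => hx (mul_mem (mul_mem (inv_mem h2) (zpowers_le.2 hT.mem hz)) h2),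
        fun c a1 a2 a3 => eq_of_sq_cyclic a1 hz a2 hz2 a3 hz1 ▸ hx⟩
    · obtain ⟨x, hx⟩ : ∃ x : K, x ∉ D := by
        by_contra h2
        push Not at h2
        exact hT.ne_top (eq_top_iff' _ |>.2 h2)
      exact ⟨x, hx, fun c a1 a2 a3 => absurd ⟨c, a1, a2, a3⟩ h1⟩
  let M : Subgroup (MulAut K) := (zpowers t).map MulAut.conj
  have hMS : M ≤ S := by
    rintro _ ⟨c, hc, rfl⟩
    exact htR hc
  have hMn : ∀ s ∈ S, ∀ v ∈ M, s * v * s⁻¹ ∈ M := by
    rintro s hs _ ⟨c, hc, rfl⟩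
    exact ⟨s c, apply_mem_zpowers (hSt s hs) hc, (conj_conj s c).symm⟩
  have hxM : ∀ v ∈ M, (MulAut.conj x)⁻¹ * v * MulAut.conj x ∈ S → v = 1 := by
    rintro _ ⟨c, hc, rfl⟩ h1
    rw [← map_inv, ← map_mul, ← map_mul] at h1
    have h2 := hRD h1
    have h4 : c = 1 := by
      rcases hT.out _ h2 with h5 | h5
      · exact hT.ti x hxD c hc h5
      · by_contra h6
        refine hx c hc ?_ h6 h2
        have e : x⁻¹ * c * x * (x⁻¹ * c * x) = x⁻¹ * (c * c) * x⁻¹⁻¹ := by group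
        exact conj_eq_one_iff.1 (e ▸ h5)
    rw [h4, map_one]
  have hv : MulAut.conj t ∈ M := ⟨t, mem_zpowers t, rfl⟩
  refine good_of_four hK (four_of_card_le_three (as_inn hK) ((as_inn hK).not_le hS) (x := MulAut.conj x)
    (y := MulAut.conj t * MulAut.conj x * (MulAut.conj t)⁻¹) ⟨x, rfl⟩ ((innG_normal K).conj_mem _ ⟨x, rfl⟩ _) ?_)
    (le_trans (Nat.mul_le_mul_left _ ((card_le_of_le hRD).trans hT.card)) (by omega))
  set E := S ⊓ cjS S (MulAut.conj x) ⊓ cjS S (MulAut.conj t * MulAut.conj x * (MulAut.conj t)⁻¹) with hE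
  have hEt : ∀ k ∈ E, k t = t := fun k hk => by
    have h1 := trick_key hMS hMn hxM hv hv hk.1.1 (mem_cjS.1 hk.1.2) (mem_cjS.1 hk.2)
    rw [conj_conj] at h1
    exact conj_injective hK h1
  obtain ⟨P⟩ : Nonempty (Sylow p K) := inferInstance
  have h1 : Nat.card (zpowers t × E) ≤ Nat.card (Sylow p K) := by
    refine Nat.card_le_card_of_injective (fun z => (z.1 : K) • (z.2 : MulAut K) • P) ?_
    rintro ⟨c, k⟩ ⟨c', k'⟩ hck
    have h2 : (c : K) • (k : MulAut K) • P = (c' : K) • (k' : MulAut K) • P := hck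
    have h4 : (c' : K)⁻¹ * c ∈ zpowers t := mul_mem (inv_mem c'.2) c.2
    have h5 := H.semi (hT.ord ▸ hc) ht1 (hT.ord ▸ hk) (β := (k' : MulAut K)⁻¹ * MulAut.conj ((c' : K)⁻¹ * c) * k)
      (by
        obtain ⟨j, hj⟩ := h4
        rw [MulAut.mul_apply, MulAut.mul_apply, hEt k k.2, ← hj, MulAut.conj_apply]
        have e : t ^ j * t * (t ^ j)⁻¹ = t := by group
        rw [e]
        exact hEt _ (inv_mem k'.2)) (P := P) (by
        rw [mul_smul, mul_smul, inv_smul_eq_iff]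
        change ((c' : K)⁻¹ * c) • (k : MulAut K) • P = _
        rw [mul_smul, h2, inv_smul_smul])
    have h6 : MulAut.conj ((c' : K)⁻¹ * c) = (k' : MulAut K) * (k : MulAut K)⁻¹ := by
      rw [eq_mul_inv_iff_mul_eq, ← inv_mul_eq_one_iff_eq', ← mul_assoc]
      exact h5
    have h8 : (k' : MulAut K) * (k : MulAut K)⁻¹ ∈ E := mul_mem k'.2 (inv_mem k.2)
    have h7 := hxM _ ⟨_, h4, rfl⟩ (by rw [h6]; exact mem_cjS.1 h8.1.2)
    rw [h7] at h6
    have h9 : (c' : K)⁻¹ * c = 1 := conj_injective hK (h7.trans (map_one _).symm)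
    exact Prod.ext (Subtype.ext (inv_mul_eq_one.1 h9).symm) (Subtype.ext (mul_inv_eq_one.1 h6.symm).symm)
  rw [Nat.card_prod, Nat.card_zpowers, hT.ord, H.count] at h1
  by_contra h2
  have h4 : m * 4 ≤ m * Nat.card E := Nat.mul_le_mul_left _ (by omega)
  omega
where
  inv_mul_eq_one_iff_eq' {a b : MulAut K} : b⁻¹ * a = 1 ↔ a = b := by rw [inv_mul_eq_one, eq_comm]

theorem exists_swap {P₀ P₁ : Sylow p K} (hne : P₁ ≠ P₀) : ∃ w : K, w • P₀ = P₁ ∧ w • P₁ = P₀ := by
  obtain ⟨g, hg⟩ := _root_.MulAction.exists_smul_eq K P₀ P₁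
  have h1 : g • P₁ ≠ P₁ := fun h2 => hne (smul_left_cancel g (h2.trans hg.symm))
  obtain ⟨u, hu, h2⟩ := H.trans h1 hne.symm
  exact ⟨u * g, by rw [mul_smul, hg, smul_self_of_mem hu], by rw [mul_smul, h2]⟩

/-- if the Sylow subgroups have prime order, the two point stabilizer in `Aut K` is abelian -/
theorem comm_of_two (hQ : Q = p) {P₀ P₁ : Sylow p K} (hne : P₁ ≠ P₀) {β γ : MulAut K} (b0 : β • P₀ = P₀)
    (b1 : β • P₁ = P₁) (c0 : γ • P₀ = P₀) (c1 : γ • P₁ = P₁) : β * γ = γ * β := by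
  obtain ⟨u, hu, hu1⟩ := H.exists_ne_one P₀
  have h1 : zpowers u = P₀ := by
    have h2 := zpowers_eq_top_of_prime_card (G := P₀) (p := p) ((H.cardP P₀).trans hQ) (g := ⟨u, hu⟩)
      fun h3 => hu1 (congrArg Subtype.val h3)
    have h3 := congrArg (map (P₀ : Subgroup K).subtype) h2
    rwa [MonoidHom.map_zpowers, ← MonoidHom.range_eq_map, range_subtype] at h3
  have key : ∀ δ : MulAut K, δ • P₀ = P₀ → ∃ i : ℤ, δ u = u ^ i := fun δ hδ => by
    have h2 := apply_mem_smul δ hu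
    rw [hδ] at h2
    obtain ⟨i, hi⟩ : δ u ∈ zpowers u := h1 ▸ h2
    exact ⟨i, hi.symm⟩
  obtain ⟨i, hi⟩ := key β b0
  obtain ⟨j, hj⟩ := key γ c0
  rw [← inv_mul_eq_one]
  refine H.eq_one_of_cent hne (by rw [mul_smul, inv_smul_eq_iff, mul_smul, mul_smul, b1, c1, b1]) fun v hv => ?_
  have h2 : u ∈ fixS ((β * γ)⁻¹ * (γ * β)) := by
    rw [mem_fixS, MulAut.mul_apply, MulAut.inv_apply, MulEquiv.symm_apply_eq, MulAut.mul_apply, MulAut.mul_apply, hi,
      hj, map_zpow, map_zpow, hi, hj, ← zpow_mul, ← zpow_mul, mul_comm]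
  exact zpowers_le.2 h2 (h1 ▸ hv)

/-- centralizers of automorphisms when the Sylow subgroups have prime order -/
theorem fix_le_of_odd (hf : Fpf p K) (hK : ¬ IsMulCommutative K) (hQ : Q = p) (hN : N = 1) {α : MulAut K} (hα : α ≠ 1)
    {t : K} (ht : t ∈ fixS α) (hp : (orderOf t).Prime) (hp' : orderOf t ≠ p) (hd : ¬ orderOf t ∣ Q + 1)
    (hodd : Odd (Nat.card (centralizer ({t} : Set K)))) : Nat.card (fixS α) ≤ 2 * h := by
  have := H.finite_sylow
  have ho : orderOf (MulAut.conj t) = orderOf t := orderOf_injective _ (conj_injective hK) t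
  obtain ⟨P₀, h0⟩ := H.exists_first (α := MulAut.conj t) (ho ▸ hp) (ho ▸ hd)
  obtain ⟨P₁, hne, h1⟩ := H.exists_second (α := MulAut.conj t) (ho ▸ hp) (ho ▸ hp') h0
  have key : ∀ P : Sylow p K, t • P = P → α • P = P₀ ∨ α • P = P₁ := fun P hP => by
    refine H.fix_le_two hf hne (ne_one_of_prime' hp) h0 h1 ?_
    have h2 := smul_smul_sylow α t P
    rw [hP, mem_fixS.1 ht] at h2
    exact h2.symm
  rcases key P₀ h0 with a0 | a0
  · have a1 : α • P₁ = P₁ := (key P₁ h1).resolve_left fun h2 => hne (smul_left_cancel α (h2.trans a0.symm))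
    obtain ⟨k, hk, h2, -⟩ := H.two_fix hα hne a0 a1
    rw [show k = 0 by omega, pow_zero, ← H.card_fixed hne a0 a1] at h2
    have h3 := (Nat.card_eq_one_iff_unique.1 h2).1
    have h4 : ∀ g ∈ fixS α, ∀ P : Sylow p K, α • P = P → g • P = P₀ ∨ g • P = P₁ := fun g hg P hP => by
      by_cases h5 : g • P = P₀
      · exact Or.inl h5
      · exact Or.inr (congrArg Subtype.val (h3.elim ⟨g • P, h5, by rw [smul_smul_sylow, mem_fixS.1 hg, hP]⟩
          ⟨P₁, hne, a1⟩))
    refine (card_le_two_mul _ fun g hg => h4 g hg P₀ a0).trans (Nat.mul_le_mul_left _ ?_)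
    rw [← H.card_two hne]
    refine card_le_of_le fun g hg => ⟨hg.2, (h4 g hg.1 P₁ a1).resolve_left fun h5 => hne ?_⟩
    exact smul_left_cancel g (h5.trans (show g • P₀ = P₀ from hg.2).symm)
  · exfalso
    have a1 : α • P₁ = P₀ := (key P₁ h1).resolve_right fun h2 => hne (smul_left_cancel α (h2.trans a0.symm))
    obtain ⟨w, w0, w1⟩ := H.exists_swap hne
    have h2 := H.comm_of_two hQ hne (β := MulAut.conj w * α) (γ := MulAut.conj t)
      (by rw [mul_smul, a0]; exact w1) (by rw [mul_smul, a1]; exact w0) h0 h1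
    have h3 : α * MulAut.conj t = MulAut.conj t * α := by
      rw [← mul_inv_eq_iff_eq_mul, conj_conj, mem_fixS.1 ht]
    rw [mul_assoc, h3, ← mul_assoc, ← mul_assoc, mul_left_inj, ← map_mul, ← map_mul] at h2
    have h4 : w ∈ centralizer ({t} : Set K) := mem_centralizer_singleton_iff.2 (conj_injective hK h2)
    obtain ⟨j, hj⟩ := hodd
    have h5 : w ^ (2 * j + 1) = 1 := by
      rw [← hj]
      exact congrArg Subtype.val (pow_card_eq_one' (x := (⟨w, h4⟩ : centralizer ({t} : Set K))))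
    have h6 : (w ^ 2) ^ j • P₁ = P₁ := (stabilizer K P₁).pow_mem (show w ^ 2 • P₁ = P₁ by rw [pow_two, mul_smul, w1, w0]) j
    have h7 : w ^ (2 * j + 1) • P₀ = P₁ := by rw [pow_succ, mul_smul, w0, pow_mul, h6]
    rw [h5, one_smul] at h7
    exact hne h7.symm

end TI

section four

variable [Finite K] [IsSimpleGroup K] {a b : K} (V : CommInv a b)
  (hC : ∀ g : K, g * a = a * g → g * b = b * g → g ∈ V.four) (hK : ¬ IsMulCommutative K)
include hC hK

theorem card_le_of_pairs (Z : Set (MulAut K)) (hZ : ∀ z ∈ Z, ∀ z' ∈ Z, z⁻¹ * z' ∈ InnG K) (D : Finset (K × K))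
    (hD : ∀ z ∈ Z, (z a, z b) ∈ D) : Nat.card Z ≤ D.card * 4 := by
  have h1 := card_le_of_cover (fun (d : D) (z : Z) => ((z : MulAut K) a, (z : MulAut K) b) = d)
    (fun z => ⟨⟨_, hD z z.2⟩, rfl⟩) (c := 4) (by
      intro d
      rcases isEmpty_or_nonempty {z : Z // ((z : MulAut K) a, (z : MulAut K) b) = d} with h1 | ⟨⟨z₀⟩⟩
      · rw [Nat.card_of_isEmpty]
        exact Nat.zero_le _
      rw [← V.isKleinFour_four.card_four, ← card_map_of_injective (K := V.four) (conj_injective hK)]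
      refine Nat.card_le_card_of_injective (fun z => (⟨(z₀.1 : MulAut K)⁻¹ * z.1, ?_⟩ : V.four.map MulAut.conj)) ?_
      · obtain ⟨g, hg⟩ := hZ _ z₀.1.2 _ z.1.2
        have h2 := z.2.trans z₀.2.symm
        have h3 : ∀ x : K, (z.1 : MulAut K) x = (z₀.1 : MulAut K) x → g * x = x * g := fun x hx => by
          have h4 : MulAut.conj g x = x := by rw [hg, MulAut.mul_apply, hx, MulAut.inv_apply_self]
          exact mul_inv_eq_iff_eq_mul.1 h4
        exact ⟨g, hC g (h3 a (congrArg Prod.fst h2)) (h3 b (congrArg Prod.snd h2)), hg⟩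
      · intro z z' hz
        exact Subtype.ext (Subtype.ext (mul_left_cancel (congrArg Subtype.val hz))))
  rwa [Nat.card_eq_fintype_card (α := D), Fintype.card_coe] at h1

variable {S : Subgroup (MulAut K)} (hS : ∀ s ∈ S, ∀ y ∈ V.four, s y ∈ V.four)
include hS

omit hC hK in
theorem pair_cases {s : MulAut K} (hs : s ∈ S) : (s a = a ∧ s b = b) ∨ (s a = a ∧ s b = a * b) ∨ (s a = b ∧ s b = a) ∨
    (s a = a * b ∧ s b = b) ∨ (s a = b ∧ s b = a * b) ∨ (s a = a * b ∧ s b = a) := by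
  have h1 : s a ≠ 1 := fun h => V.hx (s.injective (h.trans (map_one s).symm))
  have h2 : s b ≠ 1 := fun h => V.hy (s.injective (h.trans (map_one s).symm))
  have h3 : s a ≠ s b := fun h => V.hxy (s.injective h)
  rcases V.mem_four.1 (hS s hs a (V.mem_four.2 (by simp))) with a1 | a1 | a1 | a1 <;>
    rcases V.mem_four.1 (hS s hs b (V.mem_four.2 (by simp))) with a2 | a2 | a2 | a2 <;>
    first
    | exact absurd a1 h1
    | exact absurd a2 h2
    | exact absurd (a1.trans a2.symm) h3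
    | simp only [a1, a2, and_self, true_or, or_true]

theorem card_innS_le : Nat.card (innS S) ≤ 24 := by
  classical
  rw [← card_innS hK]
  refine (card_le_of_pairs V hC hK ((S ⊓ InnG K : Subgroup (MulAut K)) : Set (MulAut K))
    (fun z hz z' hz' => mul_mem (inv_mem hz.2) hz'.2)
    {(a, b), (a, a * b), (b, a), (a * b, b), (b, a * b), (a * b, a)} fun z hz => ?_).trans ?_
  · simpa only [Finset.mem_insert, Finset.mem_singleton, Prod.mk.injEq] using pair_cases V hS hz.1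
  · exact Nat.mul_le_mul_right 4 Finset.card_le_six

theorem meet_le_sixteen {c : MulAut K} (hc : c * c = 1) : meet (InnG K) S c ≤ 16 := by
  classical
  have h1 := card_le_of_pairs V hC hK {z : MulAut K | z ∈ S ∧ ∃ x ∈ InnG K, x⁻¹ * c * x = z} (by
      rintro _ ⟨-, x, hx, rfl⟩ _ ⟨-, y, hy, rfl⟩
      have h1 := (innG_normal K).conj_mem _ (mul_mem hx (inv_mem hy)) c⁻¹
      have e : (x⁻¹ * c * x)⁻¹ * (y⁻¹ * c * y) = x⁻¹ * (c⁻¹ * (x * y⁻¹) * c⁻¹⁻¹) * y := by group
      rw [e]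
      exact mul_mem (mul_mem (inv_mem hx) h1) hy)
    {(a, b), (a, a * b), (b, a), (a * b, b)} (by
      rintro z ⟨hz, x, -, hx⟩
      have h1 : ∀ y, z (z y) = y := fun y => by
        have e : z * z = x⁻¹ * (c * c) * x := by rw [← hx]; group
        rw [← MulAut.mul_apply, e, hc, mul_one, inv_mul_cancel, MulAut.one_apply]
      simp only [Finset.mem_insert, Finset.mem_singleton, Prod.mk.injEq]
      rcases pair_cases V hS hz with h2 | h2 | h2 | h2 | h2 | h2
      · exact Or.inl h2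
      · exact Or.inr (Or.inl h2)
      · exact Or.inr (Or.inr (Or.inl h2))
      · exact Or.inr (Or.inr (Or.inr h2))
      · have h3 := h1 a
        rw [h2.1, h2.2] at h3
        exact absurd (mul_eq_left.1 h3) V.hy
      · have h3 := h1 b
        rw [h2.2, h2.1] at h3
        exact absurd (mul_eq_right.1 h3) V.hx)
  refine le_trans (le_of_eq ?_) (h1.trans (Nat.mul_le_mul_right 4 Finset.card_le_four))
  exact Nat.card_congr ⟨fun y => ⟨y.1.1, y.1.2, y.2⟩, fun z => ⟨⟨z.1, z.2.1⟩, z.2.2⟩, fun _ => rfl, fun _ => rfl⟩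

end four

theorem seven_of_weight {A : Type*} [Group A] [Finite A] {T S : Subgroup A} (w : ℚ) {s r : ℕ}
    (hw : ∀ c ∈ S, (orderOf c).Prime → (meet T S c : ℚ) ≤ w * cls T c) (hs : Nat.card S ≤ s)
    (hr : Nat.card ↥(S ⊓ T) ≤ r) (h : s * w ^ 4 * (Nat.card T : ℚ) ^ 4 + 6 * s * (r : ℚ) ^ 4 < (Nat.card T : ℚ) ^ 4) :
    Seven T S := by
  refine seven_of_sum (fun _ => w) hw (lt_of_le_of_lt ?_ h)
  rw [Finset.sum_const, nsmul_eq_mul]
  have h1 : ((primeElts S).card : ℚ) ≤ s := by exact_mod_cast (card_primeElts_lt S).le.trans hs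
  have h2 : (Nat.card S : ℚ) ≤ s := by exact_mod_cast hs
  have h3 : (Nat.card ↥(S ⊓ T) : ℚ) ≤ r := by exact_mod_cast hr
  have h4 : 0 ≤ w ^ 4 := by positivity
  gcongr

/-- seven points -/
theorem four_of_seven_points [Finite K] [IsSimpleGroup K] (hK : ¬ IsMulCommutative K) (hA : Nat.card (MulAut K) < 2520)
    {S : Subgroup (MulAut K)} {Y : Subgroup K} (h0 : Y ≠ ⊥) (h1 : Y ≠ ⊤) (hY : ∀ s ∈ S, ∀ y ∈ Y, s y ∈ Y)
    (h7 : (normalizer (Y : Set K)).index = 7) : Four (InnG K) S := by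
  classical
  have hSY : ∀ s ∈ S, s • Y = Y := fun s hs => by
    refine eq_of_le_of_card_ge ?_ (card_map_of_injective (f := s.toMonoidHom) s.injective).ge
    rintro _ ⟨y, hy, rfl⟩
    exact hY s hs y hy
  let L : Subgroup (MulAut K) := InnG K ⊔ stabilizer (MulAut K) Y
  have hn := innG_normal K
  have horb : ∀ Z : orbit L Y, ∃ x ∈ InnG K, x • Y = Z.1 := by
    rintro ⟨_, ⟨l, hl⟩, rfl⟩
    obtain ⟨x, hx, s, hs, rfl⟩ := mem_sup_of_normal_left.1 hl
    exact ⟨x, hx, by change x • Y = (x * s) • Y; rw [mul_smul, hs]⟩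
  have hcard : Nat.card (orbit L Y) = 7 := by
    have e : orbit L Y = orbit (ConjAct K) Y := by
      ext Z
      constructor
      · intro hZ
        obtain ⟨_, ⟨x, rfl⟩, hx⟩ := horb ⟨Z, hZ⟩
        exact ⟨ConjAct.toConjAct x, hx⟩
      · rintro ⟨x, rfl⟩
        exact ⟨⟨MulAut.conj (ConjAct.ofConjAct x), mem_sup_left ⟨_, rfl⟩⟩, rfl⟩
    rw [e, Nat.card_coe_set_eq, ← index_stabilizer, ← h7]
    have e2 : (stabilizer (ConjAct K) Y).comap (ConjAct.toConjAct (G := K)).toMonoidHom = normalizer (Y : Set K) := by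
      ext x
      exact conjAct_pointwise_smul_iff
    rw [← e2]
    exact (index_comap_of_surjective _ (f := (ConjAct.toConjAct (G := K)).toMonoidHom)
      ConjAct.toConjAct.surjective).symm
  have hfin : Finite (orbit L Y) := Nat.finite_of_card_ne_zero (by omega)
  have := Fintype.ofFinite (orbit L Y)
  let e : Fin 7 ≃ orbit L Y := (Finite.equivFinOfCardEq hcard).symm
  choose x hx hxe using fun i : Fin 4 => horb (e (Fin.castLE (by norm_num) i))
  refine four_of_four hx fun s hs => ?_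
  have hsL : s ∈ L := by
    have h2 : (x 0)⁻¹ * s * x 0 ∈ L := mem_sup_right (hSY _ (hs 0))
    have h3 := mul_mem (mul_mem (mem_sup_left (hx 0) : x 0 ∈ L) h2) (inv_mem (mem_sup_left (hx 0) : x 0 ∈ L))
    have e' : x 0 * ((x 0)⁻¹ * s * x 0) * (x 0)⁻¹ = s := by group
    rwa [e'] at h3
  let σ := toPermHom L (orbit L Y)
  have hfix : ∀ i : Fin 4, σ ⟨s, hsL⟩ (e (Fin.castLE (by norm_num) i)) = e (Fin.castLE (by norm_num) i) := fun i => by
    apply Subtype.ext
    change s • (e (Fin.castLE (by norm_num) i)).1 = _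
    have h2 := hSY _ (hs i)
    rw [mul_smul, mul_smul, inv_smul_eq_iff] at h2
    rw [← hxe, h2]
  have hsupp : (σ ⟨s, hsL⟩).support.card ≤ 3 := by
    have h2 : (σ ⟨s, hsL⟩).support ⊆ {e 4, e 5, e 6} := by
      intro Z hZ
      obtain ⟨j, rfl⟩ := e.surjective Z
      rw [Equiv.Perm.mem_support] at hZ
      fin_cases j
      · exact absurd (hfix 0) hZ
      · exact absurd (hfix 1) hZ
      · exact absurd (hfix 2) hZ
      · exact absurd (hfix 3) hZ
      all_goals simp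
    exact (Finset.card_le_card h2).trans Finset.card_le_three
  have htr : IsPretransitive σ.range (orbit L Y) := ⟨fun Z Z' => by
    obtain ⟨l, hl⟩ := _root_.MulAction.exists_smul_eq L Z Z'
    exact ⟨⟨σ l, l, rfl⟩, hl⟩⟩
  have hprim : IsPreprimitive σ.range (orbit L Y) := IsPreprimitive.of_prime_card (by rw [hcard]; norm_num)
  have hlt : ¬ alternatingGroup (orbit L Y) ≤ σ.range := fun h2 => by
    have h3 := card_le_of_le h2
    have h4 : Nat.card σ.range ≤ Nat.card (MulAut K) :=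
      (Nat.card_le_card_of_surjective _ σ.rangeRestrict_surjective).trans (card_le_card_group L)
    have : Nontrivial (orbit L Y) := Finite.one_lt_card_iff_nontrivial.1 (by omega)
    have h5 := two_mul_nat_card_alternatingGroup (α := orbit L Y)
    rw [Nat.card_perm, hcard, show Nat.factorial 7 = 5040 from rfl] at h5
    omega
  have h2 : σ ⟨s, hsL⟩ = 1 := by
    have h3 := Equiv.Perm.card_support_ne_one (σ ⟨s, hsL⟩)
    have h4 : (σ ⟨s, hsL⟩).support.card ≠ 2 := fun h5 => hlt (by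
      rw [Equiv.Perm.subgroup_eq_top_of_isPreprimitive_of_isSwap_mem hprim _ (Equiv.Perm.card_support_eq_two.1 h5)
        ⟨_, rfl⟩]
      exact le_top)
    have h5 : (σ ⟨s, hsL⟩).support.card ≠ 3 := fun h6 => hlt
      (Equiv.Perm.alternatingGroup_le_of_isPreprimitive_of_isThreeCycle_mem hprim
        (card_support_eq_three_iff.1 h6) ⟨_, rfl⟩)
    exact Equiv.Perm.card_support_eq_zero.1 (by omega)
  by_contra hs1
  obtain ⟨z, hz, h3⟩ := exists_conj_not_mem (as_inn hK) (S := stabilizer (MulAut K) Y) (fun h4 => by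
    have hN : Y.Normal := ⟨fun y hy g => by
      have h5 := smul_mem_pointwise_smul y (MulAut.conj g) Y hy
      rwa [show MulAut.conj g • Y = Y from h4 ⟨g, rfl⟩] at h5⟩
    exact hN.eq_bot_or_eq_top.elim h0 h1) hs1
  apply h3
  have h4 := congrArg Subtype.val (DFunLike.congr_fun h2 ⟨z • Y, ⟨z, mem_sup_left hz⟩, rfl⟩)
  rw [mem_stabilizer_iff, mul_smul, mul_smul, inv_smul_eq_iff]
  exact h4

end Cfsg.Agent.SB.R1
end

-- part: SB/R1/L2
section
/-!
# S5765: the groups `PSL₂(q)` (helper61)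
-/

set_option autoImplicit false
set_option linter.unusedSectionVars false

namespace Cfsg.Agent.SB.R1

open Subgroup MulAction Cfsg Cfsg.Agent.H786.FC Cfsg.Agent.ClassicalGeometry Cfsg.Agent.ClassicalGeometry.KleinCount

/-- `PSL₂(F)` -/
abbrev PL (F : Type) [Field F] : Type := Matrix.ProjectiveSpecialLinearGroup (Fin 2) F

theorem sq_le_two_pow (n : ℕ) : n ^ 2 ≤ 2 ^ n + 1 := by
  rcases Nat.lt_or_ge n 4 with h | h
  · interval_cases n <;> norm_num
  · refine le_trans ?_ (Nat.le_succ _)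
    induction n, h using Nat.le_induction with
    | base => norm_num
    | succ k hk ih => rw [pow_succ 2 k]; nlinarith

theorem eight_mul_le (n : ℕ) (h : 3 ≤ n) : 8 * n ≤ 3 ^ n := by
  induction n, h using Nat.le_induction with
  | base => norm_num
  | succ k hk ih => rw [pow_succ 3 k]; omega

theorem dihedral_out {m : ℕ} (h3 : 3 ≤ m) {t : DihedralGroup m} (ht : orderOf t = m) (g : DihedralGroup m) :
    g ∈ zpowers t ∨ g * g = 1 := by
  have : NeZero m := ⟨by omega⟩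
  rcases g with i | i
  · left
    rcases t with j | j
    · have h1 : zpowers (DihedralGroup.r j) ≤ zpowers (DihedralGroup.r (1 : ZMod m)) :=
        zpowers_le.2 ⟨(j.val : ℕ), by simp⟩
      have h2 := eq_of_le_of_card_ge h1 (by rw [Nat.card_zpowers, Nat.card_zpowers, ht, DihedralGroup.orderOf_r_one])
      rw [h2]
      exact ⟨(i.val : ℕ), by simp⟩
    · rw [DihedralGroup.orderOf_sr] at ht
      omega
  · exact Or.inr (DihedralGroup.sr_mul_self i)

theorem index_centralizer_ne_one {K : Type*} [Group K] [IsSimpleGroup K] (hK : ¬ IsMulCommutative K) {g : K}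
    (hg : g ≠ 1) : (centralizer ({g} : Set K)).index ≠ 1 := by
  intro h
  rw [index_eq_one] at h
  refine hg (conj_injective hK ?_)
  ext x
  have h1 := mem_centralizer_singleton_iff.1 (h ▸ mem_top x : x ∈ centralizer ({g} : Set K))
  rw [map_one, MulAut.conj_apply, ← h1, mul_inv_cancel_right, MulAut.one_apply]

theorem fixS_conj {K : Type*} [Group K] (g : K) : fixS (MulAut.conj g) = centralizer ({g} : Set K) := by
  ext x
  rw [mem_fixS, mem_centralizer_singleton_iff, MulAut.conj_apply, mul_inv_eq_iff_eq_mul, eq_comm]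

section facts

variable {F : Type} [Field F] [Fintype F]

/-- four-groups are self-centralizing -/
theorem four_cent (h2 : (2 : F) ≠ 0) {a b : PL F} (V : CommInv a b) (g : PL F) (ha : g * a = a * g)
    (hb : g * b = b * g) : g ∈ V.four := by
  obtain ⟨A, rfl⟩ := QuotientGroup.mk_surjective a
  obtain ⟨B, rfl⟩ := QuotientGroup.mk_surjective b
  obtain ⟨G, rfl⟩ := QuotientGroup.mk_surjective g
  have hp := (PSL2Klein.commInv_iff h2).1 V
  have key : ∀ X : Matrix.SpecialLinearGroup (Fin 2) F, X.1 * A.1 = A.1 * X.1 → X.1 * B.1 = B.1 * X.1 →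
      PSL2Klein.mk X = 1 := fun X h1 h3 => by
    obtain ⟨c, hc⟩ := hp.commutant h2 h1 h3
    refine (QuotientGroup.eq_one_iff X).2 (mem_center_iff.2 fun Y => Subtype.ext ?_)
    change Y.1 * X.1 = X.1 * Y.1
    rw [hc]
    simp only [_root_.Algebra.mul_smul_comm, _root_.mul_one, _root_.Algebra.smul_mul_assoc, _root_.one_mul]
  have sgn : ∀ X Y : Matrix.SpecialLinearGroup (Fin 2) F, PSL2Klein.mk X * PSL2Klein.mk Y =
      PSL2Klein.mk Y * PSL2Klein.mk X → X.1 * Y.1 = Y.1 * X.1 ∨ X.1 * Y.1 = -(Y.1 * X.1) := fun X Y h => by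
    rcases PSL2Klein.mk_eq_mk.1 (show PSL2Klein.mk (X * Y) = PSL2Klein.mk (Y * X) from h) with h1 | h1
    · exact Or.inl (congrArg Subtype.val h1)
    · exact Or.inr (congrArg Subtype.val h1)
  have fin : ∀ v ∈ V.four, PSL2Klein.mk G * v = 1 → PSL2Klein.mk G ∈ V.four := fun v hv h => by
    rw [eq_inv_of_mul_eq_one_left (h :)]
    exact inv_mem hv
  have hab := hp.anti
  have hba := hp.anti'
  rcases sgn G A ha with h1 | h1 <;> rcases sgn G B hb with h3 | h3
  · rw [show (QuotientGroup.mk G : PL F) = 1 from key G h1 h3]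
    exact one_mem _
  · refine fin (PSL2Klein.mk A) (V.mem_four.2 (by simp only [_root_.QuotientGroup.eq_one_iff, _root_.left_eq_mul, _root_.true_or, _root_.or_true])) (key (G * A) ?_ ?_)
    · change G.1 * A.1 * A.1 = A.1 * (G.1 * A.1)
      rw [h1, mul_assoc, h1]
    · change G.1 * A.1 * B.1 = B.1 * (G.1 * A.1)
      rw [mul_assoc, hab, mul_neg, ← mul_assoc, h3, neg_mul, neg_neg, mul_assoc]
  · refine fin (PSL2Klein.mk B) (V.mem_four.2 (by simp)) (key (G * B) ?_ ?_)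
    · change G.1 * B.1 * A.1 = A.1 * (G.1 * B.1)
      rw [mul_assoc, hba, mul_neg, ← mul_assoc, h1, neg_mul, neg_neg, mul_assoc]
    · change G.1 * B.1 * B.1 = B.1 * (G.1 * B.1)
      rw [h3, mul_assoc, h3]
  · refine fin (PSL2Klein.mk A * PSL2Klein.mk B) (V.mem_four.2 (by simp only [_root_.mul_eq_left, _root_.QuotientGroup.eq_one_iff, _root_.mul_eq_right, _root_.or_true])) (key (G * (A * B)) ?_ ?_)
    · change G.1 * (A.1 * B.1) * A.1 = A.1 * (G.1 * (A.1 * B.1))
      rw [mul_assoc, mul_assoc, hba, mul_neg, mul_neg, ← mul_assoc, h1, neg_mul, neg_neg, mul_assoc]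
    · change G.1 * (A.1 * B.1) * B.1 = B.1 * (G.1 * (A.1 * B.1))
      have e : A.1 * B.1 * B.1 = -(B.1 * (A.1 * B.1)) := by rw [← mul_assoc, hba, neg_mul, neg_neg]
      rw [mul_assoc, e, mul_neg, ← mul_assoc, h3, neg_mul, neg_neg, mul_assoc]

variable {p n q d m h : ℕ} [Fact p.Prime] [CharP F p]

/-- the parameters -/
structure Par (F : Type) [Field F] [Fintype F] (p n q d m h : ℕ) : Prop where
  card : Fintype.card F = q
  pow : q = p ^ n
  big : 7 ≤ q
  gcd : Nat.gcd 2 (q - 1) = d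
  hm : d * m = q + 1
  hh : d * h + 1 = q
  cases : (d = 1 ∧ p = 2) ∨ (d = 2 ∧ p ≠ 2)

namespace Par

variable (P : Par F p n q d m h)
include P

theorem d_pos : 0 < d := by rcases P.cases with h | h <;> omega

theorem em : (q + 1) / Nat.gcd 2 (q - 1) = m := by rw [P.gcd, ← P.hm, Nat.mul_div_cancel_left _ P.d_pos]

theorem eh : (q - 1) / Nat.gcd 2 (q - 1) = h := by
  rw [P.gcd, ← P.hh, Nat.add_sub_cancel, Nat.mul_div_cancel_left _ P.d_pos]

theorem n_ne : n ≠ 0 := by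
  rintro rfl
  have h1 := P.pow
  have h2 := P.big
  rw [pow_zero] at h1
  omega

theorem dvd : p ∣ q := P.pow ▸ dvd_pow_self p P.n_ne

theorem not_dvd_m : ¬ p ∣ m := fun h1 =>
  (Fact.out : p.Prime).one_lt.ne' (Nat.dvd_one.1 ((Nat.dvd_add_right P.dvd).1 (P.hm ▸ h1.mul_left d)))

theorem not_dvd_h : ¬ p ∣ h := fun h1 =>
  (Fact.out : p.Prime).one_lt.ne' (Nat.dvd_one.1 ((Nat.dvd_add_right (h1.mul_left d)).1 (P.hh ▸ P.dvd)))

theorem simple : IsSimpleGroup (PL F) :=
  Matrix.ProjectiveSpecialLinearGroup.rank_two_simple (by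
    rw [Nat.card_eq_fintype_card, P.card]
    have := P.big
    omega)

theorem noncomm : ¬ IsMulCommutative (PL F) := fun h =>
  PSL2Solvable.not_isSolvable_psl F (by rw [P.card]; have := P.big; omega)
    (Group.isSolvable_of_comm h.is_comm.comm)

theorem sq_sub : q ^ 2 - 1 = (q + 1) * h * d := by
  rw [← P.hh]
  apply Nat.sub_eq_of_eq_add
  ring

theorem ord : Nat.card (PL F) = q * ((q + 1) * h) := by
  have h1 := PSL2Basic.card_PSL2_gcd F
  rw [P.card, P.gcd, P.sq_sub, ← mul_assoc] at h1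
  exact Nat.eq_of_mul_eq_mul_right P.d_pos h1

theorem ti : TI p (PL F) q h n := by
  have := H452.FprPsl2.pfin (F := F)
  have := P.simple
  have hti : ∀ R R' : Sylow p (PL F), R ≠ R' → (R : Subgroup (PL F)) ⊓ R' = ⊥ := fun R R' hne => by
    rw [eq_bot_iff]
    intro x hx
    by_contra h1
    exact hne (PSL2ElemOrder.sylow_eq_of_mem p R R' x h1 hx.1 hx.2)
  obtain ⟨a1, a2, a3⟩ := H452.FprRee.rank_one_data hti P.pow P.n_ne P.ord P.not_dvd_h (by
    have h1 := P.hh
    have h2 := Nat.le_mul_of_pos_left h P.d_pos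
    omega)
  exact ⟨hti, P.pow, a1, a2, a3, P.ord⟩

theorem fpf : Fpf p (PL F) := by
  intro t ht htp R u hu htu
  have hp : p.Prime := Fact.out
  by_contra hu1
  obtain ⟨k, hk⟩ := IsPGroup.iff_orderOf.1 R.isPGroup' ⟨u, hu⟩
  rw [orderOf_mk] at hk
  have hk0 : k ≠ 0 := by
    rintro rfl
    exact hu1 (orderOf_eq_one_iff.1 hk)
  have h1 : orderOf (t * u) = orderOf t * p ^ k := by
    rw [← hk]
    exact Commute.orderOf_mul_eq_mul_orderOf_of_coprime htu
      (hk ▸ Nat.Coprime.pow_right _ ((Nat.coprime_primes ht hp).2 htp))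
  have h2 : orderOf (t * u) ∈ Set.range (orderOf : PL F → ℕ) := ⟨_, rfl⟩
  rw [S2475.result p (by rw [P.card]; have := P.big; omega), P.card, P.em, P.eh, h1] at h2
  have h3 : p ∣ orderOf t * p ^ k := (dvd_pow_self p hk0).mul_left _
  rcases h2 with h2 | h2 | h2
  · exact htp ((Nat.prime_dvd_prime_iff_eq ht hp).1 ((dvd_mul_right _ _).trans h2))
  · exact P.not_dvd_h (h3.trans h2)
  · exact P.not_dvd_m (h3.trans h2)

theorem aut : Nat.card (MulAut (PL F)) = d * n * Nat.card (PL F) := by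
  have h1 := S0813.result (F := F) p n (Nat.pos_of_ne_zero P.n_ne) (P.card.trans P.pow) 2 le_rfl
    fun _ => by rw [← P.pow]; have := P.big; omega
  rw [h1, PSL2Basic.card_PGL2, P.card, P.sq_sub, P.ord]
  simp only [if_true]
  ring

theorem out : Nat.card (Out (PL F)) = d * n := by
  have := H452.FprPsl2.pfin (F := F)
  have := P.simple
  have h1 := (InnG (PL F)).index_mul_card
  rw [card_inn P.noncomm, P.aut] at h1
  exact Nat.eq_of_mul_eq_mul_right Nat.card_pos h1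

theorem three_le : 3 ≤ h ∧ h < m := by
  have h1 := P.hm
  have h2 := P.hh
  have h3 := P.big
  rcases P.cases with ⟨rfl, -⟩ | ⟨rfl, -⟩ <;> omega

theorem tor : ∃ (t : PL F) (D : Subgroup (PL F)), Tor t D m := by
  have := H452.FprPsl2.pfin (F := F)
  obtain ⟨C, D, h1, -, h2, h3, ⟨e⟩, h4⟩ := PSLTorus.exists_psl_torus F
  rw [P.card, P.em] at h3 e
  obtain ⟨t, ht⟩ := (Subgroup.isCyclic_iff_exists_zpowers_eq_top C).1 h2
  subst ht
  have h5 := P.three_le
  rw [Nat.card_zpowers] at h3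
  have hD : Nat.card D = 2 * m := by rw [Nat.card_congr e.toEquiv, DihedralGroup.nat_card]
  refine ⟨t, D, h3, h1 (mem_zpowers t), hD.le, fun g hg => ?_, h4, fun h6 => ?_⟩
  · rcases dihedral_out (by omega) (t := e ⟨t, h1 (mem_zpowers t)⟩) (by rw [e.orderOf_eq, orderOf_mk, h3])
      (e ⟨g, hg⟩) with ⟨i, hi⟩ | h6
    · exact Or.inl ⟨i, congrArg Subtype.val (e.injective ((map_zpow e _ i).trans hi))⟩
    · exact Or.inr (congrArg Subtype.val (e.injective ((map_mul e _ _).trans (h6.trans (map_one e).symm))))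
  · rw [h6, card_top, P.ord] at hD
    have h7 := P.big
    have h8 : m ≤ q + 1 := P.hm ▸ Nat.le_mul_of_pos_left m P.d_pos
    have h9 : 7 * (m * 1) ≤ q * ((q + 1) * h) := Nat.mul_le_mul h7 (Nat.mul_le_mul h8 (by omega))
    omega

theorem odd (hp : p ≠ 2) : Odd q := P.pow ▸ ((Fact.out : p.Prime).odd_of_ne_two hp).pow

theorem cyc {r : ℕ} (hr : r.Prime) (h2 : r ≠ 2) (hp : r ≠ p) (R : Sylow r (PL F)) : IsCyclic R :=
  haveI : Fact r.Prime := ⟨hr⟩
  H452.FprPsl2.psl_cyclic h2 (fun h1 => hp ((Nat.prime_dvd_prime_iff_eq hr Fact.out).1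
    (hr.dvd_of_dvd_pow (P.pow ▸ P.card ▸ h1)))) R

theorem conj {x y : PL F} (hy : (orderOf y).Prime) (hp : orderOf y ≠ p) (hx : orderOf x = orderOf y) :
    ∃ g : PL F, y ∈ zpowers (MulAut.conj g x) := by
  have := H452.FprPsl2.pfin (F := F)
  by_cases h2 : orderOf y = 2
  · obtain ⟨A, hA⟩ : ∃ A : Subgroup (Matrix.SpecialLinearGroup (Fin 2) F), Nat.card A = 4 := by
      have : Fact (Nat.Prime 2) := ⟨Nat.prime_two⟩
      refine Sylow.exists_subgroup_card_pow_prime 2 (n := 2) ?_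
      rw [PSL2Basic.card_SL2, P.card]
      obtain ⟨k, hk⟩ := P.odd (h2 ▸ hp.symm)
      refine Dvd.dvd.mul_left ⟨k ^ 2 + k, ?_⟩ _
      rw [hk]
      apply Nat.sub_eq_of_eq_add
      ring
    obtain ⟨g, hg⟩ := isConj_iff.1 ((S0809.result P.card (P.odd (h2 ▸ hp.symm)) A hA).2.2.2 x y (hx.trans h2) h2)
    exact ⟨g, hg ▸ mem_zpowers _⟩
  · have : Fact (orderOf y).Prime := ⟨hy⟩
    obtain ⟨g, hg⟩ := H452.FprRank.exists_conj_zpowers (P.cyc hy h2 hp) hx rfl
    rw [MonoidHom.map_zpowers] at hg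
    exact ⟨g, hg ▸ mem_zpowers y⟩

theorem mul_le {k : ℕ} (hk : k < n) : p * p ^ k ≤ q := by
  rw [← pow_succ', P.pow]
  exact Nat.pow_le_pow_right (Fact.out : p.Prime).pos hk

theorem dvd_n {k : ℕ} (h0 : 1 ≤ k) (h1 : 1 + p ^ k ∣ (q + 1) * h) : k ∣ n := by
  refine dvd_of_one_add_pow_dvd (Fact.out : p.Prime).two_le h0 (h1.trans ?_)
  rw [mul_comm 2, pow_mul, ← P.pow, P.sq_sub]
  exact dvd_mul_right _ _

theorem sq_le {k : ℕ} (hk : k < n) (h1 : k = 0 ∨ 1 + p ^ k ∣ (q + 1) * h) : (p ^ k) ^ 2 ≤ q := by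
  rw [← pow_mul, P.pow]
  refine Nat.pow_le_pow_right (Fact.out : p.Prime).pos ?_
  rcases Nat.eq_zero_or_pos k with rfl | h0
  · omega
  obtain ⟨c, rfl⟩ := P.dvd_n h0 (h1.resolve_left h0.ne')
  refine Nat.mul_le_mul_left _ ?_
  by_contra h2
  have h3 : k * c ≤ k * 1 := Nat.mul_le_mul_left _ (by omega)
  omega

/-- `S` normalizes a subgroup of prime order `≠ p` -/
theorem good_cyc {S : Subgroup (MulAut (PL F))} (hS : Group.IsSolvable S) (hm : MaxInv (InnG (PL F)) S) {y : PL F}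
    (hy : (orderOf y).Prime) (hp : orderOf y ≠ p) (hSy : ∀ s ∈ S, s y ∈ zpowers y) : Good (InnG (PL F)) S := by
  have := H452.FprPsl2.pfin (F := F)
  have := P.simple
  have H := P.ti
  have hK := P.noncomm
  have : Fact (orderOf y).Prime := ⟨hy⟩
  have hy1 := ne_one_of_prime' hy
  have h7 := P.big
  have h3 := P.three_le
  have hp2 := (Fact.out : p.Prime).two_le
  rcases PSL2ElemOrder.orderOf_dvd P.card p y
    (fun h1 => hp ((Nat.prime_dvd_prime_iff_eq Fact.out hy).1 h1).symm) with h1 | h1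
  · rw [P.em] at h1
    obtain ⟨t, D, hT⟩ := P.tor
    obtain ⟨g, hg⟩ := P.conj (x := t ^ (orderOf t / orderOf y)) hy hp
      (orderOf_pow_orderOf_div ((orderOf_pos t).ne' :) (hT.ord ▸ h1))
    have e1 := P.hm
    have e2 := P.hh
    refine H.good_of_tor hK hS hm (hT.map (MulAut.conj g)) (zpowers_le.2 ?_ hg) hy1 hSy (by omega) ?_ ?_
      (fun k hk => ?_) ?_
    · rw [map_pow]
      exact pow_mem (mem_zpowers _) _
    · refine Nat.Coprime.mul_right ?_ ?_
      · refine Nat.Coprime.coprime_dvd_left (Dvd.intro_left d P.hm) ?_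
        simp
      · rcases P.cases with ⟨rfl, rfl⟩ | ⟨rfl, -⟩
        · rw [show m = h + 2 by omega, Nat.coprime_self_add_left]
          exact Nat.prime_two.coprime_iff_not_dvd.2 P.not_dvd_h
        · rw [show m = h + 1 by omega]
          simp
    · rcases P.cases with ⟨rfl, -⟩ | ⟨rfl, -⟩ <;> omega
    · have h4 := P.mul_le hk
      rcases P.cases with ⟨rfl, rfl⟩ | ⟨rfl, h5⟩
      · omega
      · have h6 : 3 * p ^ k ≤ p * p ^ k := Nat.mul_le_mul_right _ (by omega)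
        omega
    · rw [P.ord]
      have h8 : m ≤ q + 1 := P.hm ▸ Nat.le_mul_of_pos_left m P.d_pos
      have h9 : 7 * (m * 2) ≤ q * ((q + 1) * h) := Nat.mul_le_mul h7 (Nat.mul_le_mul h8 (by omega))
      omega
  · rw [P.eh] at h1
    obtain ⟨R₀⟩ : Nonempty (Sylow p (PL F)) := inferInstance
    obtain ⟨R₁, hne⟩ := H.exists_ne R₀
    obtain ⟨x, hx⟩ := exists_prime_orderOf_dvd_card' (G := ↥(stabilizer (PL F) R₀ ⊓ stabilizer (PL F) R₁)) (orderOf y)
      (by rwa [H.card_two hne])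
    obtain ⟨g, hg⟩ := P.conj (x := x) hy hp (by rw [orderOf_coe, hx])
    have key : ∀ R : Sylow p (PL F), (x : PL F) • R = R → ∀ z ∈ zpowers y, z • g • R = g • R := fun R hR z hz => by
      refine (zpowers_le.2 (zpowers_le.2 (show _ ∈ stabilizer (PL F) (g • R) from ?_) hg)) hz
      rw [mem_stabilizer_iff, MulAut.conj_apply, mul_smul, mul_smul, inv_smul_smul, hR]
    have hne' : g • R₁ ≠ g • R₀ := fun h2 => hne (smul_left_cancel g h2)
    refine good_of_four hK (H.four_of_pair hK hne' (fun s hs R hR => ?_) (a := q.sqrt)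
      (fun k hk h2 => Nat.le_sqrt'.2 (P.sq_le hk h2)) P.out.le ?_ (by omega)) ?_
    · refine H.fix_le_two P.fpf hne' (t := s y) (fun h2 => hy1 (s.injective (h2.trans (map_one s).symm)))
        (key _ x.2.1 _ (hSy s hs)) (key _ x.2.2 _ (hSy s hs)) ?_
      rw [← smul_smul_sylow]
      rcases hR with rfl | rfl
      · rw [key _ x.2.1 _ (mem_zpowers y)]
      · rw [key _ x.2.2 _ (mem_zpowers y)]
    · refine lt_of_pow_lt_pow_left₀ 2 (Nat.zero_le _) ?_
      have h4 : n ^ 2 ≤ q + 1 := (sq_le_two_pow n).trans (by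
        rw [P.pow]
        exact Nat.succ_le_succ (Nat.pow_le_pow_left hp2 n))
      have h5 : (q.sqrt ^ 2) ^ 3 ≤ q ^ 3 := Nat.pow_le_pow_left (Nat.sqrt_le' q) 3
      obtain ⟨c, hc⟩ : ∃ c, c = d * h := ⟨_, rfl⟩
      have h6 := P.hh
      rw [← hc] at h6
      calc (d * n * h * q.sqrt ^ 3) ^ 2 = n ^ 2 * c ^ 2 * (q.sqrt ^ 2) ^ 3 := by rw [hc]; ring
        _ ≤ (q + 1) * c ^ 2 * q ^ 3 := Nat.mul_le_mul (Nat.mul_le_mul_right _ h4) h5
        _ < q ^ 3 * q ^ 3 := Nat.mul_lt_mul_of_pos_right (by rw [← h6]; linarith only [_root_.sq_nonneg (↑c : ℤ)]) (by positivity)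
        _ = _ := by ring
    · have h4 := (card_le_of_le (innS_le_norm fun s hs z hz => apply_mem_zpowers (hSy s hs) hz)).trans
        (H.card_norm_le P.fpf hne' hy1 (key _ x.2.1 _ (mem_zpowers y)) (key _ x.2.2 _ (mem_zpowers y)))
      rw [P.ord]
      have h9 : 7 * (2 * h) ≤ q * ((q + 1) * h) := Nat.mul_le_mul h7 (Nat.mul_le_mul_right _ (by omega))
      omega

/-- centralizers of automorphisms, `q` odd -/
theorem fix_cases (hp : p ≠ 2) {α : MulAut (PL F)} (hα : α ≠ 1) :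
    Nat.card (fixS α) ≤ q + 1 ∨ Nat.card (fixS α) = 12 ∨ Nat.card (fixS α) = 24 ∨ Nat.card (fixS α) = 60 ∨
    ∃ k : ℕ, 1 ≤ k ∧ k < n ∧ (p ^ k) ^ 2 ≤ q ∧ Nat.card (fixS α) ≤ (1 + p ^ k) * (p ^ k * (p ^ k - 1)) := by
  have := H452.FprPsl2.pfin (F := F)
  have := P.simple
  have H := P.ti
  have hpp : p.Prime := Fact.out
  have h3 := P.three_le
  have e1 := P.hm
  obtain rfl : d = 2 := (P.cases.resolve_left fun h1 => hp h1.2).1
  rcases H.fix_cases_fpf P.fpf P.noncomm hα with h1 | h1 | ⟨k, h1, h2, h4, h5⟩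
  · rcases S0799.result P.card p (fixS α) with ⟨k, h2, h4⟩ | ⟨R, B, h2, ⟨e⟩⟩ | ⟨⟨e⟩⟩ | ⟨⟨e⟩⟩ | ⟨⟨e⟩⟩ |
      ⟨K, iK, iK', j, h2, h4⟩
    · left
      rw [P.em, P.eh] at h2
      have h5 : k ≤ m := h2.elim (Nat.le_of_dvd (by omega)) fun h6 => (Nat.le_of_dvd (by omega) h6).trans h3.2.le
      rcases h4 with ⟨-, h4⟩ | ⟨⟨e⟩⟩
      · exact h4.le.trans (by omega)
      · rw [Nat.card_congr e.toEquiv, DihedralGroup.nat_card]
        omega
    · left
      have h4 : Nat.card (fixS α) ∣ q * h := by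
        rw [Nat.card_congr e.toEquiv, ← H.card_stab R]
        exact card_dvd_of_le fun x hx => Sylow.smul_eq_iff_mem_normalizer.2 (h2 hx)
      have h5 : Nat.card (fixS α) ∣ h := Nat.Coprime.dvd_of_dvd_mul_left
        (P.pow ▸ Nat.Coprime.pow_right _ (hpp.coprime_iff_not_dvd.2 h1).symm) h4
      have := Nat.le_of_dvd (by omega) h5
      omega
    · right; left
      rw [Nat.card_congr e.toEquiv, nat_card_alternatingGroup]
      simp [Nat.factorial]
    · right; right; left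
      rw [Nat.card_congr e.toEquiv, Nat.card_perm]
      simp [Nat.factorial]
    · right; right; right; left
      rw [Nat.card_congr e.toEquiv, nat_card_alternatingGroup]
      simp [Nat.factorial]
    · exfalso
      have h5 : p ∣ Fintype.card K := hpp.dvd_of_dvd_pow (h2 ▸ P.dvd)
      apply h1
      rcases h4 with ⟨⟨e⟩⟩ | ⟨⟨e⟩⟩
      · rw [Nat.card_congr e.toEquiv]
        have h6 := h5.mul_right (Fintype.card K ^ 2 - 1)
        rw [← PSL2Basic.card_PSL2_gcd] at h6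
        exact (hpp.dvd_mul.1 h6).resolve_right fun h7 =>
          hp ((Nat.prime_dvd_prime_iff_eq hpp Nat.prime_two).1 (h7.trans (Nat.gcd_dvd_left _ _)))
      · rw [Nat.card_congr e.toEquiv, PSL2Basic.card_PGL2]
        exact h5.mul_right _
  · exact Or.inl (by omega)
  · exact Or.inr (Or.inr (Or.inr (Or.inr ⟨k, h1, h2, P.sq_le h2 (Or.inr h4), h5⟩)))

end Par

end facts

end Cfsg.Agent.SB.R1
end

-- part: SB/R1/L2M
section
/-!
# S5765: the row of `PSL₂(q)` (helper61)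
-/

set_option autoImplicit false
set_option linter.unusedSectionVars false

namespace Cfsg.Agent.SB.R1

open Subgroup MulAction Cfsg Cfsg.Agent.H786.FC Cfsg.Agent.ClassicalGeometry Cfsg.Agent.ClassicalGeometry.KleinCount

variable {F : Type} [Field F] [Fintype F] {p n q d m h : ℕ} [Fact p.Prime] [CharP F p]

namespace Par

variable (P : Par F p n q d m h)
include P

/-- the class sizes -/
theorem idx (hp : p ≠ 2) {g : PL F} (hg : g ≠ 1) :
    ∃ i, Nat.card (centralizer ({g} : Set (PL F))) * i = q * ((q + 1) * h) ∧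
      (i = (q ^ 2 - 1) / 2 ∨ (q % 4 = 1 ∧ i = q * (q + 1) / 2) ∨ (q % 4 = 3 ∧ i = q * (q - 1) / 2) ∨
        i = q * (q - 1) ∨ i = q * (q + 1)) := by
  have := P.simple
  have h1 := index_centralizer_ne_one P.noncomm hg
  obtain ⟨k, hk⟩ := P.odd hp
  have h2 := S2508.result (F := F) (by rw [P.card]; omega) (by rw [P.card]; exact P.big)
  rw [P.card] at h2
  refine ⟨_, (card_mul_index _).trans P.ord, ?_⟩
  have h3 : (centralizer ({g} : Set (PL F))).index ∈
      Set.range fun g : PL F => (centralizer ({g} : Set (PL F))).index := ⟨g, rfl⟩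
  rcases (by omega : q % 4 = 1 ∨ q % 4 = 3) with h4 | h4
  · rw [h2.1 h4] at h3
    simp only [Set.mem_insert_iff, Set.mem_singleton_iff] at h3
    (clear * - h1 h4 h3; itauto)
  · rw [h2.2 h4] at h3
    simp only [Set.mem_insert_iff, Set.mem_singleton_iff] at h3
    (clear * - h1 h4 h3; itauto)

theorem prime_case (hq : q.Prime) : p = q ∧ n = 1 := hq.pow_eq_iff.1 P.pow.symm

/-- `q` prime -/
theorem fix_prime (hp : p ≠ 2) (hq : q.Prime) {α : MulAut (PL F)} (hα : α ≠ 1) :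
    Nat.card (fixS α) ∣ q * ((q + 1) * h) ∧
    (Nat.card (fixS α) ≤ q + 1 ∨ Nat.card (fixS α) = 12 ∨ Nat.card (fixS α) = 24 ∨ Nat.card (fixS α) = 60) := by
  refine ⟨P.ord ▸ card_subgroup_dvd_card _, ?_⟩
  rcases P.fix_cases hp hα with h1 | h1 | h1 | h1 | ⟨k, h1, h2, -⟩
  · exact Or.inl h1
  · exact Or.inr (Or.inl h1)
  · exact Or.inr (Or.inr (Or.inl h1))
  · exact Or.inr (Or.inr (Or.inr h1))
  · have := (P.prime_case hq).2
    omega

theorem fix_odd (hq : q.Prime) {α : MulAut (PL F)} (hα : α ≠ 1) {l : ℕ} (hl : l.Prime) (hlq : l ≠ q)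
    (hd : ¬ l ∣ q + 1) (h1 : l ∣ Nat.card (fixS α))
    (h2 : ∀ t : PL F, t ≠ 1 → l ∣ Nat.card (centralizer ({t} : Set (PL F))) →
      Odd (Nat.card (centralizer ({t} : Set (PL F))))) : Nat.card (fixS α) ≤ 2 * h := by
  have := H452.FprPsl2.pfin (F := F)
  have := P.simple
  have : Fact l.Prime := ⟨hl⟩
  obtain ⟨e1, e2⟩ := P.prime_case hq
  obtain ⟨t, ht⟩ := exists_prime_orderOf_dvd_card' l h1
  have ht' : orderOf (t : PL F) = l := by rw [orderOf_coe, ht]
  refine P.ti.fix_le_of_odd P.fpf P.noncomm e1.symm e2 hα t.2 (ht' ▸ hl) (by rw [ht', e1]; exact hlq) (ht' ▸ hd)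
    (h2 t (ne_one_of_prime' (ht' ▸ hl)) ?_)
  exact ht' ▸ orderOf_dvd_natCard _ (mem_centralizer_singleton_iff.2 rfl)

/-- `S` normalizes a four-group -/
theorem good_four (hp : p ≠ 2) (h9 : q ≠ 9) {S : Subgroup (MulAut (PL F))} (hm : MaxInv (InnG (PL F)) S)
    {a b : PL F} (V : CommInv a b) (hS : ∀ s ∈ S, ∀ y ∈ V.four, s y ∈ V.four) : Good (InnG (PL F)) S := by
  have := H452.FprPsl2.pfin (F := F)
  have := P.simple
  have hK := P.noncomm
  have hpp : p.Prime := Fact.out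
  have h2 : (2 : F) ≠ 0 := fun h1 => hp ((Nat.prime_dvd_prime_iff_eq hpp Nat.prime_two).1
    ((CharP.cast_eq_zero_iff F p 2).1 (by exact_mod_cast h1)))
  have hC := four_cent h2 V
  have hR := card_innS_le V hC hK hS
  have hord := P.ord
  have hout := P.out
  have e1 := P.hm
  have e2 := P.hh
  have h7 := P.big
  have hn := P.n_ne
  obtain rfl : d = 2 := (P.cases.resolve_left fun h1 => hp h1.2).1
  have hV : Nat.card V.four = 4 := V.isKleinFour_four.card_four
  have hV0 : V.four ≠ ⊥ := fun h1 => by rw [h1, card_bot] at hV; omega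
  have hV1 : V.four ≠ ⊤ := fun h1 => by
    rw [h1, card_top, hord] at hV
    have h3 : 7 * (1 * 1) ≤ q * ((q + 1) * h) := Nat.mul_le_mul h7 (Nat.mul_le_mul (by omega) (by omega))
    omega
  have hN : innS S = normalizer (V.four : Set (PL F)) := le_antisymm (innS_le_norm hS) (norm_le_innS hK hm hV0 hV1 hS)
  have hR4 : 4 ∣ Nat.card (innS S) := by
    rw [← hV, hN]
    exact card_dvd_of_le le_normalizer
  have hRK : Nat.card (innS S) ∣ q * ((q + 1) * h) := hord ▸ card_subgroup_dvd_card _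
  have hp3 : 3 ≤ p := by have := hpp.two_le; omega
  have h3n : 3 ^ n ≤ q := P.pow ▸ Nat.pow_le_pow_left hp3 n
  have hfix := fun α : MulAut (PL F) => fun hα : (orderOf α).Prime => P.fix_cases hp (ne_one_of_prime' hα)
  rcases Nat.lt_or_ge q 49 with h49 | h49
  swap
  · have h8 : 8 * n ≤ q := by
      rcases Nat.lt_or_ge n 3 with h3 | h3
      · omega
      · exact (eight_mul_le n h3).trans h3n
    have hq3 : 49 * 49 * q ≤ q ^ 3 := by
      rw [pow_succ, pow_two]
      exact Nat.mul_le_mul_right _ (Nat.mul_le_mul h49 h49)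
    refine good_of_fix4 hK hR hout.le (M := 3 * q) (fun α _ hα => ?_) ?_ ?_
    · have h3 : Nat.card (fixS α) ^ 2 ≤ q ^ 3 := by
        have h4 : ∀ c : ℕ, c ≤ q + 11 → c ^ 2 ≤ q ^ 3 := fun c hc => by
          have h5 : c ^ 2 ≤ (2 * q) ^ 2 := Nat.pow_le_pow_left (by (clear * - h49 hc; omega)) 2
          have h6 : 4 * q ^ 2 ≤ q * q ^ 2 := Nat.mul_le_mul_right _ (by omega)
          calc c ^ 2 ≤ 4 * q ^ 2 := by rw [mul_pow] at h5; exact h5
            _ ≤ q * q ^ 2 := h6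
            _ = q ^ 3 := by ring
        rcases hfix α hα with h5 | h5 | h5 | h5 | ⟨k, -, -, h5, h6⟩
        · exact h4 _ (by omega)
        · exact h4 _ (by omega)
        · exact h4 _ (by omega)
        · exact h4 _ (by omega)
        · calc Nat.card (fixS α) ^ 2 ≤ ((p ^ k) ^ 3) ^ 2 := Nat.pow_le_pow_left (h6.trans (cube_bound _)) 2
            _ = ((p ^ k) ^ 2) ^ 3 := by ring
            _ ≤ _ := Nat.pow_le_pow_left h5 3
      rw [hord, mul_comm 3, mul_assoc]
      refine Nat.mul_le_mul_left _ (le_of_sq_le_sq₀ ?_)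
      have h4 : 7 * q ≤ 16 * h := by omega
      have h5 : (7 * q) ^ 2 ≤ (16 * h) ^ 2 := Nat.pow_le_pow_left h4 2
      have h6 : q ^ 2 ≤ (q + 1) ^ 2 := Nat.pow_le_pow_left (by omega) 2
      have h10 : 49 * q ^ 3 ≤ q * q ^ 3 := Nat.mul_le_mul_right _ h49
      refine Nat.le_of_mul_le_mul_left (c := 16 ^ 2) ?_ (by norm_num)
      calc 16 ^ 2 * (3 * Nat.card (fixS α)) ^ 2 = (16 ^ 2 * 9) * Nat.card (fixS α) ^ 2 := by ring
        _ ≤ (49 * 49) * q ^ 3 := Nat.mul_le_mul (by norm_num) h3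
        _ = 49 * (49 * q ^ 3) := by ring
        _ ≤ 49 * (q * q ^ 3) := Nat.mul_le_mul_left _ h10
        _ = q ^ 2 * (7 * q) ^ 2 := by ring
        _ ≤ (q + 1) ^ 2 * (16 * h) ^ 2 := Nat.mul_le_mul h6 h5
        _ = _ := by ring
    · calc 11 * (2 * n * 24 ^ 5) = (22 * 24 ^ 4 * 3) * (8 * n) := by ring
        _ ≤ (8 * 81 * (49 * 49 * 49)) * q := Nat.mul_le_mul (by norm_num) h8
        _ = (8 * 81 * q) * (49 * 49 * 49) := by ring
        _ ≤ (8 * 81 * q) * (49 * 49 * q) := Nat.mul_le_mul_left _ (Nat.mul_le_mul_left _ h49)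
        _ ≤ (8 * 81 * q) * q ^ 3 := Nat.mul_le_mul_left _ hq3
        _ = _ := by ring
    · rw [hord, ← mul_assoc, mul_comm _ q]
      exact Nat.mul_le_mul_left _ (le_trans (by norm_num) (Nat.mul_le_mul (show 6 ≤ q + 1 by omega) (show 1 ≤ h by omega)))
  have hn3 : n ≤ 3 := by
    by_contra h3
    have h4 : 3 ^ 4 ≤ 3 ^ n := Nat.pow_le_pow_right (by norm_num) (by omega)
    omega
  by_cases h25 : q = 25
  · subst h25
    obtain rfl : h = 12 := by omega
    have hn2 : n = 2 := by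
      have h3 : 5 ∣ p ^ n := P.pow ▸ (by norm_num)
      obtain rfl : 5 = p := (Nat.prime_dvd_prime_iff_eq (by norm_num) hpp).1 ((by norm_num : Nat.Prime 5).dvd_of_dvd_pow h3)
      exact Nat.pow_right_injective (by norm_num : 2 ≤ 5) (P.pow.symm.trans (by norm_num))
    subst hn2
    right
    refine seven_of_weight (16 / 65) (s := 96) (r := 24) (fun c hc hcp => ?_)
      ((card_le_out hK S).trans (by rw [hout]; omega)) (by rwa [card_innS hK]) (by rw [card_inn hK, hord]; norm_num)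
    by_cases hc2 : orderOf c = 2
    · have h3 : (meet (InnG (PL F)) S c : ℚ) ≤ 16 := by
        exact_mod_cast meet_le_sixteen V hC hK hS (by have := pow_orderOf_eq_one c; rwa [hc2, pow_two] at this)
      have h4 : (65 : ℚ) ≤ cls (InnG (PL F)) c := by
        have h5 : 65 ≤ cls (InnG (PL F)) c := le_cls hK (by
          rw [hord]
          rcases hfix c hcp with h5 | h5 | h5 | h5 | ⟨k, -, -, h5, h6⟩
          · omega
          · omega
          · omega
          · omega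
          · have h8 : p ^ k ≤ 5 := by nlinarith only [h5]
            have h10 : (1 + p ^ k) * (p ^ k * (p ^ k - 1)) ≤ 6 * (5 * 4) :=
              Nat.mul_le_mul (by omega) (Nat.mul_le_mul h8 (by omega))
            omega)
        exact_mod_cast h5
      linarith only [h3, h4]
    · have hn := innG_normal (PL F)
      have h3 : c ∈ InnG (PL F) := by
        have h4 : orderOf (QuotientGroup.mk c : MulAut (PL F) ⧸ InnG (PL F)) ∣ orderOf c := orderOf_map_dvd (QuotientGroup.mk' _) c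
        have h5 : orderOf (QuotientGroup.mk c : MulAut (PL F) ⧸ InnG (PL F)) ∣ 2 ^ 2 :=
          (_root_.orderOf_dvd_natCard _).trans (by rw [show Nat.card (MulAut (PL F) ⧸ InnG (PL F)) = 2 * 2 from hout]; norm_num)
        have h6 := Nat.eq_one_of_dvd_coprimes (((Nat.coprime_primes hcp Nat.prime_two).2 hc2).pow_right 2) h4 h5
        exact (QuotientGroup.eq_one_iff c).1 (orderOf_eq_one_iff.1 h6)
      obtain ⟨g, rfl⟩ := h3
      have h3 : (meet (InnG (PL F)) S (MulAut.conj g) : ℚ) ≤ 24 := by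
        exact_mod_cast (meet_le_inf hn hc).trans (by rwa [card_innS hK])
      have h4 : (312 : ℚ) ≤ cls (InnG (PL F)) (MulAut.conj g) := by
        have h5 : 312 ≤ cls (InnG (PL F)) (MulAut.conj g) := le_cls hK (by
          obtain ⟨i, h5, h6⟩ := P.idx hp (g := g) fun h5 => ne_one_of_prime' hcp (by rw [h5, map_one])
          rw [hord, fixS_conj, ← h5, mul_comm]
          exact Nat.mul_le_mul_left _ (by omega))
        exact_mod_cast h5
      linarith only [h3, h4]
  rcases Nat.lt_or_ge q 23 with h23 | h23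
  swap
  · refine good_of_fix4 hK hR (f := 6) (by omega) (M := 4 * q) (fun α _ hα => ?_) ?_ ?_
    · have h3 : Nat.card (fixS α) ≤ 60 := by
        rcases hfix α hα with h5 | h5 | h5 | h5 | ⟨k, h4, -, h5, h6⟩
        · omega
        · omega
        · omega
        · omega
        · have h8 : p ^ k ≤ 6 := by nlinarith only [h49, h5]
          have h10 : Odd (p ^ k) := (hpp.odd_of_ne_two hp).pow
          have h11 : p ^ k ≠ 5 := fun h12 => by
            obtain ⟨rfl, -⟩ := (by norm_num : Nat.Prime 5).pow_eq_iff.1 h12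
            have h13 := P.pow
            interval_cases n <;> (clear * - h23 h13 h25 h49; omega)
          have h12 : p ^ k ≤ 4 := by
            obtain ⟨j, hj⟩ := h10
            omega
          have h13 : (1 + p ^ k) * (p ^ k * (p ^ k - 1)) ≤ 5 * (4 * 3) :=
            Nat.mul_le_mul (by omega) (Nat.mul_le_mul h12 (by omega))
          omega
      rw [hord, mul_comm 4, mul_assoc]
      exact Nat.mul_le_mul_left _ ((show _ ≤ 24 * 11 by omega).trans (Nat.mul_le_mul (by omega) (by omega)))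
    · exact le_trans (by norm_num) (Nat.mul_le_mul_left _ (Nat.pow_le_pow_left (show 4 * 23 ≤ 4 * q by (clear * - h23; omega)) 4))
    · rw [hord, ← mul_assoc, mul_comm _ q]
      exact Nat.mul_le_mul_left _ (le_trans (by norm_num) (Nat.mul_le_mul (show 8 ≤ q + 1 by omega) (show 1 ≤ h by omega)))
  have hq : q.Prime := by
    have key : ∀ l : ℕ, l.Prime → l ∣ q → l = p := fun l hl h3 =>
      (Nat.prime_dvd_prime_iff_eq hl hpp).1 (hl.dvd_of_dvd_pow (P.pow ▸ h3))
    have h15 : q ≠ 15 := by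
      rintro rfl
      exact absurd ((key 3 (by norm_num) (by norm_num)).trans (key 5 (by norm_num) (by norm_num)).symm) (by norm_num)
    have h21 : q ≠ 21 := by
      rintro rfl
      exact absurd ((key 3 (by norm_num) (by norm_num)).trans (key 7 (by norm_num) (by norm_num)).symm) (by norm_num)
    rcases (by (clear * - h9 h7 e2 h23 h15 h21; (solve | lia | omega)) : q = 7 ∨ q = 11 ∨ q = 13 ∨ q = 17 ∨ q = 19) with rfl | rfl | rfl | rfl | rfl <;> norm_num
  obtain rfl := (P.prime_case hq).2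
  have hfp := fun α : MulAut (PL F) => fun hα : (orderOf α).Prime => P.fix_prime hp hq (ne_one_of_prime' hα)
  have hfo := fun α : MulAut (PL F) => fun hα : (orderOf α).Prime => @fix_odd _ _ _ _ _ _ _ _ _ _ _ P hq _ (ne_one_of_prime' hα)
  have hq' : q = 7 ∨ q = 11 ∨ q = 13 ∨ q = 17 ∨ q = 19 := by
    by_contra hcon
    rcases (by (clear * - h9 h7 e2 h23 hcon; (solve | lia | omega)) : q = 15 ∨ q = 21) with rfl | rfl <;> norm_num at hq
  rcases hq' with rfl | rfl | rfl | rfl | rfl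
  · obtain rfl : h = 3 := by omega
    have : Fact (Nat.Prime 2) := ⟨Nat.prime_two⟩
    have h8 : 2 ^ (2 + 1) ∣ Nat.card (innS S) := by
      rw [hN]
      exact Sylow.prime_pow_dvd_card_normalizer (by rw [hord]; norm_num) hV
    have h0 : 0 < Nat.card (innS S) := Nat.card_pos
    rcases (by (clear * - hR h8 h0; omega) : Nat.card (innS S) = 8 ∨ Nat.card (innS S) = 16 ∨ Nat.card (innS S) = 24) with h3 | h3 | h3
    · refine good_of_fix3 hK h3.le hout.le (M := 21) (fun α _ hα => ?_) (by norm_num) (by omega)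
      obtain ⟨h4, h5⟩ := hfp α hα
      have h6 := hfo α hα (l := 3) (by norm_num) (by norm_num) (by norm_num)
      have h10 : 3 ∣ Nat.card (fixS α) → Nat.card (fixS α) ≤ 2 * 3 := fun h11 => h6 h11 fun t ht h12 => by
        obtain ⟨i, h13, h14⟩ := P.idx hp ht
        rw [Nat.odd_iff]
        rcases h14 with rfl | ⟨h14, -⟩ | ⟨-, rfl⟩ | rfl | rfl <;> omega
      (clear * - hord h5 h10; omega)
    · rw [h3] at hRK
      norm_num at hRK
    · refine good_of_four hK (four_of_seven_points hK (by rw [P.aut, hord]; norm_num) hV0 hV1 hS ?_) (by omega)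
      have h4 := (normalizer (V.four : Set (PL F))).card_mul_index
      rw [← hN, h3, hord] at h4
      rw [← hN]
      omega
  · obtain rfl : h = 5 := by omega
    have h3 : Nat.card (innS S) ≠ 24 := fun h3 => by rw [h3] at hRK; norm_num at hRK
    refine good_of_fix4 hK (r := 20) (by omega) hout.le (M := 55) (fun α _ hα => ?_) (by norm_num) (by omega)
    obtain ⟨h4, h5⟩ := hfp α hα
    have h6 := hfo α hα (l := 5) (by norm_num) (by norm_num) (by norm_num)
    have h10 : 5 ∣ Nat.card (fixS α) → Nat.card (fixS α) ≤ 2 * 5 := fun h11 => h6 h11 fun t ht h12 => by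
      obtain ⟨i, h13, h14⟩ := P.idx hp ht
      rw [Nat.odd_iff]
      rcases h14 with rfl | ⟨h14, -⟩ | ⟨-, rfl⟩ | rfl | rfl <;> omega
    have h11 : Nat.card (fixS α) ≠ 24 := fun h11 => by rw [h11] at h4; norm_num at h4
    (clear * - hord h5 h10 h11; omega)
  · obtain rfl : h = 6 := by omega
    refine good_of_fix4 hK hR hout.le (M := 78) (fun α _ hα => ?_) (by norm_num) (by omega)
    obtain ⟨h4, h5⟩ := hfp α hα
    have h10 : Nat.card (fixS α) ≠ 24 := fun h11 => by rw [h11] at h4; norm_num at h4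
    have h11 : Nat.card (fixS α) ≠ 60 := fun h11 => by rw [h11] at h4; norm_num at h4
    (clear * - hord h5 h10 h11; omega)
  · obtain rfl : h = 8 := by omega
    refine good_of_fix4 hK hR hout.le (M := 102) (fun α _ hα => ?_) (by norm_num) (by omega)
    obtain ⟨h4, h5⟩ := hfp α hα
    have h11 : Nat.card (fixS α) ≠ 60 := fun h11 => by rw [h11] at h4; norm_num at h4
    omega
  · obtain rfl : h = 9 := by omega
    have h3 : Nat.card (innS S) ≠ 24 := fun h3 => by rw [h3] at hRK; norm_num at hRK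
    refine good_of_fix4 hK (r := 20) (by omega) hout.le (M := 57) (fun α _ hα => ?_) (by norm_num) (by omega)
    obtain ⟨h4, h5⟩ := hfp α hα
    omega
where
  le_of_sq_le_sq₀ {x y : ℕ} (h : x ^ 2 ≤ y ^ 2) : x ≤ y := (Nat.pow_le_pow_iff_left (by norm_num)).1 h

theorem row (h9 : q ≠ 9) : Row (PL F) := by
  have := H452.FprPsl2.pfin (F := F)
  have := P.simple
  have hK := P.noncomm
  have hpp : p.Prime := Fact.out
  intro S hS hm
  obtain ⟨Y, b1, -, b3, b4, ⟨r, hr, b5⟩, -⟩ := exists_minK hK hS hm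
  obtain ⟨⟨y, hy⟩, hy1⟩ := ne_bot_iff_exists_ne_one.1 b1
  have hy1' : y ≠ 1 := fun h1 => hy1 (Subtype.ext h1)
  have : Fact r.Prime := ⟨hr⟩
  have ho : orderOf y = r := orderOf_eq_prime (b5 y hy) hy1'
  by_cases hrp : r = p
  · subst hrp
    obtain ⟨P₀, -, hP⟩ := P.ti.fix_of_pgroup b1 (fun x => ⟨1, Subtype.ext (by rw [pow_one]; exact b5 x x.2)⟩) b3
    refine P.ti.good_borel P.fpf hK hm hP fun k hk => ?_
    have h1 := P.mul_le hk
    have h2 := P.hh
    have h3 : 0 < r ^ k := pow_pos hpp.pos k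
    rcases P.cases with ⟨rfl, rfl⟩ | ⟨rfl, h4⟩
    · omega
    · have h5 : 3 * r ^ k ≤ r * r ^ k := Nat.mul_le_mul_right _ (by have := hpp.two_le; omega)
      omega
  by_cases hr2 : r = 2
  swap
  · obtain ⟨-, hY⟩ := eq_zpowers_of_cyclic hr (P.cyc hr hr2 hrp) b5 hy hy1'
    exact P.good_cyc hS hm (ho ▸ hr) (ho ▸ hrp) fun s hs => hY ▸ b3 s hs y hy
  subst hr2
  by_cases hc : ∀ s ∈ S, s y = y
  · exact P.good_cyc hS hm (ho ▸ hr) (by rwa [ho]) fun s hs => (hc s hs).symm ▸ mem_zpowers y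
  push Not at hc
  obtain ⟨s, hs, hsy⟩ := hc
  have hb := b3 s hs y hy
  have V : CommInv y (s y) := ⟨hy1', fun h1 => hy1' (s.injective (h1.trans (map_one s).symm)), hsy.symm,
    by rw [← pow_two]; exact b5 _ hy, by rw [← pow_two]; exact b5 _ hb, b4 _ hy _ hb⟩
  have h2 : (2 : F) ≠ 0 := fun h1 => hrp ((Nat.prime_dvd_prime_iff_eq hpp Nat.prime_two).1
    ((CharP.cast_eq_zero_iff F p 2).1 (by exact_mod_cast h1))).symm
  have hY : Y = V.four := by
    refine le_antisymm (fun g hg => four_cent h2 V g (b4 _ hg _ hy) (b4 _ hg _ hb)) fun g hg => ?_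
    rcases V.mem_four.1 hg with rfl | rfl | rfl | rfl
    exacts [one_mem _, hy, hb, mul_mem hy hb]
  exact P.good_four (fun h1 => hrp h1.symm) h9 hm V (hY ▸ b3)

end Par

/-- **The row of `PSL₂(q)`, `q ≥ 4`.** -/
theorem row_psl2 (F : Type) [Field F] [Fintype F] (h4 : 4 ≤ Fintype.card F) : Row (PL F) := by
  obtain ⟨p, hchar⟩ := CharP.exists F
  have hp : Fact p.Prime := ⟨CharP.char_is_prime F p⟩
  obtain ⟨n, -, hn⟩ := FiniteField.card F p
  by_cases h5 : Fintype.card F = 4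
  · exact Alt.row_of_isAlternating ⟨5, le_rfl, S0252.result h5⟩
  by_cases h6 : Fintype.card F = 5
  · exact Alt.row_of_isAlternating ⟨5, le_rfl, S0253.result h6⟩
  by_cases h9 : Fintype.card F = 9
  · exact Alt.row_of_isAlternating ⟨6, by norm_num, S0254.result h9⟩
  have key : ∀ l : ℕ, l.Prime → l ∣ Fintype.card F → l = p := fun l hl h3 =>
    (Nat.prime_dvd_prime_iff_eq hl hp.out).1 (hl.dvd_of_dvd_pow (hn ▸ h3))
  have h7 : 7 ≤ Fintype.card F := by
    by_contra hcon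
    have h8 : Fintype.card F = 6 := by omega
    exact absurd ((key 2 (by norm_num) (by omega)).trans (key 3 (by norm_num) (by omega)).symm) (by norm_num)
  by_cases h2 : p = 2
  · have h8 : 2 ∣ Fintype.card F := hn ▸ h2 ▸ dvd_pow_self p n.ne_zero
    refine Par.row (p := p) (d := 1) (m := Fintype.card F + 1) (h := Fintype.card F - 1)
      ⟨rfl, hn, h7, ?_, by omega, by omega, Or.inl ⟨rfl, h2⟩⟩ h9
    exact (Nat.prime_two.coprime_iff_not_dvd).2 (by omega)
  · have h8 : ¬ 2 ∣ Fintype.card F := fun h8 => h2 (key 2 Nat.prime_two h8).symm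
    refine Par.row (p := p) (d := 2) (m := (Fintype.card F + 1) / 2) (h := (Fintype.card F - 1) / 2)
      ⟨rfl, hn, h7, ?_, by omega, by omega, Or.inr ⟨rfl, h2⟩⟩ h9
    exact Nat.gcd_eq_left (by omega)

end Cfsg.Agent.SB.R1
end

-- part: SB/R1/Ree
section
/-!
# S5765: the small Ree groups (helper61)
-/

set_option autoImplicit false

namespace Cfsg.Agent.SB.R1

open Subgroup MulAction Cfsg Cfsg.Lie Cfsg.Agent.H786.FC

theorem ne_one_of_prime {A : Type*} [Group A] {α : A} (h : (orderOf α).Prime) : α ≠ 1 := by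
  rintro rfl
  rw [orderOf_one] at h
  exact Nat.not_prime_one h

theorem card_normalizer_conj {G : Type*} [Group G] (A : Subgroup G) (g : G) :
    Nat.card (normalizer ((A.map (MulAut.conj g).toMonoidHom : Subgroup G) : Set G)) =
      Nat.card (normalizer (A : Set G)) := by
  rw [← map_equiv_normalizer_eq A (MulAut.conj g)]
  exact card_map_of_injective (MulAut.conj g).injective

theorem ree_arith {m k : ℕ} (hk : k < 3 * (2 * m + 1))
    (h : k = 0 ∨ 1 + 3 ^ k ∣ ((3 ^ (2 * m + 1)) ^ 3 + 1) * (3 ^ (2 * m + 1) - 1)) : 3 ^ k ≤ 3 ^ (2 * m + 1) := by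
  refine Nat.pow_le_pow_right (by norm_num) ?_
  rcases Nat.eq_zero_or_pos k with h0 | h0
  · omega
  have h1 := h.resolve_left h0.ne'
  have h2 : ((3 ^ (2 * m + 1)) ^ 3 + 1) * (3 ^ (2 * m + 1) - 1) ∣ 3 ^ (2 * (3 * (2 * m + 1))) - 1 := by
    have e1 : 3 ^ (2 * (3 * (2 * m + 1))) = ((3 ^ (2 * m + 1)) ^ 3) ^ 2 := by
      rw [← pow_mul, ← pow_mul]
      congr 1
      ring
    have e2 : ((3 ^ (2 * m + 1)) ^ 3) ^ 2 - 1 = ((3 ^ (2 * m + 1)) ^ 3 + 1) * ((3 ^ (2 * m + 1)) ^ 3 - 1) := by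
      rw [← Nat.sq_sub_sq]
    rw [e1, e2]
    refine Nat.mul_dvd_mul_left _ ?_
    simpa only [_root_.one_pow] using Nat.sub_dvd_pow_sub_pow (3 ^ (2 * m + 1)) 1 3
  obtain ⟨t, ht⟩ := dvd_of_one_add_pow_dvd (by norm_num) h0 (h1.trans h2)
  have h3 : 3 ≤ t := by
    by_contra hcon
    have h4 : t = 0 ∨ t = 1 ∨ t = 2 := by omega
    rcases h4 with rfl | rfl | rfl <;> (clear * - ht hk; (solve | lia | omega))
  nlinarith only [ht, h3]

theorem row_ree_model {K : Type} [Field K] [Fintype K] {m : ℕ} (hm : 1 ≤ m) (hK : Fintype.card K = 3 ^ (2 * m + 1))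
    [Finite ↥(twistedG2 K (3 ^ m))] [IsSimpleGroup ↥(twistedG2 K (3 ^ m))]
    (hna : ¬ IsMulCommutative ↥(twistedG2 K (3 ^ m))) : Row ↥(twistedG2 K (3 ^ m)) := by
  have h3 : Fact (Nat.Prime 3) := ⟨Nat.prime_three⟩
  have hcard := S1069.result hK
  have hout := (S2127.result hm hK).le
  have hcyc := S1158.result hm hK
  have hconj := S2358.result hm hK
  have harith := @ree_arith m
  have hti := S1155.result hm hK
  have h168 := S1157.result hm hK
  have hf : 2 * m + 1 ≤ 3 ^ (2 * m + 1) := (Nat.lt_pow_self (by norm_num)).le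
  have hq27 : 27 ≤ 3 ^ (2 * m + 1) :=
    calc 27 = 3 ^ 3 := by norm_num
      _ ≤ 3 ^ (2 * m + 1) := Nat.pow_le_pow_right (by norm_num) (by omega)
  have hs : 3 * 3 ^ (m + 1) ≤ 3 ^ (2 * m + 1) := by
    rw [← pow_succ']
    exact Nat.pow_le_pow_right (by norm_num) (by omega)
  have h3q : 3 ∣ 3 ^ (2 * m + 1) := dvd_pow_self 3 (by omega)
  have hQ : (3 ^ (2 * m + 1)) ^ 3 = 3 ^ (3 * (2 * m + 1)) := by rw [← pow_mul, mul_comm]
  intro S hS _
  obtain ⟨A, hA, hcases⟩ := S2361.result hm hK (innS S) (innS_solvable hna hS)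
  generalize 3 ^ (2 * m + 1) = q at *
  have hq3 : q ≤ q ^ 3 := Nat.le_self_pow (by norm_num) q
  have hord : Nat.card ↥(twistedG2 K (3 ^ m)) = q ^ 3 * ((q ^ 3 + 1) * (q - 1)) := by rw [hcard]; ring
  obtain ⟨a1, a2, a3⟩ := H452.FprRee.rank_one_data hti hQ (by omega) hord (by omega) (by omega)
  have H : TI 3 ↥(twistedG2 K (3 ^ m)) (q ^ 3) (q - 1) (3 * (2 * m + 1)) := ⟨hti, hQ, a1, a2, a3, hord⟩
  have hq2 : 27 * q ≤ q ^ 2 := by nlinarith only [hq27]
  have hq3' : 27 * q ^ 2 ≤ q ^ 3 := by nlinarith only [hq27]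
  have small : Nat.card (innS S) ≤ 12 * q → Good (InnG _) S := by
    intro hr
    refine good_of_fix3 hna hr hout (M := q ^ 3) (fun α _ hα => H.fix_bound (fun k _ h2 h4 => ?_)
      (ne_one_of_prime hα)) ?_ ?_
    · have h5 := harith h2 (Or.inr h4)
      calc (1 + 3 ^ k) * 3 ^ k ≤ (1 + q) * q := Nat.mul_le_mul (by omega) h5
        _ = q + q ^ 2 := by ring
        _ ≤ q ^ 3 + 1 := by (clear * - hq2 hq3'; omega)
    · have h5 : 27 ^ 4 ≤ q ^ 4 := Nat.pow_le_pow_left hq27 4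
      calc (2 * m + 1) * (12 * q) ^ 4 ≤ q * (12 * q) ^ 4 := Nat.mul_le_mul_right _ hf
        _ = 12 ^ 4 * q ^ 5 := by ring
        _ ≤ q ^ 4 * q ^ 5 := Nat.mul_le_mul_right _ (le_trans (by norm_num) h5)
        _ = _ := by ring
    · rw [hord]
      have h5 : 1 ≤ (q ^ 3 + 1) * (q - 1) := Nat.mul_pos (by omega) (by omega)
      nlinarith only [hq2, hq3', h5]
  have hcyc' : ∀ k n : ℕ, (k, n) ∈ ({((q - 1) / 2, 2 * (q - 1)), ((q + 1) / 4, 6 * (q + 1)),
      (q - 3 ^ (m + 1) + 1, 6 * (q - 3 ^ (m + 1) + 1)), (q + 3 ^ (m + 1) + 1, 6 * (q + 3 ^ (m + 1) + 1))} :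
      Set (ℕ × ℕ)) → (k ∣ (q - 1) / 2 ∨ k ∣ (q + 1) / 4 ∨ k ∣ q - 3 ^ (m + 1) + 1 ∨ k ∣ q + 3 ^ (m + 1) + 1) →
      IsCyclic A → Nat.card A = k → n ≤ 12 * q → Good (InnG _) S := by
    intro k n hkn hd hAc hAk hn
    obtain ⟨B, hBc, hBk, hBn, -⟩ := hcyc _ hkn
    obtain ⟨g, hg⟩ := hconj k hd B A hBc hAc hBk hAk
    apply small
    refine (card_le_of_le hA).trans ?_
    rw [hg, card_normalizer_conj, hBn]
    exact hn
  rcases hcases with ⟨P, rfl⟩ | ⟨P, rfl⟩ | ⟨hAc, h1 | h1 | h1 | h1⟩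
  · apply small
    refine (card_le_of_le hA).trans ?_
    rw [(h168 P).2]
    omega
  · have hA' : innS S ≤ stabilizer _ P := fun x hx => Sylow.smul_eq_iff_mem_normalizer.2 (hA hx)
    by_cases h1 : ∀ u ∈ innS S, u ∈ P → u = 1
    · apply small
      have := H.card_le_of_inf_bot hA' h1
      omega
    · push Not at h1
      obtain ⟨u, hu, hu0, hu1⟩ := h1
      refine H.good_of_par hna (H.fix_of_le hA' hu hu0 hu1) (a := q) (fun k h2 h4 => harith h2 h4) hout ?_ (by omega)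
      calc (2 * m + 1) * (q - 1) * q ^ 2 ≤ q * q * q ^ 2 :=
            Nat.mul_le_mul_right _ (Nat.mul_le_mul hf (Nat.sub_le _ _))
        _ = q ^ 4 := by ring
        _ < q ^ 6 := Nat.pow_lt_pow_right (by omega) (by norm_num)
        _ = _ := by ring
  · exact hcyc' _ _ (by simp only [_root_.Set.mem_insert_iff, _root_.Prod.mk.injEq, _root_.Set.mem_singleton_iff, _root_.true_or]) (Or.inl dvd_rfl) hAc h1 (show 2 * (q - 1) ≤ 12 * q by (clear * -; omega))
  · exact hcyc' _ _ (by simp only [_root_.Set.mem_insert_iff, _root_.Prod.mk.injEq, _root_.mul_eq_mul_left_iff, _root_.Nat.add_right_cancel_iff, _root_.OfNat.ofNat_ne_zero, _root_.or_false, _root_.Set.mem_singleton_iff, _root_.Nat.left_eq_add, _root_.Nat.pow_eq_zero, _root_.ne_eq, _root_.Nat.add_eq_zero_iff, _root_.one_ne_zero, _root_.and_false, _root_.not_false_eq_true, _root_.and_true, _root_.or_self, _root_.true_or, _root_.or_true]) (Or.inr (Or.inl dvd_rfl)) hAc h1 (show 6 * (q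 + 1) ≤ 12 * q by omega)
  · exact hcyc' _ _ (by simp only [_root_.Set.mem_insert_iff, _root_.Prod.mk.injEq, _root_.mul_eq_mul_left_iff, _root_.Nat.add_right_cancel_iff, _root_.OfNat.ofNat_ne_zero, _root_.or_false, _root_.Set.mem_singleton_iff, _root_.and_self, _root_.true_or, _root_.or_true]) (Or.inr (Or.inr (Or.inl dvd_rfl))) hAc h1
      (show 6 * (q - 3 ^ (m + 1) + 1) ≤ 12 * q by (clear * - hq27 hs; omega))
  · exact hcyc' _ _ (by simp only [_root_.Set.mem_insert_iff, _root_.Prod.mk.injEq, _root_.mul_eq_mul_left_iff, _root_.Nat.add_right_cancel_iff, _root_.Nat.add_eq_left, _root_.Nat.pow_eq_zero, _root_.OfNat.ofNat_ne_zero, _root_.ne_eq, _root_.Nat.add_eq_zero_iff, _root_.one_ne_zero, _root_.and_false, _root_.not_false_eq_true, _root_.and_true, _root_.or_self, _root_.or_false, _root_.and_self, _root_.Set.mem_singleton_iff, _root_.or_true]) (Or.inr (Or.inr (Or.inr dvd_rfl))) hAc h1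
      (show 6 * (q + 3 ^ (m + 1) + 1) ≤ 12 * q by omega)

/-- **The box of the small Ree groups.** -/
theorem box_ree : Box fun K _ => Lie.IsoRee K := by
  rintro T _ _ _ hT ⟨K, iK, iK', m, hm, hK, ⟨e⟩⟩
  have : Finite ↥(twistedG2 K (3 ^ m)) := Finite.of_equiv T e.toEquiv
  have : IsSimpleGroup ↥(twistedG2 K (3 ^ m)) := e.symm.isSimpleGroup
  refine Row.of_equiv e (row_ree_model hm hK fun h => hT ⟨⟨fun a b => e.injective ?_⟩⟩)
  rw [map_mul, map_mul]
  exact h.is_comm.comm _ _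

end Cfsg.Agent.SB.R1
end

-- part: SB/Tor/U3a
section
/-!
# S5765, classical groups: the row `GU₁(q) ≀ S₃` (helper90)
-/

set_option autoImplicit false
set_option linter.unusedSectionVars false

namespace Cfsg.Agent.SB.Tor

open Cfsg Cfsg.Agent.DS.Cl Cfsg.Agent.DS.Cl.Fwd Module

theorem exists_three {A : Type} {D : Finset A} (h : D.card = 3) :
    ∃ e : Fin 3 → A, Function.Injective e ∧ ∀ a, a ∈ D ↔ ∃ i, e i = a := by
  let f := (D.equivFinOfCardEq h).symm
  refine ⟨fun i => f i, fun i j hij => f.injective (Subtype.ext hij), fun a => ⟨fun ha => ?_, ?_⟩⟩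
  · exact ⟨f.symm ⟨a, ha⟩, by simp⟩
  · rintro ⟨i, rfl⟩
    exact (f i).2

variable {K V : Type} [Field K] [Finite K] [AddCommGroup V] [Module K V] [Finite V] {h : HF K V}

/-- vectors spanning the blocks -/
structure UG (D : Finset h.EB) (e : Fin 3 → h.EB) (v : Fin 3 → V) : Prop where
  fr : Fr D
  inj : Function.Injective e
  mem : ∀ a, a ∈ D ↔ ∃ i, e i = a
  ne : ∀ i, h.b (v i) (v i) ≠ 0
  fix : ∀ i, h.ap (e i) (v i) = v i
  span : ∀ i x, h.ap (e i) x = x → ∃ c : K, x = c • v i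

namespace UG

variable {D : Finset h.EB} {e : Fin 3 → h.EB} {v : Fin 3 → V} (H : UG D e v) {F : FR h.EB}
include H

theorem emem (i : Fin 3) : e i ∈ D := (H.mem _).2 ⟨i, rfl⟩

theorem orth {i j : Fin 3} (hij : i ≠ j) : h.b (v i) (v j) = 0 :=
  Fr.b_eq_zero h H.fr (H.emem i) (H.emem j) (fun e => hij (H.inj e)) (H.fix i) (H.fix j)

theorem vne (i : Fin 3) : v i ≠ 0 := fun h0 => H.ne i (by rw [h0, h.zero_left])

theorem ind (P : V → Prop) (h0 : P 0) (ha : ∀ x y, P x → P y → P (x + y)) (hs : ∀ (c : K) i, P (c • v i)) (x : V) :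
    P x := by
  have h1 : h.ap (∑ a ∈ D, a) x = ∑ a ∈ D, h.ap a x := LinearMap.sum_apply D (fun a => h.ap a) x
  rw [H.fr.sum, h.ap_one] at h1
  rw [h1]
  refine Finset.sum_induction _ P ha h0 fun a haD => ?_
  obtain ⟨i, rfl⟩ := (H.mem a).1 haD
  obtain ⟨c, hc⟩ := H.span i (h.ap (e i) x) (by rw [← h.ap_mul, H.fr.idem _ haD])
  rw [hc]
  exact hs c i

theorem exists_diag (hε : h.ε = 1) (hF : F.L = Lmax h.EB) (i : Fin 3) {c : K} (hc : c * h.τ c = 1) :
    ∃ u ∈ F.Iso, cj h.EB u ∈ Nt F D ∧ ∀ j, h.ap u (v j) = (if j = i then c else 1) • v j := by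
  have hi := H.ne i
  have h1 : ∀ x y, h.b (h.ap (qr h ((1 - c) / h.b (v i) (v i)) (v i)) x)
      (h.ap (qr h ((1 - c) / h.b (v i) (v i)) (v i)) y) = h.b x y := by
    refine qr_form h hε ?_
    rw [map_div₀, map_sub, map_one, tau_self hε]
    field_simp
    linear_combination -hc
  have h2 : isoU h _ h1 ∈ F.Iso := mem_Iso_max hF (isoU_ms _ _ _)
  refine ⟨_, h2, cj_mem_Nt h2 (qr_comm h H.fr (H.emem i) (H.fix i) _), fun j => ?_⟩
  rw [isoU_val, ap_qr]
  split_ifs with hj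
  · rw [hj, div_mul_cancel₀ _ hi, sub_smul, one_smul, sub_sub_cancel]
  · rw [H.orth hj, mul_zero, zero_smul, sub_zero, one_smul]

theorem rel {k : RingAut h.EB} (L : SL h k) {π : Fin 3 → Fin 3} (hπ : ∀ i, k (e i) = e (π i)) {u : h.EBˣ}
    {c : Fin 3 → K} (hu : ∀ j, h.ap u (v j) = c j • v j) (hk : k * cj h.EB u * k⁻¹ = cj h.EB u) :
    ∃ z : K, ∀ i, L.σ (c i) = z * c (π i) := by
  have : Nontrivial V := ⟨_, _, H.vne 0⟩
  rw [conj_cj] at hk
  obtain ⟨z, hz, hk⟩ := cj_eq_iff.1 hk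
  obtain ⟨z₀, hz₀⟩ := exists_sc h hz
  refine ⟨z₀, fun i => ?_⟩
  have h1 := L.conj u (v i)
  have h2 := L.map_fix (H.fix i)
  rw [hπ] at h2
  obtain ⟨m, hm⟩ := H.span _ _ h2
  have h3 : L.g (v i) ≠ 0 := by simpa using H.vne i
  rw [← um_val, hk, Units.val_mul, h.ap_mul, hz₀, map_smul, hu, L.smul] at h1
  apply smul_left_injective K h3
  change L.σ (c i) • L.g (v i) = (z₀ * c (π i)) • L.g (v i)
  rw [← h1, hm, map_smul, hu, smul_smul, smul_smul, smul_smul]
  congr 1
  ring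

/-- two elements of the torus whose centraliser is the torus -/
theorem cent (hε : h.ε = 1) (hF : F.L = Lmax h.EB) {ξ : K} (h1 : ξ * h.τ ξ = 1) (hξ1 : ξ ≠ 1)
    (h3 : ∀ σ : K →+* K, σ ξ = ξ → σ = RingHom.id K) :
    ∃ v₁ ∈ Nt F D, ∃ v₂ ∈ Nt F D, ∀ k ∈ St F D, k * v₁ * k⁻¹ = v₁ → k * v₂ * k⁻¹ = v₂ → k ∈ Nt F D := by
  have : Nontrivial V := ⟨_, _, H.vne 0⟩
  obtain ⟨u₀, -, a₀, b₀⟩ := H.exists_diag hε hF 0 h1
  obtain ⟨u₁, -, a₁, b₁⟩ := H.exists_diag hε hF 1 h1
  refine ⟨_, a₀, _, a₁, fun k hk c₁ c₂ => ?_⟩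
  obtain ⟨L⟩ := exists_SL h hk.1.1
  choose π hπe using fun i => (H.mem _).1 (St.mem hk (H.emem i))
  have hπ : Function.Injective π := fun i j hij => H.inj (k.injective (by rw [← hπe, ← hπe, hij]))
  have key : ∀ (i : Fin 3) (u : h.EBˣ), (∀ j, h.ap u (v j) = (if j = i then ξ else 1) • v j) →
      k * cj h.EB u * k⁻¹ = cj h.EB u → π i = i ∧ L.σ ξ = ξ := by
    intro i u b c
    obtain ⟨z, hz⟩ := H.rel L (fun i => (hπe i).symm) b c
    have hz1 : z = 1 := by
      obtain ⟨j, j', hj, hj', hjj⟩ := (by decide : ∀ i : Fin 3, ∃ j j' : Fin 3, j ≠ i ∧ j' ≠ i ∧ j ≠ j') i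
      by_cases h4 : π j = i
      · have h5 : π j' ≠ i := fun e => hjj (hπ (h4.trans e.symm))
        simpa [h5, hj'] using (hz j').symm
      · simpa [h4, hj] using (hz j).symm
    have h5 := hz i
    rw [if_pos rfl, hz1, one_mul] at h5
    by_cases h4 : π i = i
    · rw [if_pos h4] at h5
      exact ⟨h4, h5⟩
    · rw [if_neg h4, map_eq_one_iff _ L.σ.injective] at h5
      exact absurd h5 hξ1
  obtain ⟨p0, hσ⟩ := key 0 u₀ b₀ c₁
  obtain ⟨p1, -⟩ := key 1 u₁ b₁ c₂
  refine ⟨hk.1, L.mem_Lin fun c => RingHom.congr_fun (h3 (L.σ : K →+* K) hσ) c, fun a ha => ?_⟩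
  obtain ⟨i, rfl⟩ := (H.mem a).1 ha
  rw [← hπe, (by decide +kernel : ∀ π : Fin 3 → Fin 3, Function.Injective π → π 0 = 0 → π 1 = 1 → ∀ i, π i = i) π hπ p0 p1]

/-- the torus meets a conjugate of the stabiliser trivially -/
theorem reg (hε : h.ε = 1) {a κ : K} (ha : a ≠ 1) (hκ : κ ≠ 0) (hκa : κ * a ≠ 1)
    (hn : ∀ i, h.b (v i) (v i) = if i = 0 then a else 1) {r : h.EBˣ} (hr : (r : h.EB) * star (r : h.EB) = 1)
    (hrv : (r : h.EB) = qr h κ (∑ i, v i)) :
    ∀ t ∈ Nt F D, (cj h.EB r)⁻¹ * t * cj h.EB r ∈ St F D → t = 1 := by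
  have : Nontrivial V := ⟨_, _, H.vne 0⟩
  intro t ht hts
  obtain ⟨L⟩ := exists_SL h ht.1.1
  have hσ := L.sigma_of_Lin ht.2.1
  have h1 : ∀ i, ∃ c : K, L.g (v i) = c • v i := fun i => H.span i _ (by
    have h2 := L.map_fix (H.fix i)
    rwa [ht.2.2 _ (H.emem i)] at h2)
  choose c hc using h1
  have hN : ∀ i, c i * h.τ (c i) = L.μ := fun i => by
    have h2 := L.form (v i) (v i)
    rw [hc, h.smul_left, h.smul_right, hσ, ← mul_assoc] at h2
    exact mul_right_cancel₀ (H.ne i) h2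
  obtain ⟨j, hj⟩ := (H.mem _).1 (St.mem hts (H.emem 0))
  have h2 : t (cj h.EB r (e 0)) = cj h.EB r (e j) := by rw [hj, ra_mul, ra_mul, ra_apply_inv]
  have h3 : h.ap (cj h.EB r (e 0)) (h.ap r (v 0)) = h.ap r (v 0) := by
    rw [← h.ap_mul, cj_mul_eq, h.ap_mul, H.fix]
  have h4 := L.map_fix h3
  rw [h2, cj_apply, h.ap_mul, h.ap_mul] at h4
  have h5 := congrArg (h.ap (r⁻¹ : h.EBˣ)) h4
  rw [ap_inv_ap] at h5
  obtain ⟨l, hl⟩ := H.span _ _ h5
  have h6 : L.g (h.ap r (v 0)) = l • h.ap r (v j) := by rw [← map_smul, ← hl, ap_ap_inv]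
  have hb : ∀ i k, h.b (v i) (v k) = if i = k then h.b (v i) (v i) else 0 := fun i k => by
    split_ifs with hik
    · rw [hik]
    · exact H.orth hik
  have hs : ∀ (d : Fin 3 → K) k, h.b (∑ i, d i • v i) (v k) = d k * h.b (v k) (v k) := fun d k => by
    have h7 : h.lin (v k) (∑ i, d i • v i) = ∑ i, d i • h.lin (v k) (v i) := by simp only [map_sum, map_smul]
    refine h7.trans ((Finset.sum_eq_single k (fun i _ hi => ?_) (by simp only [_root_.Finset.mem_univ, _root_.not_true_eq_false, _root_.smul_eq_mul, _root_.mul_eq_zero, _root_.IsEmpty.forall_iff])).trans rfl)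
    change d i * h.b (v i) (v k) = 0
    rw [H.orth hi, mul_zero]
  have hs1 : ∀ k, h.b (∑ i, v i) (v k) = h.b (v k) (v k) := fun k => by simpa using hs 1 k
  have hs2 : ∀ k, h.b (v k) (∑ i, v i) = h.b (v k) (v k) := fun k => by
    rw [h.swap, hs1, hε, one_mul, tau_self hε]
  have h7 : ∀ k, c 0 * h.b (v 0) (v k) - κ * a * (c k * h.b (v k) (v k)) =
      l * (h.b (v j) (v k) - κ * h.b (v j) (v j) * h.b (v k) (v k)) := fun k => by
    have h8 := congrArg (fun x => h.b x (v k)) h6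
    simp only [hrv, ap_qr, map_sub, L.smul, hσ, map_sum, hc, h.sub_left, h.smul_left, hs, hs1, hs2] at h8
    rw [← h8, hn 0, if_pos rfl]
  have h8 : L.μ * a = l * h.τ l * h.b (v j) (v j) := by
    have h9 := L.form (h.ap r (v 0)) (h.ap r (v 0))
    rw [h6, h.smul_left, h.smul_right, hσ, (h.unit_iff r).1 hr, (h.unit_iff r).1 hr, hn 0, if_pos rfl] at h9
    rw [← h9, mul_assoc]
  have ha0 : a ≠ 0 := by simpa [hn] using H.ne 0
  have hτa : h.τ a = a := by simpa [hn] using tau_self hε (v 0)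
  have hj0 : j = 0 := by
    by_contra hj0
    obtain ⟨k, hk0, hkj⟩ := (by decide : ∀ j : Fin 3, ∃ k : Fin 3, k ≠ 0 ∧ k ≠ j) j
    have h9 := h7 k
    rw [H.orth hk0.symm, H.orth hkj.symm, hn k, hn j, if_neg hk0, if_neg hj0] at h9
    rw [hn j, if_neg hj0, mul_one] at h8
    have h10 : l = a * c k := mul_left_cancel₀ hκ (by linear_combination h9)
    rw [h10, map_mul, hτa] at h8
    apply ha
    apply mul_left_cancel₀ (mul_ne_zero L.μ_ne ha0)
    linear_combination (-1 : K) * h8 - a * a * hN k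
  subst hj0
  have h9 : ∀ k, c k = l := fun k => by
    have h10 := h7 k
    by_cases hk : k = 0
    · rw [hk, hn 0, if_pos rfl] at h10
      rw [hk]
      apply mul_left_cancel₀ (mul_ne_zero ha0 (sub_ne_zero.2 hκa))
      linear_combination -h10
    · rw [H.orth (Ne.symm hk), hn k, hn 0, if_neg hk, if_pos rfl] at h10
      apply mul_left_cancel₀ (mul_ne_zero ha0 hκ)
      linear_combination -h10
  refine L.eq_one (c := l) (H.ind _ (by simp) (fun x y hx hy => by rw [map_add, hx, hy, smul_add]) fun d i => ?_)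
  rw [L.smul, hσ, hc, h9, smul_comm]

end UG

theorem rowU3a {K V : Type} [Field K] [Finite K] [AddCommGroup V] [Module K V] [Finite V] (h : HF K V)
    (F : FR h.EB) (S : Subgroup (RingAut h.EB)) (D : Finset h.EB) (hU : Cl.IsU h) (hK : Nat.card K ≠ 4)
    (H : Cl.Ctx F S) (hD : Fr D) (hS : _root_.Cfsg.Agent.DS.Cl.Inv S D) (hD3 : D.card = 3) (hM : ∀ e ∈ D, Cl.rk h e = 1) : Good F.S S := by
  have hε := hU.1
  have hF := L_eq_of_U hU F
  obtain ⟨e, he, hmem⟩ := exists_three hD3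
  have hτ : h.τ ≠ RingHom.id K := fun e => by
    obtain ⟨c, hc⟩ := hU.2
    exact hc (by rw [e]; rfl)
  let τ : K ≃+* K := ⟨⟨h.τ, h.τ, h.τ_τ, h.τ_τ⟩, map_mul h.τ, map_add h.τ⟩
  obtain ⟨ξ, h1, h2, -, h3⟩ := H324.FC.exists_xi τ h.τ_τ hU.2
  replace h1 : ξ * h.τ ξ = 1 := h1
  have h4 : h.τ ξ ≠ ξ := fun e => hτ (h3 _ e)
  have hξ0 : ξ ≠ 0 := left_ne_zero_of_mul (h1.trans_ne one_ne_zero)
  have hξ1 : ξ ≠ 1 := fun e => h4 (by rw [e, map_one])
  obtain ⟨a, ha, ha0, ha1, ha2⟩ : ∃ a : K, h.τ a = a ∧ a ≠ 0 ∧ a ≠ 1 ∧ a + 2 ≠ 0 := by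
    by_cases h5 : (2 : K) = 0
    · refine ⟨ξ + h.τ ξ, by rw [map_add, h.τ_τ, add_comm], fun e => h4 (by linear_combination e - ξ * h5),
        fun e => h2 hK (by linear_combination (ξ + 1) * ξ * e - (ξ + 1) * h1 - h5),
        fun e => h4 (by linear_combination e - (ξ + 1) * h5)⟩
    · exact ⟨-1, by simp only [_root_.map_neg, _root_.map_one], by simp, fun e => h5 (by linear_combination -e), by norm_num⟩
  have ha2' : h.τ (a + 2) = a + 2 := by rw [map_add, ha, map_ofNat]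
  obtain ⟨c, hc, hc1⟩ : ∃ c : K, c * h.τ c = a + 2 ∧ c ≠ 1 := by
    obtain ⟨c, hc⟩ := ClassicalGeometry.InvolutiveNorm.exists_mul_sigma_eq hτ h.τ_τ ha2'
    by_cases hc1 : c = 1
    · exact ⟨ξ, by rw [← hc, hc1, h1, map_one, mul_one], hξ1⟩
    · exact ⟨c, hc, hc1⟩
  have hc0 : c ≠ 0 := left_ne_zero_of_mul (hc.trans_ne ha2)
  have h8 : ∀ i : Fin 3, ∃ v, h.b v v = (if i = 0 then a else 1) ∧ h.ap (e i) v = v ∧
      ∀ x, h.ap (e i) x = x → ∃ c : K, x = c • v := fun i =>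
    exists_vec hU hD ((hmem _).2 ⟨i, rfl⟩) (hM _ ((hmem _).2 ⟨i, rfl⟩))
      (by split_ifs; exacts [ha, map_one _]) (by split_ifs; exacts [ha0, one_ne_zero])
  choose v hn hfix hspan using h8
  have U : UG D e v := ⟨hD, he, hmem, fun i => by rw [hn]; split_ifs; exacts [ha0, one_ne_zero], hfix, hspan⟩
  have hs2 : ∀ k, h.b (v k) (∑ i, v i) = h.b (v k) (v k) := fun k => by
    rw [Fin.sum_univ_three, h.add_right, h.add_right]
    (revert k; simp only [U.orth, _root_.Fin.forall_fin_succ, Fin.isValue, _root_.ne_eq, _root_.zero_ne_one, _root_.not_false_eq_true, _root_.add_zero, Fin.reduceEq, _root_.Fin.succ_ne_zero, _root_.zero_add, _root_.Fin.succ_zero_eq_one, _root_.Fin.succ_one_eq_two, _root_.IsEmpty.forall_iff, _root_.and_self])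
  have hvv : h.b (∑ i, v i) (∑ i, v i) = a + 2 := by
    conv_lhs => enter [2]; rw [Fin.sum_univ_three]
    rw [h.add_left, h.add_left, hs2, hs2, hs2, hn, hn, hn]
    simp only [Fin.isValue, if_true, Fin.reduceEq, if_false]
    ring
  have hww : h.b (c • v 1) (c • v 1) = a + 2 := by
    rw [h.smul_left, h.smul_right, hn, ← hc]
    simp
  obtain ⟨g, hg, hgw⟩ := exists_house hε (hww.trans hvv.symm) (by
    rw [h.sub_right, hww, h.smul_left, hs2, hn, ← hc]
    simp only [Fin.isValue, Fin.reduceEq, if_false]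
    rw [← mul_sub]
    exact mul_ne_zero hc0 (sub_ne_zero.2 fun e => hc1 ((map_eq_one_iff _ h.τ.injective).1 e)))
  have h9 := qr_form h hε (κ := (1 - ξ) / (a + 2)) (v := c • v 1) (by
    rw [hww, map_div₀, map_sub, map_one, ha2']
    field_simp
    linear_combination -h1)
  have hk : isoU h _ h9 ∈ F.Iso := mem_Iso_max hF (isoU_ms _ _ _)
  have hg' : g ∈ F.Iso := mem_Iso_max hF hg
  obtain ⟨x, hx, hxS⟩ := exists_conj (S := St F D) hg' hk
    (cj_mem_St hk (qr_comm h hD (U.emem 1) (by rw [map_smul, hfix]) _))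
  obtain ⟨v₁, a₁, v₂, a₂, hcc⟩ := U.cent hε hF h1 hξ1 h3
  refine good_of_four H (le_St H.le hS) (four_of_trick' (fun _ => St.aut) Nt_le Nt_conj hx
    (fun t ht hts => ?_) a₁ a₂ hcc)
  refine U.reg hε ha1 (div_ne_zero (sub_ne_zero.2 hξ1.symm) ha2) (fun e => h4 ?_) hn
    (mul_mem (mul_mem hg' hk) (inv_mem hg')).1 ?_ t ht (hxS t hts)
  · rw [div_mul_eq_mul_div, div_eq_one_iff_eq ha2] at e
    have h10 : ξ = -2 / a := by
      field_simp
      linear_combination -e
    rw [h10, map_div₀, map_neg, map_ofNat, ha]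
  · rw [Units.val_mul, Units.val_mul, isoU_val, qr_conj h hg, hgw]

/-- the form with `Many` -/
theorem rowU3a' {K V : Type} [Field K] [Finite K] [AddCommGroup V] [Module K V] [Finite V] (h : HF K V)
    (F : FR h.EB) (S : Subgroup (RingAut h.EB)) (D : Finset h.EB) (hU : Cl.IsU h) (hV : finrank K V = 3)
    (hK : Nat.card K ≠ 4) (H : Cl.Ctx F S) (hD : Fr D) (hS : _root_.Cfsg.Agent.DS.Cl.Inv S D) (hM : Cl.Many (Cl.rk h) D 1) : Good F.S S := by
  rcases hM.1 with h3 | h4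
  · exact rowU3a h F S D hU hK H hD hS h3 hM.2
  exfalso
  obtain ⟨e, he, hmem⟩ := exists_four h4
  choose v hn hfix _ using fun i => exists_vec hU hD ((hmem _).2 ⟨i, rfl⟩) (hM.2 _ ((hmem _).2 ⟨i, rfl⟩))
    (map_one h.τ) one_ne_zero
  have hli : LinearIndependent K v := by
    rw [Fintype.linearIndependent_iff]
    intro g hg k
    have h7 : h.lin (v k) (∑ i, g i • v i) = ∑ i, g i • h.lin (v k) (v i) := by simp only [map_sum, map_smul]
    rw [hg, map_zero, Finset.sum_eq_single k (fun i _ hi => ?_) (by simp only [_root_.Finset.mem_univ, _root_.not_true_eq_false, _root_.smul_eq_mul, _root_.mul_eq_zero, _root_.IsEmpty.forall_iff])] at h7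
    · change 0 = g k * h.b (v k) (v k) at h7
      rw [hn, mul_one] at h7
      exact h7.symm
    · change g i * h.b (v i) (v k) = 0
      rw [Fr.b_eq_zero h hD ((hmem _).2 ⟨i, rfl⟩) ((hmem _).2 ⟨k, rfl⟩) (fun e => hi (he e)) (hfix i) (hfix k), mul_zero]
  have : Module.Finite K V := Module.Finite.of_finite
  have h5 := hli.fintype_card_le_finrank
  rw [hV] at h5
  simp at h5

end Cfsg.Agent.SB.Tor
end

-- part: SB/R1/U3M
section
/-!
# S5765: the groups `PSU₃(q)` and the box of the groups of rank one (helper61)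
-/

set_option autoImplicit false

namespace Cfsg.Agent.SB.R1

open Subgroup Cfsg Cfsg.Agent.H786.FC Cfsg.Agent.SB.Cl Cfsg.Agent.DS.Cl.Fwd Module
open Cfsg.Agent.DS.Cl (FR SS Lmax Fr Inv)

/-- **Transport** from the form ring to the automorphism group. -/
theorem row_of_modE {A : Type} [Ring A] [StarRing A] {F : FR A} {T : Type} [Group T]
    (hmod : Br.ModE F T Set.univ) (hcent : ∀ γ ∈ F.Aut, (∀ s ∈ F.S, γ * s = s * γ) → γ = 1)
    (hmain : ∀ S ≤ F.Aut, Group.IsSolvable S → MaxInv F.S S → Good F.S S) : Row T := by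
  intro S hS hm
  obtain ⟨-, -, e, hΓ'⟩ := hmod
  have hle : F.Aut ≤ normalizer (F.S : Set (RingAut A)) := fun γ hγ => by
    rw [mem_normalizer_iff]
    refine fun s => ⟨FR.conj_mem_S hγ, fun h => ?_⟩
    have h1 := FR.conj_mem_S (inv_mem hγ) h
    simpa only [mul_assoc, _root_.inv_mul_cancel_left, _root_.inv_inv, _root_.inv_mul_cancel, _root_.mul_one] using h1
  let θ : F.Aut →* MulAut T :=
    (MulAut.congr e).toMonoidHom.comp (F.S.normalizerMonoidHom.comp (inclusion hle))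
  have hθ : ∀ (γ : F.Aut) (s t : F.S), (t : RingAut A) = γ * s * (γ : RingAut A)⁻¹ → θ γ (e s) = e t := by
    intro γ s t h
    change e (F.S.normalizerMonoidHom (inclusion hle γ) (e.symm (e s))) = e t
    rw [e.symm_apply_apply]
    exact congrArg e (Subtype.ext h.symm)
  have hinj : Function.Injective θ := by
    rw [injective_iff_map_eq_one]
    intro γ hγ
    refine Subtype.ext (hcent γ γ.2 fun s hs => ?_)
    have h1 := hθ γ ⟨s, hs⟩ ⟨_, FR.conj_mem_S γ.2 hs⟩ rfl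
    rw [hγ] at h1
    exact mul_inv_eq_iff_eq_mul.1 (congrArg Subtype.val (e.injective h1)).symm
  have hsub : ∀ s : F.S, θ ⟨s, F.S_le_Aut s.2⟩ = MulAut.conj (e s) := fun s => by
    refine MulEquiv.ext fun x => ?_
    obtain ⟨t, rfl⟩ := e.surjective x
    rw [hθ ⟨s, F.S_le_Aut s.2⟩ t (s * t * s⁻¹) rfl, map_mul, map_mul, map_inv]
    rfl
  have h1 : (F.S.subgroupOf F.Aut).map θ = InnG T := by
    ext α
    constructor
    · rintro ⟨γ, hγ, rfl⟩
      exact ⟨e ⟨γ, hγ⟩, (hsub ⟨γ, hγ⟩).symm⟩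
    · rintro ⟨x, rfl⟩
      obtain ⟨s, rfl⟩ := e.surjective x
      exact ⟨_, s.2, hsub s⟩
  have h2 : (S.comap θ).map θ = S := by
    refine map_comap_eq_self fun α _ => ?_
    obtain ⟨γ, hγ, h⟩ := hΓ' α trivial
    refine ⟨⟨γ, hγ⟩, MulEquiv.ext fun x => ?_⟩
    obtain ⟨s, rfl⟩ := e.surjective x
    rw [hθ ⟨γ, hγ⟩ s ⟨_, FR.conj_mem_S hγ s.2⟩ rfl]
    exact h s _ rfl
  have h3 : (F.S.subgroupOf F.Aut).map F.Aut.subtype = F.S := map_subgroupOf_eq_of_le F.S_le_Aut
  have h4 : Group.IsSolvable (S.comap θ) :=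
    Group.isSolvable_of_isSolvable_injective (f := θ.subgroupComap S) fun a b h =>
      Subtype.ext (hinj (congrArg Subtype.val h))
  rw [← h1, ← h2] at hm ⊢
  refine Good.map θ hinj (Good.of_map F.Aut.subtype F.Aut.subtype_injective ?_)
  have h5 := (hm.of_map θ hinj).map F.Aut.subtype F.Aut.subtype_injective
  rw [h3] at h5 ⊢
  exact hmain _ (map_subtype_le _) (Group.isSolvable_of_surjective (F.Aut.subtype.subgroupMap_surjective _)) h5

/-- no invariant frame -/
def NoFr3 : Prop := ∀ (K V : Type) [Field K] [Finite K] [AddCommGroup V] [Module K V] [Finite V] (h : HF K V)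
  (F : FR h.EB) (S : Subgroup (RingAut h.EB)), IsU h → finrank K V = 3 → Nat.card K ≠ 4 → Ctx F S →
  (∀ D : Finset h.EB, Fr D → ¬ _root_.Cfsg.Agent.DS.Cl.Inv S D) →
  (∃ Z : Subring h.EB, ComSub Z ∧ _root_.Cfsg.Agent.DS.Cl.Inv S Z ∧ (∀ x ∈ Z, x ≠ 0 → IsUnit x) ∧ Nat.card Z = Nat.card K ^ finrank K V) ∨
    ∃ Y, ExtD F S Y 3 ∧ Nat.card Y = 9

/-- the normalizer of `3²` -/
def Ext3 : Prop := ∀ (K V : Type) [Field K] [Finite K] [AddCommGroup V] [Module K V] [Finite V] (h : HF K V)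
  (F : FR h.EB) (S Y : Subgroup (RingAut h.EB)), IsU h → finrank K V = 3 → Nat.card K ≠ 4 → Ctx F S →
  ExtD F S Y 3 → Nat.card Y = 9 → Good F.S S

theorem row_psu3 (hN : NoFr3) (hE : Ext3) (F : Type) [Field F] [Fintype F] {q : ℕ} (hF : Fintype.card F = q ^ 2)
    (hq : q ≠ 2) [IsSimpleGroup (PSU 3 F q)] (hT : ¬ IsMulCommutative (PSU 3 F q)) : Row (PSU 3 F q) := by
  obtain ⟨R, -, hR⟩ := Br.modU F 3 q hF le_rfl fun h => hq h.2
  have hU : IsU (unH 3 hF) := ⟨rfl, LieClassical.HermBasic.exists_not_fixed hF⟩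
  have hV : finrank F (Fin 3 → F) = 3 := Module.finrank_fin_fun F
  have hK : Nat.card F ≠ 4 := by
    rw [Nat.card_eq_fintype_card, hF]
    exact fun h => hq (Nat.pow_left_injective two_ne_zero (show q ^ 2 = 2 ^ 2 from h))
  have h3 : 3 ≤ q := by
    have h1 : 1 < q ^ 2 := hF ▸ Fintype.one_lt_card
    by_contra h2
    interval_cases q <;> omega
  have hcent := cent_three hV hU R
  refine row_of_modE hR hcent fun S hS hsolv hm => ?_
  obtain ⟨hss, hspan, e, -⟩ := hR
  have hsimple : IsSimpleGroup R.S := e.isSimpleGroup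
  have hnc : ¬ IsMulCommutative R.S := fun h => hT ⟨⟨fun a b => by
    obtain ⟨a, rfl⟩ := e.surjective a
    obtain ⟨b, rfl⟩ := e.surjective b
    rw [← map_mul, ← map_mul, h.1.1 a b]⟩⟩
  have hbig : 360 < Nat.card R.S := by
    rw [Nat.card_congr e.toEquiv]
    have h1 := H394.SqPsu3.card_psu3 hF
    have h2 : Nat.gcd 3 (q + 1) * Nat.card (PSU 3 F q) ≤ 3 * Nat.card (PSU 3 F q) :=
      Nat.mul_le_mul_right _ (Nat.gcd_le_left _ (by norm_num))
    have h4 : 3 ^ 2 ≤ q ^ 2 := Nat.pow_le_pow_left h3 2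
    have h5 : 3 ^ 3 ≤ q ^ 3 := Nat.pow_le_pow_left h3 3
    have h6 : 27 * (8 * 28) ≤ q ^ 3 * ((q ^ 2 - 1) * (q ^ 3 + 1)) :=
      Nat.mul_le_mul h5 (Nat.mul_le_mul (by omega) (by omega))
    omega
  have hline : (∃ v, v ≠ 0 ∧ S ≤ FixL (unH 3 hF) v) → Good R.S S := fun ⟨v, hv, h1⟩ =>
    Or.inr (seven_of_four ((four_line hU hV hK R hv).mono (le_inf hS h1)) (seven_le_relIndex hsimple hnc hbig hsolv))
  have hS' := hS.trans R.Aut_le_SAut
  by_cases hnp : ∀ p : ℕ, p.Prime → (p : (unH 3 hF).EB) = 0 → NPar p R.S S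
  swap
  · push Not at hnp
    obtain ⟨p, hp, h0, h1⟩ := hnp
    exact hline (line_of_par hV hS' hsolv hp h0 h1)
  have H : Ctx R S := ⟨hss, hspan, hsimple, hnc, hbig, hcent, hS, hsolv, hm, hnp⟩
  by_cases hfr : ∃ D : Finset (unH 3 hF).EB, Fr D ∧ _root_.Cfsg.Agent.DS.Cl.Inv S D
  · obtain ⟨D, hD, hI⟩ := hfr
    exact (line_of_fr hV hS' hD hI).elim hline (Tor.rowU3a' _ R S D hU hV hK H hD hI)
  rcases hN _ _ _ R S hU hV hK H (fun D hD hI => hfr ⟨D, hD, hI⟩) with ⟨Z, h1, h2, h4, h5⟩ | ⟨Y, h1, h2⟩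
  · exact H.good_of_four (four_singer R hU hV hK h1 h4 h5 hS h2)
  · exact hE _ _ _ R S Y hU hV hK H h1 h2

/-- **The box of the groups of rank one**, modulo the two statements on `PSU₃(q)`. -/
theorem box_one_of (hN : NoFr3) (hE : Ext3) : Box fun K _ => RankOne K := by
  rintro K _ _ _ hK (⟨F, _, _, h4, ⟨e⟩⟩ | ⟨F, _, _, q, hF, hq, ⟨e⟩⟩ | h | h)
  · exact Row.of_equiv e (row_psl2 F h4)
  · have := e.symm.isSimpleGroup
    exact Row.of_equiv e (row_psu3 hN hE F hF hq fun h => hK ⟨⟨fun a b => e.injective (by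
      rw [map_mul, map_mul, h.1.1])⟩⟩)
  · exact box_sz K hK h
  · exact box_ree K hK h

end Cfsg.Agent.SB.R1
end

-- part: SB/R1/Main
section
/-!
# S5765: the box of the groups of rank one (helper61)
-/

set_option autoImplicit false

namespace Cfsg.Agent.SB.R1

theorem noFr3 : NoFr3 := by
  intro K V _ _ _ _ _ h F S hU hV hK hx hD
  rcases C2.nofrU hU hV.ge (fun _ => hK) hx hD with ⟨Z, h1, h2, h3, h4, -⟩ | ⟨-, h1⟩
  · exact Or.inl ⟨Z, h1, h2, h3, h4⟩
  · exact Or.inr h1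

theorem ext3 : Ext3 := fun _ _ _ _ _ _ _ h F S Y => Tor.rowU3d h F S Y

theorem box_one : Box fun K _ => RankOne K := box_one_of noFr3 ext3

end Cfsg.Agent.SB.R1
end

private theorem dce_55b45a9b77d9 : _root_.True := by
  try have : _root_.True := by simp only [_root_.Cfsg.Agent.SB.Tor.isoU.congr_simp]
  try have : _root_.True := by simp only [_root_.Cfsg.Agent.ClassicalGeometry.KleinCount.CommInv.four.congr_simp]
  exact _root_.True.intro
end

-- part: SB/D4/Main
section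
prune_inst 0x471600340056202000000001440001c46b2000000000804000ca2090204800e4208028860a930010000800004003400481200001000400000040000000118018000001000c04a0000000088000000000000000000000000000000000000000000000000000
set_option linter.all false
open scoped Cfsg.Agent.FastGrp

-- part: SB/D4/GAD2
section
/-!
# S5765, `PΩ₈⁺(q)` with triality: `O₄⁺(2) ≀ S₂` (helper52)
-/

set_option autoImplicit false
set_option linter.unusedSectionVars false

namespace Cfsg.Agent.SB.D4.G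

open QuadraticMap Module Cfsg.Agent.LieClassical.OrthCore
  Cfsg.Agent.ClassicalGeometry.OrthSemi Cfsg.Agent.H989.OutOrth.Basic

section

variable {F V : Type} [Field F] [AddCommGroup V] [Module F V] {Q : QuadraticForm F V}

theorem f2_eq_one (h : Nat.card F = 2) {c : F} (hc : c ≠ 0) : c = 1 := by
  obtain ⟨y, -, hy⟩ := (Nat.card_eq_two_iff' (0 : F)).1 h
  exact (hy c hc).trans (hy 1 one_ne_zero).symm

theorem f2_two (h : Nat.card F = 2) : (1 : F) + 1 = 0 := by
  by_contra h0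
  exact one_ne_zero (add_eq_left.1 (f2_eq_one h h0))

theorem f2_val (h : Nat.card F = 2) {W : Submodule F V} (hW : Aniso Q W) {x : V} (hx : x ∈ W) (h0 : x ≠ 0) :
    Q x = 1 := f2_eq_one h fun e => h0 (hW x hx e)

theorem f2_self (h : Nat.card F = 2) (x : V) : polar Q x x = 0 := by
  rw [polar_self, two_smul, ← one_mul (Q x), ← add_mul, f2_two h, zero_mul]

theorem f2_polar (h : Nat.card F = 2) {W : Submodule F V} (hW : Aniso Q W) {x y : V} (hx : x ∈ W) (hy : y ∈ W)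
    (H : Ind F x y) : polar Q x y = 1 := by
  have h1 := Q_add (Q := Q) x y
  rw [f2_val h hW (add_mem hx hy) H.add_ne, f2_val h hW hx H.left_ne, f2_val h hW hy H.right_ne, f2_two h,
    zero_add] at h1
  exact h1.symm

theorem d2_half [Finite V] (h : Nat.card F = 2) {P P' : Submodule F V} (hP : Aniso Q P) (hP' : Aniso Q P')
    (d1 : finrank F P = 2) (d2 : finrank F P' = 2) (ho : ∀ x ∈ P, ∀ y ∈ P', polar Q x y = 0) (hW : ND Q (P ⊔ P'))
    {a b c d : V} (ha : a ∈ P) (hb : b ∈ P) (hc : c ∈ P') (hd : d ∈ P') (H : Ind F a b) (H' : Ind F c d) {M : Gam Q}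
    (hM : IsSS Q (RingEquiv.refl F) (1 * 1) M.1) (hMW : ∀ x ∈ P ⊔ P', M.1 x ∈ P ⊔ P') (e1 : M.1 a = a)
    (e2 : M.1 c = c) (e3 : M.1 (b + d) = b + d) : ∀ x ∈ P ⊔ P', M.1 x = (1 : F) • x := by
  refine hyp hW hM hMW (u := a + c) (Submodule.add_mem_sup ha hc) ?_ fun z hz hz' => ?_
  · rw [Q_add, f2_val h hP ha H.left_ne, f2_val h hP' hc H'.left_ne, ho a ha c hc, f2_two h, add_zero]
  obtain ⟨x, hx, y, hy, rfl⟩ := Submodule.mem_sup.1 hz
  obtain ⟨s, t, rfl⟩ := span_two d1 ha hb H hx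
  obtain ⟨s', t', rfl⟩ := span_two d2 hc hd H' hy
  have o1 : polar Q c a = 0 := by rw [polar_comm]; exact ho a ha c hc
  have o2 : polar Q c b = 0 := by rw [polar_comm]; exact ho b hb c hc
  simp only [polar_add_left, polar_add_right, polar_smul_right, f2_self h, f2_polar h hP ha hb H,
    f2_polar h hP' hc hd H', ho a ha c hc, ho a ha d hd, o1, o2, smul_eq_mul, mul_zero, mul_one, zero_add,
    add_zero] at hz'
  have ht : t' = t := by linear_combination hz' - t * f2_two h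
  subst ht
  have e : s • a + t' • b + (s' • c + t' • d) = s • a + s' • c + t' • (b + d) := by module
  rw [e, hM.add, hM.add, hM.smul, hM.smul, hM.smul, e1, e2, e3, one_smul]
  rfl

theorem finrank_sup_of [Finite V] {ι : Type} {P : ι → Submodule F V} (hQ : Nondeg Q) (hD : Dec Q P) {i j : ι}
    (hij : i ≠ j) : finrank F ↥(P i ⊔ P j) = finrank F (P i) + finrank F (P j) := by
  have h1 := Submodule.finrank_sup_add_finrank_inf_eq (P i) (P j)
  have h2 : P i ⊓ P j = ⊥ := (Submodule.eq_bot_iff _).2 fun x hx => hD.infG hQ hij hx.1 hx.2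
  rwa [h2, finrank_bot, add_zero] at h1

theorem dec_pair {P : Fin 4 → Submodule F V} (hD : Dec Q P) : Dec Q ![P 0 ⊔ P 1, P 2 ⊔ P 3] := by
  have key : ∀ x ∈ P 0 ⊔ P 1, ∀ y ∈ P 2 ⊔ P 3, polar Q x y = 0 := by
    intro x hx y hy
    obtain ⟨a, ha, b, hb, rfl⟩ := Submodule.mem_sup.1 hx
    obtain ⟨c, hc, d, hd, rfl⟩ := Submodule.mem_sup.1 hy
    simp only [polar_add_left, polar_add_right, hD.orth 0 2 (by decide) a ha c hc, hD.orth 0 3 (by decide) a ha d hd,
      hD.orth 1 2 (by decide) b hb c hc, hD.orth 1 3 (by decide) b hb d hd, add_zero]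
  constructor
  · intro i j hij x hx y hy
    fin_cases i <;> fin_cases j
    · exact absurd rfl hij
    · exact key x hx y hy
    · rw [polar_comm]; exact key y hy x hx
    · exact absurd rfl hij
  · rw [eq_top_iff, ← hD.span]
    refine iSup_le fun i => ?_
    fin_cases i
    · exact le_iSup_of_le 0 le_sup_left
    · exact le_iSup_of_le 0 le_sup_right
    · exact le_iSup_of_le 1 le_sup_left
    · exact le_iSup_of_le 1 le_sup_right

end

theorem boxD2 : BoxD2 := by
  intro F V _ _ _ _ _ Q L P hQ h hD h2 hA hL hy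
  have bas : ∀ i, ∃ x ∈ P i, ∃ y ∈ P i, Ind F x y := fun i => by
    obtain ⟨x, hx, hx0⟩ := exists_ne_zero (W := P i) (by rw [h2]; omega)
    obtain ⟨y, hy, H⟩ := exists_ind (W := P i) (by rw [h2]) x hx0
    exact ⟨x, hx, y, hy, H⟩
  obtain ⟨a', ha', b', hb', H0⟩ := bas 0
  obtain ⟨c', hc', d', hd', H1⟩ := bas 1
  obtain ⟨a, ha, b, hb, H2⟩ := bas 2
  obtain ⟨c, hc, d, hd, H3⟩ := bas 3
  have hD' := dec_pair hD
  set W : Fin 2 → Submodule F V := ![P 0 ⊔ P 1, P 2 ⊔ P 3] with hWd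
  have h01 : (0 : Fin 2) ≠ 1 := by decide
  have h3 : ∀ i, 3 ≤ finrank F (W i) := fun i => by
    fin_cases i
    · exact (show 3 ≤ finrank F ↥(P 0 ⊔ P 1) by rw [finrank_sup_of hQ hD (by decide), h2, h2]; omega)
    · exact (show 3 ≤ finrank F ↥(P 2 ⊔ P 3) by rw [finrank_sup_of hQ hD (by decide), h2, h2]; omega)
  have sing : ∀ i j, i ≠ j → ∀ x ∈ P i, ∀ y ∈ P j, x ≠ 0 → y ≠ 0 → x + y ≠ 0 ∧ Q (x + y) = 0 := by
    intro i j hij x hx y hy hx0 hy0
    refine ⟨(hD.indG hQ hij hx hy hx0 hy0).add_ne, ?_⟩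
    rw [Q_add, f2_val h (hA i) hx hx0, f2_val h (hA j) hy hy0, hD.orth i j hij x hx y hy, f2_two h, add_zero]
  obtain ⟨n1, s1⟩ := sing 0 1 (by decide) a' ha' c' hc' H0.left_ne H1.left_ne
  obtain ⟨n2, s2⟩ := sing 0 1 (by decide) b' hb' d' hd' H0.right_ne H1.right_ne
  obtain ⟨n3, s3⟩ := sing 2 3 (by decide) b hb d hd H2.right_ne H3.right_ne
  have m1 : a' + c' ∈ W 0 := Submodule.add_mem_sup ha' hc'
  have m2 : b' + d' ∈ W 0 := Submodule.add_mem_sup hb' hd'
  have m3 : b + d ∈ W 1 := Submodule.add_mem_sup hb hd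
  have k1 : a ∈ W 1 := Submodule.mem_sup_left ha
  have k2 : c ∈ W 1 := Submodule.mem_sup_right hc
  have k3 : a' ∈ W 0 := Submodule.mem_sup_left ha'
  have qa : Q a ≠ 0 := fun e => H2.left_ne (hA 2 a ha e)
  have qc : Q c ≠ 0 := fun e => H3.left_ne (hA 3 c hc e)
  have qa' : Q a' ≠ 0 := fun e => H0.left_ne (hA 0 a' ha' e)
  have q1 : Q a = Q (a' + c' + a) := by rw [Q_add, s1, hD'.orth 0 1 h01 _ m1 _ k1, zero_add, add_zero]
  have q2 : Q c = Q (b' + d' + c) := by rw [Q_add, s2, hD'.orth 0 1 h01 _ m2 _ k2, zero_add, add_zero]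
  have q3 : Q a' = Q (b + d + a') := by rw [Q_add, s3, hD'.orth 1 0 h01.symm _ m3 _ k3, zero_add, add_zero]
  have hyL := hy c hc d hd H3.left_ne H3.right_ne
  have o : ∀ z ∈ P 3, polar Q (a' + c' + a) z = 0 := fun z hz => by
    rw [polar_add_left, hD'.orth 0 1 h01 _ m1 z (Submodule.mem_sup_right hz), hD.orth 2 3 (by decide) a ha z hz,
      add_zero]
  refine ⟨a' + c' + a, a, b' + d' + c, c, b + d + a', a', c, d, q1 ▸ qa, q1, q2 ▸ qc, q2, q3 ▸ qa', q3, qc, ?_, ?_,
    hyL, ?_, fun M hM c1 => fix_two hQ hD' h3 hL h01 m1 k1 n1 s1 qa hM c1, fun M hM c1 c2 c3 => ?_⟩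
  · rw [f2_val h (hA 3) hc H3.left_ne, f2_val h (hA 3) hd H3.right_ne]
  · rw [f2_polar h (hA 3) hc hd H3, f2_val h (hA 3) hc H3.left_ne]
    intro e
    exact one_ne_zero (α := F) (by linear_combination e + 2 * f2_two h)
  · rwa [cjv_comm (o c hc) (o d hd) (hD.orth 2 3 (by decide) a ha c hc) (hD.orth 2 3 (by decide) a ha d hd)]
  have f1 := fix_two hQ hD' h3 hL h01 m1 k1 n1 s1 qa hM c1
  have f2 := fix_two hQ hD' h3 hL h01 m2 k2 n2 s2 qc hM c2
  have f3 := fix_two hQ hD' h3 hL h01.symm m3 k3 n3 s3 qa' hM c3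
  have hMW := no_swap hQ hD' (hL M hM) (hL _ (inv_mem hM)) m1 k1 n1 s1 qa f1
  obtain ⟨l1, f1⟩ := f1
  obtain ⟨l2, f2⟩ := f2
  obtain ⟨l3, f3⟩ := f3
  obtain ⟨e1, e2⟩ := eig_two hQ hD' h01 (hMW 0) (hMW 1) m1 k1 f1
  obtain ⟨e3, e4⟩ := eig_two hQ hD' h01 (hMW 0) (hMW 1) m2 k2 f2
  obtain ⟨e5, e6⟩ := eig_two hQ hD' h01.symm (hMW 1) (hMW 0) m3 k3 f3
  obtain rfl := f2_eq_one h (eig_ne M n1 e1)
  obtain rfl := f2_eq_one h (eig_ne M n2 e3)
  obtain rfl := f2_eq_one h (eig_ne M n3 e5)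
  obtain ⟨σ, k, hσ⟩ := M.2
  have hS := isSS_of_eig hσ (aut_small (by omega) σ) qa e2
  rw [one_smul] at e1 e2 e3 e4 e5 e6
  have e7 : M.1 c' = c' := by rwa [gam_add, e6, add_right_inj] at e1
  refine scal_of_dec hD' (fun a x => hS.smul a x) (c := 1) fun i => ?_
  fin_cases i
  · exact d2_half h (hA 0) (hA 1) (h2 0) (h2 1) (hD.orth 0 1 (by decide)) (hD'.ndG hQ 0) ha' hb' hc' hd' H0 H1 hS
      (hMW 0) e6 e7 e3
  · exact d2_half h (hA 2) (hA 3) (h2 2) (h2 3) (hD.orth 2 3 (by decide)) (hD'.ndG hQ 1) ha hb hc hd H2 H3 hS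
      (hMW 1) e2 e4 e5

end Cfsg.Agent.SB.D4.G
end

-- part: SB/D4/GAD3
section
/-!
# S5765, `PΩ₈⁺(q)` with triality: `O₄⁺(3) ≀ S₂` (helper52)
-/

set_option autoImplicit false
set_option linter.unusedSectionVars false

namespace Cfsg.Agent.SB.D4.G

open QuadraticMap Module Cfsg.Agent.LieClassical.OrthCore
  Cfsg.Agent.ClassicalGeometry.OrthSemi Cfsg.Agent.H989.OutOrth.Basic

section

variable {F V : Type} [Field F] [AddCommGroup V] [Module F V] {Q : QuadraticForm F V}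

theorem ND.exists_dual {W : Submodule F V} (h : ND Q W) {e u : V} (he : e ∈ W) (hu : u ∈ W) (H : Ind F e u) :
    ∃ y ∈ W, polar Q e y = 0 ∧ polar Q u y = 1 := by
  obtain ⟨y, hy, hy'⟩ := h.exists_ne he H.left_ne
  obtain ⟨z, hz, hz'⟩ := h.exists_ne (add_mem hu (Submodule.smul_mem _ (-(polar Q u y / polar Q e y)) he))
    (H.add_right _).right_ne
  rw [polar_add_left, polar_smul_left, smul_eq_mul] at hz'
  refine ⟨(polar Q u z + -(polar Q u y / polar Q e y) * polar Q e z)⁻¹ • (z - (polar Q e z / polar Q e y) • y),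
    Submodule.smul_mem _ _ (sub_mem hz (Submodule.smul_mem _ _ hy)), ?_, ?_⟩
  · rw [polar_smul_right, polar_sub_right, polar_smul_right, smul_eq_mul (_ / _), div_mul_cancel₀ _ hy', sub_self,
      smul_zero]
  · rw [polar_smul_right, polar_sub_right, polar_smul_right, smul_eq_mul, smul_eq_mul, inv_mul_eq_one₀ hz']
    ring

theorem polar_sing {x : V} (h : Q x = 0) : polar Q x x = 0 := by rw [polar_self, h, smul_zero]

variable (Q) in
/-- a hyperbolic basis -/
structure HB (W : Submodule F V) (e f u w : V) : Prop where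
  me : e ∈ W
  mf : f ∈ W
  mu : u ∈ W
  mw : w ∈ W
  qe : Q e = 0
  qf : Q f = 0
  qu : Q u = 0
  qw : Q w = 0
  ef : polar Q e f = 1
  eu : polar Q e u = 0
  ew : polar Q e w = 0
  fu : polar Q f u = 0
  fw : polar Q f w = 0
  uw : polar Q u w = 1
  span : ∀ z ∈ W, ∃ a b c d : F, z = a • e + b • f + c • u + d • w

theorem exists_hb [Finite V] {W : Submodule F V} (h : ND Q W) (h4 : finrank F W = 4) (hT : HasTS Q W) :
    ∃ e f u w, HB Q W e f u w := by
  obtain ⟨e, he, u, hu, qe, qu, eu, e0, hne⟩ := hT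
  have H := ind_of_ne e0 hne
  obtain ⟨u₀, hu₀, a1, a2⟩ := h.exists_dual he hu H
  obtain ⟨f₀, hf₀, b1, b2⟩ := h.exists_dual hu he H.symm
  have ue : polar Q u e = 0 := by rw [polar_comm]; exact eu
  obtain ⟨f, mf, qf, ef, uf⟩ : ∃ f ∈ W, Q f = 0 ∧ polar Q e f = 1 ∧ polar Q u f = 0 := by
    refine ⟨f₀ + (-Q f₀) • e, add_mem hf₀ (Submodule.smul_mem _ _ he), ?_, ?_, ?_⟩
    · rw [Q_add, QuadraticMap.map_smul, qe, polar_smul_right, polar_comm, b2]; simp
    · rw [polar_add_right, polar_smul_right, polar_sing qe, b2]; simp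
    · rw [polar_add_right, polar_smul_right, ue, b1]; simp
  have fe : polar Q f e = 1 := by rw [polar_comm]; exact ef
  have fu : polar Q f u = 0 := by rw [polar_comm]; exact uf
  obtain ⟨u₁, hu₁, c1, c2, c3⟩ : ∃ w ∈ W, polar Q e w = 0 ∧ polar Q f w = 0 ∧ polar Q u w = 1 := by
    refine ⟨u₀ + (-polar Q f u₀) • e, add_mem hu₀ (Submodule.smul_mem _ _ he), ?_, ?_, ?_⟩
    · rw [polar_add_right, polar_smul_right, polar_sing qe, a1]; simp
    · rw [polar_add_right, polar_smul_right, fe]; simp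
    · rw [polar_add_right, polar_smul_right, ue, a2]; simp
  obtain ⟨w, mw, qw, ew, fw, uw⟩ : ∃ w ∈ W, Q w = 0 ∧ polar Q e w = 0 ∧ polar Q f w = 0 ∧ polar Q u w = 1 := by
    refine ⟨u₁ + (-Q u₁) • u, add_mem hu₁ (Submodule.smul_mem _ _ hu), ?_, ?_, ?_, ?_⟩
    · rw [Q_add, QuadraticMap.map_smul, qu, polar_smul_right, polar_comm, c3]; simp
    · rw [polar_add_right, polar_smul_right, eu, c1]; simp
    · rw [polar_add_right, polar_smul_right, fu, c2]; simp
    · rw [polar_add_right, polar_smul_right, polar_sing qu, c3]; simp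
  refine ⟨e, f, u, w, he, mf, hu, mw, qe, qf, qu, qw, ef, eu, ew, fu, fw, uw, fun z hz => ?_⟩
  have we : polar Q w e = 0 := by rw [polar_comm]; exact ew
  have wf : polar Q w f = 0 := by rw [polar_comm]; exact fw
  have wu : polar Q w u = 1 := by rw [polar_comm]; exact uw
  have h1 : LinearIndependent F ![e, f, u, w] := by
    rw [Fintype.linearIndependent_iff]
    intro g hg
    rw [Fin.sum_univ_four] at hg
    have hg' : g 0 • e + g 1 • f + g 2 • u + g 3 • w = 0 := hg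
    have k : ∀ y, g 0 * polar Q y e + g 1 * polar Q y f + g 2 * polar Q y u + g 3 * polar Q y w = 0 := fun y => by
      have := congrArg (polar Q y) hg'
      simpa only [polar_add_right, polar_smul_right, smul_eq_mul, polar_zero_right] using this
    have k1 := k e
    have k2 := k f
    have k3 := k u
    have k4 := k w
    simp only [polar_sing qe, polar_sing qf, polar_sing qu, polar_sing qw, ef, eu, ew, fe, fu, fw, ue, uf, uw, we, wf,
      wu, mul_zero, mul_one, add_zero, zero_add] at k1 k2 k3 k4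
    intro i
    fin_cases i
    exacts [k2, k1, k4, k3]
  have h3 : Submodule.span F (Set.range ![e, f, u, w]) = W := by
    apply Submodule.eq_of_le_of_finrank_eq
    · rw [Submodule.span_le]
      rintro _ ⟨i, rfl⟩
      fin_cases i
      exacts [he, mf, hu, mw]
    · rw [finrank_span_eq_card h1, h4]
      rfl
  rw [← h3, Submodule.mem_span_range_iff_exists_fun] at hz
  obtain ⟨g, hg⟩ := hz
  rw [Fin.sum_univ_four] at hg
  exact ⟨g 0, g 1, g 2, g 3, hg.symm⟩

theorem HB.all {W : Submodule F V} {e f u w : V} (H : HB Q W e f u w) (hW : ND Q W) {M : Gam Q} {c : F}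
    (hM : IsSS Q (RingEquiv.refl F) (c * c) M.1) (hMW : ∀ x ∈ W, M.1 x ∈ W) (e1 : M.1 e = c • e) (e2 : M.1 f = c • f)
    (e3 : M.1 u = c • u) : ∀ x ∈ W, M.1 x = c • x := by
  refine hyp hW hM hMW H.mu H.qu fun z hz hz' => ?_
  obtain ⟨a, b, s, d, rfl⟩ := H.span z hz
  have ue : polar Q u e = 0 := by rw [polar_comm]; exact H.eu
  have uf : polar Q u f = 0 := by rw [polar_comm]; exact H.fu
  simp only [polar_add_right, polar_smul_right, ue, uf, polar_sing H.qu, H.uw, smul_eq_mul, mul_zero, mul_one,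
    zero_add] at hz'
  rw [hz', zero_smul, add_zero, hM.add, hM.add, hM.smul, hM.smul, hM.smul, e1, e2, e3]
  simp only [RingEquiv.refl_apply]
  module

theorem HB.e_ne {W : Submodule F V} {e f u w : V} (H : HB Q W e f u w) : e ≠ 0 := fun h =>
  zero_ne_one (α := F) (by rw [← H.ef, h, polar_zero_left])

theorem HB.f_ne {W : Submodule F V} {e f u w : V} (H : HB Q W e f u w) : f ≠ 0 := fun h =>
  zero_ne_one (α := F) (by rw [← H.ef, h, polar_zero_right])

theorem HB.q1 {W : Submodule F V} {e f u w : V} (H : HB Q W e f u w) : Q (e + f) = 1 := by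
  rw [Q_add, H.qe, H.qf, H.ef, zero_add, zero_add]

theorem HB.q2 {W : Submodule F V} {e f u w : V} (H : HB Q W e f u w) : Q (e + f + u) = 1 := by
  rw [Q_add, H.q1, H.qu, polar_add_left, H.eu, H.fu, add_zero, add_zero, add_zero]

theorem f3_three [Finite F] (h : Nat.card F = 3) : (3 : F) = 0 := by
  have h1 : Nat.card F • (1 : F) = 0 := card_nsmul_eq_zero'
  rw [h] at h1
  simpa using h1

end

theorem boxD3 : BoxD3 := by
  intro F V _ _ _ _ _ Q L W hQ h hD h4 hT hL hy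
  obtain ⟨e, f, u, w, H⟩ := exists_hb (hD.ndG hQ 0) (h4 0) (hT 0)
  obtain ⟨e', f', x, x', H'⟩ := exists_hb (hD.ndG hQ 1) (h4 1) (hT 1)
  have h01 : (0 : Fin 2) ≠ 1 := by decide
  have h3 : ∀ i, 3 ≤ finrank F (W i) := fun i => by rw [h4]; omega
  have m1 : e' + f' ∈ W 1 := add_mem H'.me H'.mf
  have m2 : e' + f' + x ∈ W 1 := add_mem m1 H'.mu
  have m3 : e + f + u ∈ W 0 := add_mem (add_mem H.me H.mf) H.mu
  have n1 : Q (e' + f') ≠ 0 := by rw [H'.q1]; exact one_ne_zero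
  have n2 : Q (e' + f' + x) ≠ 0 := by rw [H'.q2]; exact one_ne_zero
  have n3 : Q (e + f + u) ≠ 0 := by rw [H.q2]; exact one_ne_zero
  have q1 : Q (e' + f') = Q (e + (e' + f')) := by
    rw [Q_add e, H.qe, hD.orth 0 1 h01 _ H.me _ m1, zero_add, add_zero]
  have q2 : Q (e' + f' + x) = Q (f + (e' + f' + x)) := by
    rw [Q_add f, H.qf, hD.orth 0 1 h01 _ H.mf _ m2, zero_add, add_zero]
  have q3 : Q (e + f + u) = Q (e' + (e + f + u)) := by
    rw [Q_add e', H'.qe, hD.orth 1 0 h01.symm _ H'.me _ m3, zero_add, add_zero]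
  have ma : e' + (-1 : F) • f' ∈ W 1 := add_mem H'.me (Submodule.smul_mem _ _ H'.mf)
  have mb : x + (-1 : F) • x' ∈ W 1 := add_mem H'.mu (Submodule.smul_mem _ _ H'.mw)
  have qa : Q (e' + (-1 : F) • f') = -1 := by
    rw [Q_add, QuadraticMap.map_smul, H'.qe, H'.qf, polar_smul_right, H'.ef]; simp
  have qb : Q (x + (-1 : F) • x') = -1 := by
    rw [Q_add, QuadraticMap.map_smul, H'.qu, H'.qw, polar_smul_right, H'.uw]; simp
  have qa' : Q (e' + (-1 : F) • f') ≠ 0 := by rw [qa]; simp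
  have hyL := hy _ ma _ mb qa' (qb.trans qa.symm)
  have fe : polar Q f' e' = 1 := by rw [polar_comm]; exact H'.ef
  have o1 : polar Q (e' + f') (e' + (-1 : F) • f') = 0 := by
    simp only [polar_add_left, polar_add_right, polar_smul_right, polar_sing H'.qe, polar_sing H'.qf, H'.ef, fe]
    simp
  have o2 : polar Q (e' + f') (x + (-1 : F) • x') = 0 := by
    simp only [polar_add_left, polar_add_right, polar_smul_right, H'.eu, H'.ew, H'.fu, H'.fw]
    simp
  refine ⟨e + (e' + f'), e' + f', f + (e' + f' + x), e' + f' + x, e' + (e + f + u), e + f + u, e' + (-1 : F) • f',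
    x + (-1 : F) • x', q1 ▸ n1, q1, q2 ▸ n2, q2, q3 ▸ n3, q3, qa', qb.trans qa.symm, ?_, hyL, ?_,
    fun M hM c1 => fix_two hQ hD h3 hL h01 H.me m1 H.e_ne H.qe n1 hM c1, fun M hM c1 c2 c3 => ?_⟩
  · simp only [polar_add_left, polar_add_right, polar_smul_right, polar_smul_left, H'.eu, H'.ew, H'.fu, H'.fw, qa]
    intro e
    exact one_ne_zero (α := F) (by simp only [smul_zero, add_zero] at e; linear_combination -e - f3_three h)
  · rwa [cjv_comm (by rw [polar_add_left, o1, hD.orth 0 1 h01 _ H.me _ ma, add_zero])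
      (by rw [polar_add_left, o2, hD.orth 0 1 h01 _ H.me _ mb, add_zero]) o1 o2]
  have f1 := fix_two hQ hD h3 hL h01 H.me m1 H.e_ne H.qe n1 hM c1
  have f2 := fix_two hQ hD h3 hL h01 H.mf m2 H.f_ne H.qf n2 hM c2
  have f3 := fix_two hQ hD h3 hL h01.symm H'.me m3 H'.e_ne H'.qe n3 hM c3
  have hMW := no_swap hQ hD (hL M hM) (hL _ (inv_mem hM)) H.me m1 H.e_ne H.qe n1 f1
  obtain ⟨l, f1⟩ := f1
  obtain ⟨l2, f2⟩ := f2
  obtain ⟨l3, f3⟩ := f3
  obtain ⟨e1, e2⟩ := eig_two hQ hD h01 (hMW 0) (hMW 1) H.me m1 f1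
  obtain ⟨e3, e4⟩ := eig_two hQ hD h01 (hMW 0) (hMW 1) H.mf m2 f2
  obtain ⟨e5, e6⟩ := eig_two hQ hD h01.symm (hMW 1) (hMW 0) H'.me m3 f3
  obtain ⟨σ, k, hσ⟩ := M.2
  have hS := isSS_of_eig hσ (aut_small (by omega) σ) n1 e2
  have k1 : l = l2 := by
    have := hS.polar e f
    rw [e1, e3, polar_smul_left, polar_smul_right, H.ef, map_one, mul_one, smul_eq_mul, smul_eq_mul, mul_one] at this
    exact (mul_left_cancel₀ (left_ne_zero_of_mul hS.ne) this).symm
  have k2 : l = l3 := by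
    have := hS.polar e' (e' + f')
    rw [e5, e2, polar_smul_left, polar_smul_right, polar_add_right, polar_sing H'.qe, H'.ef, zero_add, map_one,
      mul_one, smul_eq_mul, smul_eq_mul, mul_one] at this
    exact (mul_right_cancel₀ (left_ne_zero_of_mul hS.ne) this).symm
  subst k1 k2
  have e7 : M.1 u = l • u := by rwa [gam_add, gam_add, e1, e3, smul_add, smul_add, add_right_inj] at e6
  have e8 : M.1 f' = l • f' := by rwa [gam_add, e5, smul_add, add_right_inj] at e2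
  have e9 : M.1 x = l • x := by rwa [gam_add, e2, smul_add l (e' + f'), add_right_inj] at e4
  refine scal_of_dec hD (fun a x => hS.smul a x) (c := l) fun i => ?_
  fin_cases i
  · exact H.all (hD.ndG hQ 0) hS (hMW 0) e1 e3 e7
  · exact H'.all (hD.ndG hQ 1) hS (hMW 1) e5 e8 e9

end Cfsg.Agent.SB.D4.G
end

-- part: SB/D4/GA
section
/-!
# S5765, `PΩ₈⁺(q)` with triality: four planes (helper52)
-/

set_option autoImplicit false
set_option linter.unusedSectionVars false

namespace Cfsg.Agent.SB.D4.G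

open QuadraticMap Module Cfsg.Agent.LieClassical.OrthCore
  Cfsg.Agent.ClassicalGeometry.OrthSemi Cfsg.Agent.H989.OutOrth.Basic

section

variable {F V : Type} [Field F] [AddCommGroup V] [Module F V] {Q : QuadraticForm F V}

theorem ND.eq_zero_of_two [Finite V] {W : Submodule F V} (h : ND Q W) (h2 : finrank F W = 2) {x y z : V} (hx : x ∈ W)
    (hy : y ∈ W) (H : Ind F x y) (hz : z ∈ W) (h3 : polar Q z x = 0) (h4 : polar Q z y = 0) : z = 0 := by
  refine h z hz fun w hw => ?_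
  obtain ⟨s, t, rfl⟩ := span_two h2 hx hy H hw
  rw [polar_add_right, polar_smul_right, polar_smul_right, h3, h4, smul_zero, smul_zero, add_zero]

/-- avoiding a value -/
theorem ND.avoid [Finite F] [Finite V] {W : Submodule F V} (h : ND Q W) (h2 : finrank F W = 2) (h3 : 3 ≤ Nat.card F)
    {u : V} (hu : u ∈ W) (hu0 : u ≠ 0) (c : F) : ∃ u' ∈ W, Ind F u u' ∧ c + Q u' ≠ 0 := by
  by_contra hcon
  push Not at hcon
  obtain ⟨y, hy, H⟩ := exists_ind h2.ge u hu0
  obtain ⟨g, hg0, hg1⟩ : ∃ g : F, g ≠ 0 ∧ g ≠ 1 := by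
    by_contra hg
    push Not at hg
    have : Nat.card F = 2 := (Nat.card_eq_two_iff' (0 : F)).2 ⟨1, one_ne_zero, fun y hy => hg y hy⟩
    omega
  have k : ∀ t : F, c + (Q y + t * t * Q u + t * polar Q y u) = 0 := fun t => by
    have := hcon _ (add_mem hy (Submodule.smul_mem _ t hu)) (H.add_right t)
    rwa [Q_add, QuadraticMap.map_smul, polar_smul_right, smul_eq_mul, smul_eq_mul] at this
  have k1 : Q u = 0 := by
    have e : g * (g - 1) * Q u = 0 := by linear_combination k g - g * k 1 + (g - 1) * k 0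
    exact (mul_eq_zero.1 e).resolve_left (mul_ne_zero hg0 (sub_ne_zero.2 hg1))
  have k2 : polar Q y u = 0 := by linear_combination k 1 - k 0 - k1
  exact hu0 (h.eq_zero_of_two h2 hu hy H hu (polar_sing k1) (by rw [polar_comm]; exact k2))

theorem _root_.Cfsg.Agent.SB.D4.Dec.polar_sumG {ι : Type} [Fintype ι] {P : ι → Submodule F V} (hD : Dec Q P) {x : ι → V} (hx : ∀ i, x i ∈ P i)
    {i : ι} {y : V} (hy : y ∈ P i) : polar Q (∑ j, x j) y = polar Q (x i) y := by
  rw [← polarBilin_apply_apply, map_sum, LinearMap.sum_apply, Finset.sum_eq_single i]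
  · rfl
  · exact fun j _ hj => hD.orth j i hj _ (hx j) y hy
  · exact fun h => absurd (Finset.mem_univ i) h

theorem _root_.Cfsg.Agent.SB.D4.Dec.form_sumG {P : Fin 4 → Submodule F V} (hD : Dec Q P) {x : Fin 4 → V} (hx : ∀ i, x i ∈ P i) :
    Q (∑ j, x j) = Q (x 0) + Q (x 1) + Q (x 2) + Q (x 3) := by
  have o : ∀ i j, i ≠ j → polar Q (x i) (x j) = 0 := fun i j h => hD.orth i j h _ (hx i) _ (hx j)
  rw [Fin.sum_univ_four, Q_add, Q_add, Q_add]
  simp only [polar_add_left, o 0 1 (by decide), o 0 2 (by decide), o 0 3 (by decide), o 1 2 (by decide),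
    o 1 3 (by decide), o 2 3 (by decide), add_zero]

/-- a vector with exactly one zero component -/
theorem ga_fix {P : Fin 4 → Submodule F V} (hQ : Nondeg Q) (hD : Dec Q P) (h2 : ∀ i, finrank F (P i) = 2)
    {L : Subgroup (Gam Q)} (hL : Prm L P) {x : Fin 4 → V} (hx : ∀ i, x i ∈ P i) {i : Fin 4} (h0 : x i = 0)
    (h1 : ∀ j, j ≠ i → x j ≠ 0) (hv : Q (∑ j, x j) ≠ 0) {u : V} (hu : u ∈ P 0) {M : Gam Q} (hM : M ∈ L)
    (hc : cjv (∑ j, x j) u M ∈ L) : Fix M (∑ j, x j) ∧ ∀ y ∈ P i, M.1 y ∈ P i := by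
  have k : ∀ j, j ≠ i → ∃ z ∈ P j, polar Q (∑ j, x j) z ≠ 0 := fun j hj => by
    obtain ⟨z, hz, hz'⟩ := (hD.ndG hQ j).exists_ne (hx j) (h1 j hj)
    exact ⟨z, hz, by rwa [hD.polar_sumG hx hz]⟩
  have d : ∀ i : Fin 4, i + 1 ≠ i + 2 ∧ i + 1 ≠ i + 3 ∧ i + 2 ≠ i + 3 ∧ i + 1 ≠ i ∧ i + 2 ≠ i ∧ i + 3 ≠ i := by decide
  obtain ⟨d1, d2, d3, d4, d5, d6⟩ := d i
  have f := fix_planes hQ hD (fun i => (h2 i).ge) hL hv hu d1 d2 d3 (k _ d4) (k _ d5) (k _ d6) hM hc
  refine ⟨f, fix_block hQ hD (hL M hM) (hL _ (inv_mem hM)) f (exists_ne_zero (by rw [h2]; omega)) (fun y hy => ?_) k⟩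
  rw [hD.polar_sumG hx hy, h0, polar_zero_left]

theorem eig_plane [Finite V] {W : Submodule F V} (h2 : finrank F W = 2) {x y : V} (hx : x ∈ W) (hy : y ∈ W)
    (H : Ind F x y) {M : Gam Q} (hM : ∀ (a : F) (x : V), M.1 (a • x) = a • M.1 x) {c : F} (e1 : M.1 x = c • x)
    (e2 : M.1 y = c • y) : ∀ z ∈ W, M.1 z = c • z := by
  intro z hz
  obtain ⟨s, t, rfl⟩ := span_two h2 hx hy H hz
  rw [gam_add, hM, hM, e1, e2]
  module

end

theorem boxA : BoxA := by
  intro F V _ _ _ _ _ Q L P hQ hD h2 hL hq hy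
  have hav : ∀ i j k, ∀ u ∈ P i, ∀ x ∈ P j, ∀ y ∈ P k, u ≠ 0 → x ≠ 0 → y ≠ 0 →
      ∃ u' ∈ P i, Ind F u u' ∧ Q x + Q y + Q u' ≠ 0 := by
    intro i j k u hu x hx y hy hu0 hx0 hy0
    by_cases h3 : 3 ≤ Nat.card F
    · exact (hD.ndG hQ i).avoid (h2 i) h3 hu hu0 _
    have hA := hq.resolve_left h3
    have h : Nat.card F = 2 := by have := Finite.one_lt_card (α := F); omega
    obtain ⟨u', hu', H⟩ := exists_ind (h2 i).ge u hu0
    refine ⟨u', hu', H, ?_⟩
    rw [f2_val h (hA j) hx hx0, f2_val h (hA k) hy hy0, f2_val h (hA i) hu' H.right_ne, f2_two h, zero_add]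
    exact one_ne_zero
  obtain ⟨g, hg0, hg⟩ := exists_gen F
  obtain ⟨t1, mt1, qt1⟩ := (hD.ndG hQ 2).exists_nonsing (by rw [h2]; omega)
  have nt1 : t1 ≠ 0 := fun h0 => qt1 (by rw [h0, map_zero])
  obtain ⟨p1, mp1, qp1⟩ := (hD.ndG hQ 0).exists_val (h2 0).ge (g * Q t1)
  have np1 : p1 ≠ 0 := fun h0 => mul_ne_zero hg0 qt1 (by rw [← qp1, h0, map_zero])
  obtain ⟨s0, ms0, ns0⟩ := exists_ne_zero (W := P 1) (by rw [h2]; omega)
  obtain ⟨s1, ms1, Hs0, q1⟩ := hav 1 0 2 s0 ms0 p1 mp1 t1 mt1 ns0 np1 nt1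
  obtain ⟨s2, ms2, Hs⟩ := exists_ind (h2 1).ge s1 Hs0.right_ne
  obtain ⟨p2, mp2, Hp⟩ := exists_ind (h2 0).ge p1 np1
  obtain ⟨u0, mu0, nu0⟩ := exists_ne_zero (W := P 3) (by rw [h2]; omega)
  obtain ⟨u2, mu2, Hu0, q2⟩ := hav 3 0 1 u0 mu0 p2 mp2 s2 ms2 nu0 Hp.right_ne Hs.right_ne
  obtain ⟨u3, mu3, Hu⟩ := exists_ind (h2 3).ge u2 Hu0.right_ne
  obtain ⟨t3, mt3, Ht, q3⟩ := hav 2 1 3 t1 mt1 (s1 + s2) (add_mem ms1 ms2) u3 mu3 nt1 Hs.add_ne Hu.right_ne
  set X1 : Fin 4 → V := ![p1, s1, t1, 0] with hX1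
  set X2 : Fin 4 → V := ![p2, s2, 0, u2] with hX2
  set X3 : Fin 4 → V := ![0, s1 + s2, t3, u3] with hX3
  have m1 : ∀ i, X1 i ∈ P i := fun i => by fin_cases i; exacts [mp1, ms1, mt1, zero_mem _]
  have m2 : ∀ i, X2 i ∈ P i := fun i => by fin_cases i; exacts [mp2, ms2, zero_mem _, mu2]
  have m3 : ∀ i, X3 i ∈ P i := fun i => by fin_cases i; exacts [zero_mem _, add_mem ms1 ms2, mt3, mu3]
  have n1 : ∀ j, j ≠ 3 → X1 j ≠ 0 := fun j hj => by fin_cases j; exacts [np1, Hs.left_ne, nt1, absurd rfl hj]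
  have n2 : ∀ j, j ≠ 2 → X2 j ≠ 0 := fun j hj => by
    fin_cases j; exacts [Hp.right_ne, Hs.right_ne, absurd rfl hj, Hu.left_ne]
  have n3 : ∀ j, j ≠ 0 → X3 j ≠ 0 := fun j hj => by
    fin_cases j; exacts [absurd rfl hj, Hs.add_ne, Ht.right_ne, Hu.right_ne]
  have r1 : Q (∑ j, X1 j) ≠ 0 := by
    rw [hD.form_sumG m1]
    show Q p1 + Q s1 + Q t1 + Q 0 ≠ 0
    rw [map_zero]
    exact fun e => q1 (by linear_combination e)
  have r2 : Q (∑ j, X2 j) ≠ 0 := by
    rw [hD.form_sumG m2]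
    show Q p2 + Q s2 + Q 0 + Q u2 ≠ 0
    rw [map_zero]
    exact fun e => q2 (by linear_combination e)
  have r3 : Q (∑ j, X3 j) ≠ 0 := by
    rw [hD.form_sumG m3]
    show Q 0 + Q (s1 + s2) + Q t3 + Q u3 ≠ 0
    rw [map_zero]
    exact fun e => q3 (by linear_combination e)
  obtain ⟨c1, mc1, qc1⟩ := (hD.ndG hQ 0).exists_val (h2 0).ge (Q (∑ j, X1 j))
  obtain ⟨c2, mc2, qc2⟩ := (hD.ndG hQ 0).exists_val (h2 0).ge (Q (∑ j, X2 j))
  obtain ⟨c3, mc3, qc3⟩ := (hD.ndG hQ 0).exists_val (h2 0).ge (Q (∑ j, X3 j))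
  have o3 : ∀ z ∈ P 3, polar Q (∑ j, X1 j) z = 0 := fun z hz => by
    rw [hD.polar_sumG m1 hz]
    exact polar_zero_left _ _
  obtain ⟨a, b, qa, qb, hab, hyL, hyc⟩ : ∃ a b, Q a ≠ 0 ∧ Q b = Q a ∧ polar Q a b ^ 2 ≠ 4 * Q a ^ 2 ∧
      rr Q a * rr Q b ∈ L ∧ cjv (∑ j, X1 j) c1 (rr Q a * rr Q b) ∈ L := by
    rcases hy with ⟨a, ha, b, hb, qa, qb, hab, hyL⟩ | ⟨h20, hy⟩
    · refine ⟨a, b, qa, qb, hab, hyL, ?_⟩
      rwa [cjv_comm (o3 a ha) (o3 b hb) (hD.orth 0 3 (by decide) _ mc1 a ha) (hD.orth 0 3 (by decide) _ mc1 b hb)]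
    · set b := t3 + (-(polar Q t1 t3 / (2 * Q t1))) • t1 with hb
      have mb : b ∈ P 2 := add_mem mt3 (Submodule.smul_mem _ _ mt1)
      have Hb : Ind F t1 b := Ht.add_right _
      have ob : polar Q t1 b = 0 := by
        rw [hb, polar_add_right, polar_smul_right, polar_self, smul_eq_mul, nsmul_eq_mul, Nat.cast_ofNat, neg_mul,
          div_mul_cancel₀ _ (mul_ne_zero h20 qt1), add_neg_cancel]
      have qb : Q b ≠ 0 := fun e => Hb.right_ne
        ((hD.ndG hQ 2).eq_zero_of_two (h2 2) mt1 mb Hb mb (by rw [polar_comm]; exact ob) (polar_sing e))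
      obtain ⟨a, ha, qa⟩ := (hD.ndG hQ 3).exists_val (h2 3).ge (Q b)
      have hyL := hy a ha b mb (qa ▸ qb) qa.symm
      refine ⟨a, b, qa ▸ qb, qa.symm, ?_, hyL, ?_⟩
      · rw [hD.orth 3 2 (by decide) a ha b mb, qa]
        intro e
        have e' : (2 * Q b) ^ 2 = 0 := by linear_combination -e
        exact mul_ne_zero h20 qb (pow_eq_zero_iff two_ne_zero |>.1 e')
      · rwa [cjv_comm (o3 a ha) (by rw [hD.polar_sumG m1 mb]; exact ob) (hD.orth 0 3 (by decide) _ mc1 a ha)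
          (hD.orth 0 2 (by decide) _ mc1 b mb)]
  refine ⟨_, c1, _, c2, _, c3, a, b, r1, qc1, r2, qc2, r3, qc3, qa, qb, hab, hyL, hyc,
    fun M hM k1 => (ga_fix hQ hD h2 hL m1 (i := 3) rfl n1 r1 mc1 hM k1).1, fun M hM k1 k2 k3 => ?_⟩
  obtain ⟨⟨l1, f1⟩, b3⟩ := ga_fix hQ hD h2 hL m1 (i := 3) rfl n1 r1 mc1 hM k1
  obtain ⟨⟨l2, f2⟩, b2⟩ := ga_fix hQ hD h2 hL m2 (i := 2) rfl n2 r2 mc2 hM k2
  obtain ⟨⟨l, f3⟩, b0⟩ := ga_fix hQ hD h2 hL m3 (i := 0) rfl n3 r3 mc3 hM k3
  have b1 : ∀ y ∈ P 1, M.1 y ∈ P 1 := by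
    obtain ⟨j, hj⟩ := hL M hM 1
    by_cases e : j = 1
    · exact e ▸ hj
    exfalso
    have bj : ∀ y ∈ P j, M.1 y ∈ P j := by fin_cases j; exacts [b0, absurd rfl e, b2, b3]
    have h1 := Pm.inv_mem hQ hD (hL _ (inv_mem hM)) (exists_ne_zero (by rw [h2]; omega)) bj _ (hj s0 ms0)
    rw [gam_inv] at h1
    exact ns0 (hD.infG hQ e h1 ms0)
  have hMP : ∀ i, ∀ y ∈ P i, M.1 y ∈ P i := fun i => by fin_cases i; exacts [b0, b1, b2, b3]
  have e1 := eig_comp hQ hD hMP m1 f1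
  have e2 := eig_comp hQ hD hMP m2 f2
  have e3 := eig_comp hQ hD hMP m3 f3
  have es1 : M.1 s1 = l1 • s1 := e1 1
  have es2 : M.1 s2 = l2 • s2 := e2 1
  have es3 : M.1 (s1 + s2) = l • (s1 + s2) := e3 1
  rw [gam_add, es1, es2] at es3
  obtain ⟨rfl, rfl⟩ := Hs.eig es3
  obtain ⟨σ, k, hσ⟩ := M.2
  have ep1 : M.1 p1 = l2 • p1 := e1 0
  have et1 : M.1 t1 = l2 • t1 := e1 2
  have k1 := hσ.form p1
  have k2 := hσ.form t1
  rw [ep1, QuadraticMap.map_smul, qp1, map_mul, smul_eq_mul] at k1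
  rw [et1, QuadraticMap.map_smul, smul_eq_mul] at k2
  have k3 : σ g = g := by
    have e : (σ g - g) * (k * σ (Q t1)) = 0 := by linear_combination g * k2 - k1
    exact sub_eq_zero.1 ((mul_eq_zero.1 e).resolve_right (mul_ne_zero hσ.ne (by simpa using qt1)))
  have lin : ∀ (a : F) (x : V), M.1 (a • x) = a • M.1 x := fun a x => by rw [hσ.smul, hg σ k3]
  refine scal_of_dec hD lin (c := l2) fun i => ?_
  fin_cases i
  · exact eig_plane (h2 0) mp1 mp2 Hp lin ep1 (e2 0)
  · exact eig_plane (h2 1) ms1 ms2 Hs lin es1 es2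
  · exact eig_plane (h2 2) mt1 mt3 Ht lin et1 (e3 2)
  · exact eig_plane (h2 3) mu2 mu3 Hu lin (e2 3) (e3 3)

end Cfsg.Agent.SB.D4.G
end

-- part: SB/D4/GCB
section
/-!
# S5765, `PΩ₈⁺(q)` with triality: the torus `(q² + 1)²` (helper52)
-/

set_option autoImplicit false
set_option linter.unusedSectionVars false

namespace Cfsg.Agent.SB.D4.G

open QuadraticMap Module Cfsg.Agent.LieClassical.OrthCore
  Cfsg.Agent.ClassicalGeometry.OrthSemi Cfsg.Agent.H989.OutOrth.Basic

section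

variable {F V : Type} [Field F] [AddCommGroup V] [Module F V] {Q : QuadraticForm F V}

theorem gcb_pow (z : V ≃ₗ[F] V) {a : V} {c : F} (h : z a = c • a) (n : ℕ) : (z ^ n) a = c ^ n • a := by
  induction n with
  | zero => simp
  | succ n ih => rw [pow_succ, LinearEquiv.mul_apply, h, map_smul, ih, smul_smul, pow_succ']

theorem gcb_eq {X : Subgroup (V ≃ₗ[F] V)} {r : ℕ} (h1 : ∀ x ∈ X, x ^ r = 1) (h2 : ∀ c : F, c ^ r = 1 → c = 1)
    {y y' : V ≃ₗ[F] V} (hy : y ∈ X) (hy' : y' ∈ X) {a : V} (ha : a ≠ 0) {c d : F} (hc : c ≠ 0)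
    (h : c • y' a = d • y a) : c = d := by
  have h3 : (y⁻¹ * y') a = (c⁻¹ * d) • a := by
    have e : y' a = (c⁻¹ * d) • y a := by rw [mul_smul, ← h, smul_smul, inv_mul_cancel₀ hc, one_smul]
    rw [LinearEquiv.mul_apply, e, map_smul, ← LinearEquiv.mul_apply, inv_mul_cancel, LinearEquiv.coe_one, id]
  have h4 := gcb_pow _ h3 r
  rw [h1 _ (mul_mem (inv_mem hy) hy'), LinearEquiv.coe_one, id] at h4
  have h5 : (c⁻¹ * d) ^ r = 1 := by
    have e : (1 - (c⁻¹ * d) ^ r) • a = 0 := by rw [sub_smul, one_smul, ← h4, sub_self]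
    exact (sub_eq_zero.1 ((smul_eq_zero.1 e).resolve_right ha)).symm
  exact (inv_mul_eq_one₀ hc).1 (h2 _ h5)

theorem gcb_all {X : Subgroup (V ≃ₗ[F] V)} (hc : ∀ x ∈ X, ∀ y ∈ X, x * y = y * x) {W : Submodule F V}
    (hX : ∀ x ∈ X, ∀ w ∈ W, x w ∈ W) (h1 : ∀ U ≤ W, (∀ x ∈ X, ∀ w ∈ U, x w ∈ U) → U = ⊥ ∨ U = W)
    {x : V ≃ₗ[F] V} (hx : x ∈ X) (h2 : ∀ U ≤ W, (∀ w ∈ U, x w ∈ U) → U = ⊥ ∨ U = W) {M : Gam Q}
    (hM : ∀ (a : F) (x : V), M.1 (a • x) = a • M.1 x) (hMW : ∀ w ∈ W, M.1 w ∈ W) (hx' : conjLin M x ∈ X)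
    {a : V} (ha : a ∈ W) (ha0 : a ≠ 0) {c : F} (e1 : M.1 a = c • a) (e2 : M.1 (x a) = c • x a) :
    ∀ w ∈ W, M.1 w = c • w := by
  have hc0 := eig_ne M ha0 e1
  have e3 : conjLin M x a = x a := by
    have e := conjLin_apply' M x a
    rw [e1, e2, map_smul] at e
    exact smul_right_injective V hc0 e
  have k1 : ∀ w ∈ W, conjLin M x w = x w := by
    have := h1 (W ⊓ LinearMap.eqLocus (conjLin M x).toLinearMap x.toLinearMap) inf_le_left (by
      rintro y hy w ⟨hw, hw'⟩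
      refine ⟨hX y hy w hw, ?_⟩
      have hw2 : conjLin M x w = x w := hw'
      show conjLin M x (y w) = x (y w)
      rw [← LinearEquiv.mul_apply, hc _ hx' y hy, LinearEquiv.mul_apply, hw2, ← LinearEquiv.mul_apply, hc y hy x hx,
        LinearEquiv.mul_apply])
    rcases this with h | h
    · exact absurd ((Submodule.eq_bot_iff _).1 h a ⟨ha, e3⟩) ha0
    · intro w hw
      rw [← h] at hw
      exact hw.2
  have := h2 (W ⊓ eigS M hM c) inf_le_left (by
    rintro w ⟨hw, hw'⟩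
    refine ⟨hX x hx w hw, ?_⟩
    have hw2 : M.1 w = c • w := hw'
    show M.1 (x w) = c • x w
    rw [← conjLin_apply', k1 _ (hMW w hw), hw2, map_smul])
  rcases this with h | h
  · exact absurd ((Submodule.eq_bot_iff _).1 h a ⟨ha, e1⟩) ha0
  · intro w hw
    rw [← h] at hw
    exact hw.2

end

theorem boxB : BoxB := by
  intro F V _ _ _ _ _ Q L W X r hQ hD h4 hL hO hc hr hr' hX hnt hirr hirr' hN
  have h01 : (0 : Fin 2) ≠ 1 := by decide
  obtain ⟨a, ha, ha0, hQa⟩ := exists_sing (Q := Q) (W := W 0) (by rw [h4]; omega)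
  obtain ⟨b, hb, hQb⟩ := (hD.ndG hQ 1).exists_nonsing (by rw [h4]; omega)
  obtain ⟨x, hx, hx'⟩ := hnt 0
  obtain ⟨y, hy, hy'⟩ := hnt 1
  obtain ⟨g, hg0, hg⟩ := exists_gen F
  have hb0 : b ≠ 0 := fun h0 => hQb (by rw [h0, map_zero])
  have ma : x a ∈ W 0 := hX x hx 0 a ha
  have mb : g • y b ∈ W 1 := Submodule.smul_mem _ _ (hX y hy 1 b hb)
  have qa : Q (x a) = 0 := by rw [hO hx a, hQa]
  have qb : Q (g • y b) ≠ 0 := by
    rw [QuadraticMap.map_smul, hO hy b, smul_eq_mul]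
    exact mul_ne_zero (mul_ne_zero hg0 hg0) hQb
  have xa0 : x a ≠ 0 := by simpa using ha0
  have q1 : Q b = Q (a + b) := by rw [Q_add, hQa, hD.orth 0 1 h01 a ha b hb, zero_add, add_zero]
  have q2 : Q (g • y b) = Q (x a + g • y b) := by rw [Q_add, qa, hD.orth 0 1 h01 _ ma _ mb, zero_add, add_zero]
  refine ⟨a + b, b, x a + g • y b, g • y b, q1 ▸ hQb, q1, q2 ▸ qb, q2, fun M hM c1 c2 => ?_⟩
  have h3 : ∀ i, 3 ≤ finrank F (W i) := fun i => by rw [h4]; omega
  have f1 := fix_two hQ hD h3 hL h01 ha hb ha0 hQa hQb hM c1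
  have f2 := fix_two hQ hD h3 hL h01 ma mb xa0 qa qb hM c2
  have hMW := no_swap hQ hD (hL M hM) (hL _ (inv_mem hM)) ha hb ha0 hQa hQb f1
  obtain ⟨l, f1⟩ := f1
  obtain ⟨m, f2⟩ := f2
  obtain ⟨e1, e2⟩ := eig_two hQ hD h01 (hMW 0) (hMW 1) ha hb f1
  obtain ⟨e3, e4⟩ := eig_two hQ hD h01 (hMW 0) (hMW 1) ma mb f2
  have hl := eig_ne M ha0 e1
  obtain ⟨σ, k, hσ⟩ := M.2
  have k1 : l = m := by
    refine gcb_eq hr hr' hx (hN M hM x hx) ha0 hl ?_
    rw [← map_smul, ← e1, conjLin_apply', e3]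
  subst k1
  have hσg : σ g ≠ 0 := by simpa using hg0
  have k2 : σ g * l = l * g := by
    refine gcb_eq hr hr' hy (hN M hM y hy) hb0 (mul_ne_zero hσg hl) ?_
    rw [mul_smul, ← map_smul, ← e2, conjLin_apply', ← hσ.smul, e4, smul_smul]
  have k3 := hg σ (by rw [mul_comm] at k2; exact mul_left_cancel₀ hl k2)
  have lin : ∀ (a : F) (x : V), M.1 (a • x) = a • M.1 x := fun a x => by rw [hσ.smul, k3]
  have e5 : M.1 (y b) = l • y b := by
    rw [lin, smul_comm] at e4
    exact smul_right_injective V hg0 e4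
  refine scal_of_dec hD lin (c := l) fun i => ?_
  fin_cases i
  · exact gcb_all hc (fun x hx => hX x hx 0) (hirr 0) hx (hirr' x hx 0 hx') lin (hMW 0) (hN M hM x hx) ha ha0 e1 e3
  · exact gcb_all hc (fun x hx => hX x hx 1) (hirr 1) hy (hirr' y hy 1 hy') lin (hMW 1) (hN M hM y hy) hb hb0 e2 e5

end Cfsg.Agent.SB.D4.G
end

-- part: SB/D4/GC
section
/-!
# S5765, `PΩ₈⁺(q)` with triality: `GU₃(q) × O₂⁻(q)` (helper52)
-/

set_option autoImplicit false
set_option linter.unusedSectionVars false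

namespace Cfsg.Agent.SB.D4.G

open QuadraticMap Module Cfsg.Agent.LieClassical.OrthCore
  Cfsg.Agent.ClassicalGeometry.OrthSemi Cfsg.Agent.H989.OutOrth.Basic

section

variable {F V : Type} [Field F] [AddCommGroup V] [Module F V] {Q : QuadraticForm F V}

variable (Q) in
/-- a quadratic isometry of `W` -/
structure QI (W : Submodule F V) (J : V ≃ₗ[F] V) (t : F) : Prop where
  iso : J ∈ O Q
  sq : ∀ x ∈ W, J (J x) = t • J x - x
  n1 : 2 - t ≠ 0
  n2 : 2 + t ≠ 0

variable {W : Submodule F V} {J : V ≃ₗ[F] V} {t : F}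

theorem QI.form (H : QI Q W J t) (x : V) : Q (J x) = Q x := H.iso x

theorem QI.polar (H : QI Q W J t) (x y : V) : polar Q (J x) (J y) = polar Q x y := by
  simp only [QuadraticMap.polar, ← map_add, H.form]

theorem QI.self (H : QI Q W J t) {u : V} (hu : u ∈ W) : QuadraticMap.polar Q u (J u) = t * Q u := by
  have h1 := H.form (J u)
  have h2 := H.polar u (J u)
  rw [H.sq u hu] at h1 h2
  rw [sub_eq_add_neg, Q_add, QuadraticMap.map_smul, QuadraticMap.map_neg, H.form, polar_neg_right, polar_smul_left,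
    polar_comm, smul_eq_mul, smul_eq_mul] at h1
  rw [polar_sub_right, polar_smul_right, polar_self, H.form, polar_comm, smul_eq_mul, nsmul_eq_mul] at h2
  push_cast at h2
  have e : (2 - t) * (QuadraticMap.polar Q u (J u) - t * Q u) = 0 := by linear_combination -h2 + h1
  exact sub_eq_zero.1 ((mul_eq_zero.1 e).resolve_left H.n1)

theorem QI.perp (H : QI Q W J t) {e x : V} (he : e ∈ W) (h1 : QuadraticMap.polar Q e x = 0)
    (h2 : QuadraticMap.polar Q (J e) x = 0) : QuadraticMap.polar Q e (J x) = 0 := by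
  have h3 := H.polar (J e) x
  rw [H.sq e he, polar_sub_left, polar_smul_left, H.polar, h1, h2, smul_zero, zero_sub, neg_eq_zero] at h3
  exact h3

theorem QI.add_ne (H : QI Q W J t) {e x : V} (he : e ∈ W) (qe : Q e ≠ 0) (h1 : QuadraticMap.polar Q e x = 0)
    (h2 : QuadraticMap.polar Q (J e) x = 0) : e + x ≠ 0 := by
  intro h
  rw [← neg_eq_of_add_eq_zero_right h, polar_neg_right, neg_eq_zero] at h1 h2
  rw [polar_self, nsmul_eq_mul] at h1
  rw [polar_comm, H.self he] at h2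
  push_cast at h1
  exact mul_ne_zero H.n1 qe (by linear_combination h1 - h2)

theorem QI.split [Finite V] (H : QI Q W J t) {U : Submodule F V} (hUW : U ≤ W) (hUJ : ∀ x ∈ U, J x ∈ U) (hU : ND Q U)
    {e : V} (he : e ∈ U) (qe : Q e ≠ 0) : ∃ U' ≤ U, (∀ x ∈ U', J x ∈ U') ∧ ND Q U' ∧ finrank F U' + 2 = finrank F U ∧
      (∀ x ∈ U', QuadraticMap.polar Q e x = 0 ∧ QuadraticMap.polar Q (J e) x = 0) ∧
      ∀ z ∈ U, ∃ a b : F, ∃ y ∈ U', z = a • e + b • J e + y := by
  set U' : Submodule F V := U ⊓ (LinearMap.ker (polarBilin Q e) ⊓ LinearMap.ker (polarBilin Q (J e))) with hU'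
  have mem : ∀ x, x ∈ U' ↔ x ∈ U ∧ QuadraticMap.polar Q e x = 0 ∧ QuadraticMap.polar Q (J e) x = 0 := fun x => Iff.rfl
  have p1 : QuadraticMap.polar Q e e = 2 * Q e := by rw [polar_self, nsmul_eq_mul]; rfl
  have p2 : QuadraticMap.polar Q e (J e) = t * Q e := H.self (hUW he)
  have p3 : QuadraticMap.polar Q (J e) e = t * Q e := by rw [polar_comm, p2]
  have p4 : QuadraticMap.polar Q (J e) (J e) = 2 * Q e := by rw [H.polar, p1]
  have hd : (2 - t) * (2 + t) * Q e ≠ 0 := mul_ne_zero (mul_ne_zero H.n1 H.n2) qe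
  have zero : ∀ a b : F, QuadraticMap.polar Q e (a • e + b • J e) = 0 →
      QuadraticMap.polar Q (J e) (a • e + b • J e) = 0 → a = 0 ∧ b = 0 := by
    intro a b h1 h2
    simp only [polar_add_right, polar_smul_right, p1, p2, p3, p4, smul_eq_mul] at h1 h2
    exact ⟨(mul_eq_zero.1 (show _ * a = 0 by linear_combination 2 * h1 - t * h2)).resolve_left hd,
      (mul_eq_zero.1 (show _ * b = 0 by linear_combination 2 * h2 - t * h1)).resolve_left hd⟩
  have dec : ∀ z ∈ U, ∃ a b : F, ∃ y ∈ U', z = a • e + b • J e + y := by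
    intro z hz
    set a := (2 * QuadraticMap.polar Q e z - t * QuadraticMap.polar Q (J e) z) / ((2 - t) * (2 + t) * Q e) with ha
    set b := (2 * QuadraticMap.polar Q (J e) z - t * QuadraticMap.polar Q e z) / ((2 - t) * (2 + t) * Q e) with hb
    have ha' := (eq_div_iff hd).1 ha
    have hb' := (eq_div_iff hd).1 hb
    have hd' : (2 - t) * (2 + t) ≠ 0 := mul_ne_zero H.n1 H.n2
    refine ⟨a, b, z - (a • e + b • J e), (mem _).2 ⟨sub_mem hz (add_mem (Submodule.smul_mem _ _ he)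
      (Submodule.smul_mem _ _ (hUJ e he))), ?_, ?_⟩, by abel⟩
    · simp only [polar_sub_right, polar_add_right, polar_smul_right, p1, p2, smul_eq_mul]
      exact (mul_eq_zero.1 (show (2 - t) * (2 + t) * _ = 0 by linear_combination -2 * ha' - t * hb')).resolve_left hd'
    · simp only [polar_sub_right, polar_add_right, polar_smul_right, p3, p4, smul_eq_mul]
      exact (mul_eq_zero.1 (show (2 - t) * (2 + t) * _ = 0 by linear_combination -2 * hb' - t * ha')).resolve_left hd'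
  refine ⟨U', inf_le_left, fun x hx => ?_, fun x hx h => ?_, ?_, fun x hx => ((mem x).1 hx).2, dec⟩
  · obtain ⟨h1, h2, h3⟩ := (mem x).1 hx
    exact (mem _).2 ⟨hUJ x h1, H.perp (hUW he) h2 h3, by rw [H.polar, h2]⟩
  · obtain ⟨h1, h2, h3⟩ := (mem x).1 hx
    refine hU x h1 fun z hz => ?_
    obtain ⟨a, b, y, hy, rfl⟩ := dec z hz
    rw [polar_add_right, polar_add_right, polar_smul_right, polar_smul_right, h y hy, polar_comm _ x e, h2,
      polar_comm _ x (J e), h3, smul_zero, smul_zero, add_zero, add_zero]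
  · have h1 : LinearIndependent F ![e, J e] := LinearIndependent.pair_iff.2 fun a b hab =>
      zero a b (by rw [hab, polar_zero_right]) (by rw [hab, polar_zero_right])
    have h2 : finrank F (Submodule.span F (Set.range ![e, J e])) = 2 := by rw [finrank_span_eq_card h1]; rfl
    rw [Matrix.range_cons, Matrix.range_cons, Matrix.range_empty, Set.union_empty, Set.singleton_union] at h2
    have h3 := Submodule.finrank_sup_add_finrank_inf_eq U' (Submodule.span F {e, J e})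
    have h4 : U' ⊓ Submodule.span F {e, J e} = ⊥ := (Submodule.eq_bot_iff _).2 fun x hx => by
      obtain ⟨a, b, rfl⟩ := Submodule.mem_span_pair.1 hx.2
      obtain ⟨-, k1, k2⟩ := (mem _).1 hx.1
      obtain ⟨rfl, rfl⟩ := zero a b k1 k2
      simp
    have h5 : U' ⊔ Submodule.span F {e, J e} = U := by
      refine le_antisymm (sup_le inf_le_left (Submodule.span_le.2 ?_)) fun z hz => ?_
      · rintro x (rfl | rfl)
        exacts [he, hUJ e he]
      · obtain ⟨a, b, y, hy, rfl⟩ := dec z hz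
        rw [add_comm]
        exact Submodule.add_mem_sup hy (Submodule.mem_span_pair.2 ⟨a, b, rfl⟩)
    rw [h4, h5, h2, finrank_bot, add_zero] at h3
    exact h3.symm

theorem dec_two {W P : Submodule F V} (ho : ∀ x ∈ W, ∀ y ∈ P, polar Q x y = 0) (hs : W ⊔ P = ⊤) : Dec Q ![W, P] := by
  constructor
  · intro i j hij x hx y hy
    fin_cases i <;> fin_cases j
    · exact absurd rfl hij
    · exact ho x hx y hy
    · rw [polar_comm]; exact ho y hy x hx
    · exact absurd rfl hij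
  · rw [eq_top_iff, ← hs]
    exact sup_le (le_iSup_of_le 0 le_rfl) (le_iSup_of_le 1 le_rfl)

theorem fix_fixed {ι : Type} {P : ι → Submodule F V} (hQ : Nondeg Q) (hD : Dec Q P) {L : Subgroup (Gam Q)}
    (hL : ∀ M ∈ L, ∀ i, ∀ x ∈ P i, M.1 x ∈ P i) {i j : ι} (hij : i ≠ j) {a b : V} (ha : a ∈ P i) (hb : b ∈ P j)
    (ha0 : a ≠ 0) (hQa : Q a = 0) (hQb : Q b ≠ 0) {M : Gam Q} (hM : M ∈ L) (hc : cjv (a + b) b M ∈ L) :
    ∃ c : F, M.1 a = c • a ∧ M.1 b = c • b := by
  have hv : Q (a + b) ≠ 0 := by rwa [Q_add, hQa, hD.orth i j hij a ha b hb, zero_add, add_zero]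
  have key : ∀ k, ∀ x ∈ P k, (rr Q (M.1 (a + b)) * rr Q (a + b)).1 x ∈ P k := by
    intro k x hx
    rw [rr_eq_cjv hv b]
    exact hL M hM k _ (hD.rr_memG hb k _ (hL _ (inv_mem hc) k _ (hD.rr_memG hb k x hx)))
  obtain ⟨c, h⟩ := la_two_fixed hQ hD hij ha hb ha0 hQa hQb (key i) (key j)
  exact ⟨c, eig_two hQ hD hij (hL M hM i) (hL M hM j) ha hb h⟩

end

theorem boxC : BoxC := by
  intro F V _ _ _ _ _ Q L W P J t hQ h3 ho hs h6 h2 hA hJ hJW hJ2 ht hL hy
  have H : QI Q W J t := ⟨hJ, hJ2, fun e => ht 1 (by linear_combination e), fun e => ht (-1) (by linear_combination e)⟩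
  have hD := dec_two ho hs
  have h01 : (0 : Fin 2) ≠ 1 := by decide
  have hW : ND Q W := hD.ndG hQ 0
  have hm : (-1 : F) ≠ 0 := by simp
  obtain ⟨e1, m1, q1⟩ := hW.exists_val (by omega) 1
  obtain ⟨U1, l1, j1, n1, d1, o1, s1⟩ := H.split le_rfl hJW hW m1 (by rw [q1]; exact one_ne_zero)
  obtain ⟨e2, m2, q2⟩ := n1.exists_val (by omega) (-1)
  obtain ⟨U2, l2, j2, n2, d2, o2, s2⟩ := H.split l1 j1 n1 m2 (by rw [q2]; exact hm)
  obtain ⟨e3, m3, q3⟩ := n2.exists_val (by omega) (-1)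
  obtain ⟨U3, l3, j3, n3, d3, o3, s3⟩ := H.split (l2.trans l1) j2 n2 m3 (by rw [q3]; exact hm)
  obtain rfl : U3 = ⊥ := Submodule.finrank_eq_zero.1 (by omega)
  have w2 : e2 ∈ W := l1 m2
  have w3 : e3 ∈ W := l1 (l2 m3)
  obtain ⟨a12, b12⟩ := o1 e2 m2
  obtain ⟨c12, d12⟩ := o1 _ (j1 e2 m2)
  obtain ⟨a13, b13⟩ := o1 e3 (l2 m3)
  obtain ⟨c13, d13⟩ := o1 _ (j1 e3 (l2 m3))
  obtain ⟨a23, b23⟩ := o2 e3 m3
  obtain ⟨c23, d23⟩ := o2 _ (j2 e3 m3)
  obtain ⟨b1, mb1, nb1⟩ := exists_ne_zero (W := P) (by omega)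
  obtain ⟨b2, mb2, Hb⟩ := exists_ind h2.ge b1 nb1
  have mb3 : b1 + b2 ∈ P := add_mem mb1 mb2
  have qb1 : Q b1 ≠ 0 := fun e => nb1 (hA _ mb1 e)
  have qb2 : Q b2 ≠ 0 := fun e => Hb.right_ne (hA _ mb2 e)
  have qb3 : Q (b1 + b2) ≠ 0 := fun e => Hb.add_ne (hA _ mb3 e)
  have ma1 : e1 + e2 ∈ W := add_mem m1 w2
  have ma2 : J e1 + e3 ∈ W := add_mem (hJW _ m1) w3
  have ma3 : e1 + J e2 ∈ W := add_mem m1 (hJW _ w2)
  have qa1 : Q (e1 + e2) = 0 := by rw [Q_add, q1, q2, a12]; ring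
  have qa2 : Q (J e1 + e3) = 0 := by rw [Q_add, H.form, q1, q3, b13]; ring
  have qa3 : Q (e1 + J e2) = 0 := by rw [Q_add, H.form, q1, q2, c12]; ring
  have qe1 : Q e1 ≠ 0 := by rw [q1]; exact one_ne_zero
  have qe3 : Q e3 ≠ 0 := by rw [q3]; exact hm
  have na1 : e1 + e2 ≠ 0 := H.add_ne m1 qe1 a12 b12
  have na2 : J e1 + e3 ≠ 0 := by
    rw [add_comm]
    exact H.add_ne w3 qe3 (by rw [polar_comm]; exact b13) (by rw [polar_comm]; exact d13)
  have na3 : e1 + J e2 ≠ 0 := H.add_ne m1 qe1 c12 d12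
  have r : ∀ a ∈ W, ∀ b ∈ P, Q a = 0 → Q b = Q (a + b) := fun a ha b hb h => by
    rw [Q_add, h, ho a ha b hb, zero_add, add_zero]
  have r1 := r _ ma1 _ mb1 qa1
  have r2 := r _ ma2 _ mb2 qa2
  have r3 := r _ ma3 _ mb3 qa3
  have hL' : ∀ M ∈ L, ∀ i, ∀ x ∈ (![W, P] : Fin 2 → Submodule F V) i, M.1 x ∈ (![W, P] : Fin 2 → Submodule F V) i := by
    intro M hM i
    fin_cases i
    exacts [(hL M hM).1, (hL M hM).2.1]
  have hyL := hy e3 w3 qe3
  have op : ∀ x ∈ W, polar Q b1 x = 0 := fun x hx => by rw [polar_comm]; exact ho x hx b1 mb1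
  refine ⟨e1 + e2 + b1, b1, J e1 + e3 + b2, b2, e1 + J e2 + (b1 + b2), b1 + b2, e3, J e3, r1 ▸ qb1, r1, r2 ▸ qb2, r2,
    r3 ▸ qb3, r3, qe3, H.form e3, ?_, hyL, ?_, fun M hM c1 => ?_, fun M hM c1 c2 c3 => ?_⟩
  · rw [H.self w3, q3]
    exact fun e => mul_ne_zero H.n1 H.n2 (by linear_combination -e)
  · rwa [cjv_comm (by rw [polar_add_left, polar_add_left, a13, a23, op _ w3, add_zero, add_zero])
      (by rw [polar_add_left, polar_add_left, c13, c23, op _ (hJW _ w3), add_zero, add_zero]) (op _ w3)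
      (op _ (hJW _ w3))]
  · obtain ⟨c, k1, k2⟩ := fix_fixed hQ hD hL' h01 ma1 mb1 na1 qa1 qb1 hM c1
    exact ⟨c, by rw [gam_add, k1, k2, ← smul_add]⟩
  obtain ⟨c, k1, k2⟩ := fix_fixed hQ hD hL' h01 ma1 mb1 na1 qa1 qb1 hM c1
  obtain ⟨c', k3, k4⟩ := fix_fixed hQ hD hL' h01 ma2 mb2 na2 qa2 qb2 hM c2
  obtain ⟨l, k5, k6⟩ := fix_fixed hQ hD hL' h01 ma3 mb3 na3 qa3 qb3 hM c3
  rw [gam_add, k2, k4] at k6
  obtain ⟨rfl, rfl⟩ := Hb.eig k6
  obtain ⟨σ, k, hσ⟩ := M.2
  have hS := isSS_of_eig hσ (aut_small h3 σ) qb1 k2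
  have lin : ∀ (a : F) (x : V), M.1 (a • x) = a • M.1 x := fun a x => hS.smul a x
  refine scal_of_dec hD lin (c := c') fun i => ?_
  fin_cases i
  swap
  · exact eig_plane h2 mb1 mb2 Hb lin k2 k4
  rcases (hL M hM).2.2 with hc | hc
  · have inv : ∀ x ∈ W, x ∈ eigS M lin c' → J x ∈ eigS M lin c' := fun x hx h => by
      rw [mem_eigS] at h ⊢
      rw [hc x hx, h, map_smul]
    have g1 : e2 - J e2 ∈ eigS M lin c' := by
      have e : e2 - J e2 = (e1 + e2) - (e1 + J e2) := by abel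
      rw [e]
      exact sub_mem k1 k5
    have g2 : e2 ∈ eigS M lin c' := by
      have e : e2 = (2 - t)⁻¹ • ((1 - t) • (e2 - J e2) + J (e2 - J e2)) := by
        have e' : (1 - t) • (e2 - J e2) + J (e2 - J e2) = (2 - t) • e2 := by
          rw [map_sub, hJ2 e2 w2]; module
        rw [e', smul_smul, inv_mul_cancel₀ H.n1, one_smul]
      rw [e]
      exact Submodule.smul_mem _ _ (add_mem (Submodule.smul_mem _ _ g1) (inv _ (sub_mem w2 (hJW _ w2)) g1))
    have g3 : e1 ∈ eigS M lin c' := (add_mem_cancel_right g2).1 k1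
    have g4 : e3 ∈ eigS M lin c' := (add_mem_cancel_left (inv _ m1 g3)).1 k3
    have g : ∀ x ∈ W, x ∈ eigS M lin c' → ∀ a b : F, a • x + b • J x ∈ eigS M lin c' := fun x hx h a b =>
      add_mem (Submodule.smul_mem _ _ h) (Submodule.smul_mem _ _ (inv x hx h))
    intro z hz
    obtain ⟨x1, y1, z1, hz1, rfl⟩ := s1 z hz
    obtain ⟨x2, y2, z2, hz2, rfl⟩ := s2 z1 hz1
    obtain ⟨x3, y3, z3, hz3, rfl⟩ := s3 z2 hz2
    rw [(Submodule.mem_bot F).1 hz3, add_zero]
    exact add_mem (g _ m1 g3 _ _) (add_mem (g _ w2 g2 _ _) (g _ w3 g4 _ _))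
  · exfalso
    have p1 := hS.polar (J (e1 + e2)) (J e1 + e3)
    rw [← H.polar, hc _ ma1, k1, k3, map_smul, polar_smul_left, polar_smul_right, RingEquiv.refl_apply, smul_smul,
      smul_eq_mul, map_add, map_add, hJ2 e1 m1] at p1
    have p2 := mul_left_cancel₀ hS.ne p1
    have a21 : polar Q e2 e1 = 0 := by rw [polar_comm]; exact a12
    have b21 : polar Q e2 (J e1) = 0 := by rw [polar_comm]; exact b12
    simp only [polar_add_left, polar_add_right, polar_sub_right, polar_smul_right, H.polar, H.self m1, polar_self, q1,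
      a21, b21, c13, c23, b13, b23, smul_eq_mul, nsmul_eq_mul] at p2
    push_cast at p2
    exact mul_ne_zero H.n1 H.n2 (by linear_combination -p2)

end Cfsg.Agent.SB.D4.G
end

-- part: SB/Br/Five
section
/-!
# S5765: the simple group of order 25920 (helper98)
-/

set_option autoImplicit false

namespace Cfsg.Agent.SB.Br

open Subgroup Cfsg Cfsg.Agent.H786.FC

theorem five {G : Type*} [Group G] [Finite G] [Group.IsSolvable G] (R : Subgroup G) [R.Normal] (hR : R.index ≤ 2)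
    (hG : Nat.card G ∣ 51840)
    (h23 : ∀ r : ℕ, r = 2 ∨ r = 3 → ∀ Q : Subgroup G, Q.Normal → Q ≤ R → IsPGroup r Q → Q = ⊥) :
    Nat.card G ≤ 40 ∧ Nat.card (fittingSubgroup G) ≤ 10 ∧
      ∀ c ∈ fittingSubgroup G, (orderOf c).Prime → (zpowers c).Normal := by
  have h5 : Fact (Nat.Prime 5) := ⟨by norm_num⟩
  have hFn : (fittingSubgroup G).Normal := Lib.Cores.fittingSubgroup_normal
  have hFl : Group.IsNilpotent (fittingSubgroup G) := Lib.Cores.fittingSubgroup_isNilpotent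
  have hX := Lib.Cores.pCore_normal (G := G) 5
  have hcard : ∀ r : ℕ, r.Prime → ∀ Q : Subgroup G, IsPGroup r Q → r ≠ 2 → r ≠ 3 →
      Nat.card Q ∣ r ∧ (r ≠ 5 → Q = ⊥) := by
    intro r hr Q hQ h2 h3
    have : Fact r.Prime := ⟨hr⟩
    obtain ⟨k, hk⟩ := IsPGroup.iff_card.1 hQ
    have h1 : r ^ k ∣ 2 ^ 7 * 3 ^ 4 * 5 := by
      rw [← hk]
      exact (card_subgroup_dvd_card Q).trans hG
    have h4 : r ^ k ∣ 5 := (Nat.Coprime.mul_right
      (Nat.Coprime.pow _ _ ((Nat.coprime_primes hr Nat.prime_two).2 h2))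
      (Nat.Coprime.pow _ _ ((Nat.coprime_primes hr Nat.prime_three).2 h3))).dvd_of_dvd_mul_left h1
    by_cases h6 : r = 5
    · exact ⟨by rw [hk]; exact h4.trans (by rw [h6]), fun h => absurd h6 h⟩
    · have h7 : r ^ k = 1 := Nat.Coprime.eq_one_of_dvd
        (Nat.Coprime.pow_left _ ((Nat.coprime_primes hr h5.out).2 h6)) h4
      rw [hk, h7]
      exact ⟨one_dvd _, fun _ => card_eq_one.1 (hk.trans h7)⟩
  have hinf : ∀ r : ℕ, r.Prime → r ≠ 5 → ∀ Q : Subgroup G, Q.Normal → IsPGroup r Q → Q ⊓ R = ⊥ := by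
    intro r hr hr5 Q hQn hQ
    by_cases h : r = 2 ∨ r = 3
    · exact h23 r h _ inferInstance inf_le_right hQ.to_inf_left
    · push Not at h
      rw [(hcard r hr Q hQ h.1 h.2).2 hr5, bot_inf_eq]
  have hle : ∀ Q : Subgroup G, Nat.card Q ≤ Nat.card ↥(Q ⊓ R) * 2 := fun Q =>
    (R1.card_le_inf_mul_index inferInstance).trans (Nat.mul_le_mul_left _ hR)
  have htwo : ∀ r : ℕ, r.Prime → r ≠ 5 → ∀ Q : Subgroup G, Q.Normal → IsPGroup r Q → Nat.card Q ≤ 2 := by
    intro r hr hr5 Q hQn hQ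
    have h1 := hle Q
    rwa [hinf r hr hr5 Q hQn hQ, card_bot, one_mul] at h1
  have hX5 := (hcard 5 h5.out _ (Lib.Cores.pCore_isPGroup 5) (by norm_num) (by norm_num)).1
  have hF : Nat.card (fittingSubgroup G) ≤ 10 := by
    have h1 : fittingSubgroup G ⊓ R ≤ pCore 5 G := by
      refine DS.NT.le_of_sylow (Group.nilpotent_of_mulEquiv (subgroupOfEquivOfLe (inf_le_left (b := R)))) fun r hr Q hQn hQ hQp => ?_
      by_cases hr5 : r = 5
      · subst hr5
        exact Lib.Cores.le_pCore hQn hQp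
      · rw [← inf_of_le_left (hQ.trans inf_le_right), hinf r hr hr5 Q hQn hQp]
        exact bot_le
    have h2 := (card_le_of_le h1).trans (Nat.le_of_dvd (by norm_num) hX5)
    have h3 := hle (fittingSubgroup G)
    omega
  refine ⟨?_, hF, fun c hc hp => ?_⟩
  · let f : G →* MulAut (pCore 5 G) := MulAut.conjNormal
    have h1 : f.ker ≤ fittingSubgroup G := by
      refine le_trans (fun s hs => ?_) S0044.result
      have h2 : fittingSubgroup G ≤ centralizer {s} := by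
        refine DS.NT.le_of_sylow hFl fun r hr Q hQn _ hQp x hx => ?_
        rw [mem_centralizer_singleton_iff]
        by_cases hr5 : r = 5
        · subst hr5
          have h3 : s * x * s⁻¹ = x :=
            congrArg Subtype.val (DFunLike.congr_fun (MonoidHom.mem_ker.1 hs)
              (⟨x, Lib.Cores.le_pCore hQn hQp hx⟩ : pCore 5 G))
          exact (mul_inv_eq_iff_eq_mul.1 h3).symm
        · by_contra h3
          have h4 := htwo r hr hr5 Q hQn hQp
          have h6 : x ≠ 1 := by rintro rfl; exact h3 (by rw [one_mul, mul_one])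
          have h7 : s * x * s⁻¹ ≠ 1 := fun h => h6 (by simpa using h)
          have h8 : s * x * s⁻¹ ≠ x := fun h => h3 (mul_inv_eq_iff_eq_mul.1 h).symm
          have h9 : 2 < Nat.card Q := by
            have := Fintype.ofFinite Q
            rw [Nat.card_eq_fintype_card, Fintype.two_lt_card_iff]
            exact ⟨1, ⟨x, hx⟩, ⟨_, hQn.conj_mem x hx s⟩, fun h => h6 (congrArg Subtype.val h).symm,
              fun h => h7 (congrArg Subtype.val h).symm, fun h => h8 (congrArg Subtype.val h).symm⟩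
          omega
      exact mem_centralizer_iff.2 fun x hx => mem_centralizer_singleton_iff.1 (h2 hx)
    have h2 : Nat.card (MulAut (pCore 5 G)) ≤ 4 := by
      have : IsCyclic (pCore 5 G) := isCyclic_of_card_dvd_prime hX5
      rw [IsCyclic.card_mulAut]
      rcases (Nat.dvd_prime h5.out).1 hX5 with h | h <;> rw [h] <;> decide
    have h3 := f.ker.card_mul_index
    have h4 : f.ker.index ≤ 4 := by
      rw [index_ker]
      exact (card_le_card_group _).trans h2
    have h6 := (card_le_of_le h1).trans hF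
    calc Nat.card G = _ := h3.symm
      _ ≤ 10 * 4 := Nat.mul_le_mul h6 h4
  · have : Fact (orderOf c).Prime := ⟨hp⟩
    have h1 : zpowers c ≤ pCore (orderOf c) G := by
      have h2 : IsPGroup (orderOf c) ((zpowers c).subgroupOf (fittingSubgroup G)) :=
        (IsPGroup.of_card (n := 1) (by rw [Nat.card_zpowers, pow_one])).comap_of_injective _
          (fittingSubgroup G).subtype_injective
      obtain ⟨P, hP⟩ := h2.exists_le_sylow
      have hPn : (P : Subgroup (fittingSubgroup G)).Normal := inferInstance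
      have hPc := P.characteristic_of_normal hPn
      refine le_trans ?_ (Lib.Cores.le_pCore (N := (P : Subgroup (fittingSubgroup G)).map (fittingSubgroup G).subtype)
        inferInstance (P.isPGroup'.map _))
      rw [zpowers_le]
      exact ⟨⟨c, hc⟩, hP (mem_subgroupOf.2 (mem_zpowers c)), rfl⟩
    have h2 : Nat.card (pCore (orderOf c) G) ≤ orderOf c := by
      by_cases h : orderOf c = 5
      · rw [h]
        exact Nat.le_of_dvd (by norm_num) hX5
      · exact (htwo _ hp h _ (Lib.Cores.pCore_normal _) (Lib.Cores.pCore_isPGroup _)).trans hp.two_le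
    rw [eq_of_le_of_card_ge h1 (by rwa [Nat.card_zpowers])]
    exact Lib.Cores.pCore_normal _

theorem good_five {A : Type*} [Group A] [Finite A] {T S : Subgroup A} (hT : AS T) (hc : Nat.card T = 25920)
    (hi : T.index = 2) (hS : Group.IsSolvable S) (hm : MaxInv T S) (h2 : NPar 2 T S) (h3 : NPar 3 T S) : Good T S := by
  have hn := hT.normal
  have hA : Nat.card A = 51840 := by rw [← T.card_mul_index, hc, hi]
  obtain ⟨h4, h5, h6⟩ := five (T.subgroupOf S)
    ((Nat.le_of_dvd (by omega) (relIndex_dvd_index_of_normal T S)).trans hi.le)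
    (hA ▸ card_subgroup_dvd_card S) (fun r hr Q hQn hQ hQp => by
      have h7 : NPar r T S := by rcases hr with rfl | rfl; exacts [h2, h3]
      refine (Subgroup.map_eq_bot_iff_of_injective _ S.subtype_injective).1 (h7 _ ?_ (hQp.map _) ?_)
      · rintro _ ⟨x, hx, rfl⟩
        exact ⟨x.2, hQ hx⟩
      · rintro s hs _ ⟨x, hx, rfl⟩
        exact ⟨_, hQn.conj_mem x hx ⟨s, hs⟩, rfl⟩)
  have h7 : Nat.card ↥(S ⊓ T) ≤ 40 := (card_le_of_le inf_le_left).trans h4
  refine Or.inl (R1.fitReg_of_bound hn 648 ?_ ?_)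
  · rintro _ ⟨c, hc', rfl⟩ hp
    have hp' : (orderOf c).Prime := by rwa [← orderOf_injective S.subtype S.subtype_injective]
    have h8 := h6 c hc' hp'
    have h9 : T ⊓ centralizer {(c : A)} ≤ S := by
      intro t ht
      refine hm.mem_of_centralizes hT (X := (zpowers c).map S.subtype) ?_
        (fun h => hT.not_le hS (h.trans (map_subtype_le _))) ?_ ht.1 ?_
      · rw [Ne, Subgroup.map_eq_bot_iff_of_injective _ S.subtype_injective, zpowers_eq_bot]
        rintro rfl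
        rw [orderOf_one] at hp'
        exact Nat.not_prime_one hp'
      · rintro s hs _ ⟨x, hx, rfl⟩
        exact ⟨_, h8.conj_mem x hx ⟨s, hs⟩, rfl⟩
      · rintro _ ⟨_, ⟨k, rfl⟩, rfl⟩
        exact ((show Commute t (c : A) from mem_centralizer_singleton_iff.1 ht.2).zpow_right k).eq
    have h10 := cls_mul_card T (c : A)
    have h11 := (card_le_of_le h9).trans h4
    change 648 ≤ cls T (c : A)
    by_contra h12
    have h13 := Nat.mul_le_mul h11 (show cls T (c : A) ≤ 647 by omega)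
    omega
  · rw [card_fit]
    exact (Nat.mul_le_mul h5 h7).trans (by norm_num)

/-- the group of order `25920` -/
theorem row_five (hP : BoxPar) (K : Type) [Group K] [Finite K] [IsSimpleGroup K] (hK : ¬ IsMulCommutative K)
    (h1 : ¬ RankOne K) (h2 : IsLieTypeChar 2 K) (h3 : IsLieTypeChar 3 K) (hc : Nat.card K = 25920)
    (ha : Nat.card (MulAut K) = 2 * 25920) : Row K := by
  intro S hS hm
  by_cases h4 : NPar 2 (InnG K) S
  swap
  · exact hP 2 K hK h1 h2 S hS hm h4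
  by_cases h5 : NPar 3 (InnG K) S
  swap
  · exact hP 3 K hK h1 h3 S hS hm h5
  have h6 : Nat.card (InnG K) = 25920 := (R1.card_inn hK).trans hc
  refine good_five (as_inn hK) h6 ?_ hS hm h4 h5
  have h7 := (InnG K).card_mul_index
  rw [h6, ha] at h7
  omega

end Cfsg.Agent.SB.Br
end

-- part: SB/Br/Main
section
/-!
# S5765, classical groups: the bridge (helper98)
-/

set_option autoImplicit false

namespace Cfsg.Agent.SB.Br

open Subgroup Cfsg Cfsg.Agent.H786.FC Cfsg.Agent.SB.Cl Cfsg.Agent.DS.Cl.Fwd Module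
open Cfsg.Agent.DS.Cl (FR SS Lmax Lmin)

section transport

variable {A : Type} [Ring A] [StarRing A]

/-- **Transport** from the form ring to the automorphism group. -/
theorem good_of_modE {F : FR A} {T : Type} [Group T] [IsSimpleGroup T] (hT : ¬ IsMulCommutative T)
    (hbig : 360 < Nat.card T) {Γ : Set (MulAut T)} (hmod : ModE F T Γ)
    (hcent : F.Span → IsSimpleGroup F.S → ¬ IsMulCommutative F.S → ∀ γ ∈ F.Aut, (∀ s ∈ F.S, γ * s = s * γ) → γ = 1)
    {p : ℕ} (hp : ∀ p' : ℕ, p'.Prime → (p' : A) = 0 → p' = p) (hmain : ∀ S', Ctx F S' → Good F.S S')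
    {S : Subgroup (MulAut T)} (hΓ : ∀ α ∈ S, α ∈ Γ) (hS : Group.IsSolvable S) (hm : MaxInv (InnG T) S)
    (hn : NPar p (InnG T) S) : Good (InnG T) S := by
  obtain ⟨hss, hspan, e, hΓ'⟩ := hmod
  have hsimple : IsSimpleGroup F.S := e.isSimpleGroup
  have hnc : ¬ IsMulCommutative F.S := fun h => hT ⟨⟨fun a b => by
    obtain ⟨a, rfl⟩ := e.surjective a
    obtain ⟨b, rfl⟩ := e.surjective b
    rw [← map_mul, ← map_mul, h.1.1 a b]⟩⟩
  have hle : F.Aut ≤ normalizer (F.S : Set (RingAut A)) := fun γ hγ => by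
    rw [mem_normalizer_iff]
    refine fun s => ⟨FR.conj_mem_S hγ, fun h => ?_⟩
    have h1 := FR.conj_mem_S (inv_mem hγ) h
    simpa [mul_assoc] using h1
  let θ : F.Aut →* MulAut T :=
    (MulAut.congr e).toMonoidHom.comp (F.S.normalizerMonoidHom.comp (inclusion hle))
  have hθ : ∀ (γ : F.Aut) (s t : F.S), (t : RingAut A) = γ * s * (γ : RingAut A)⁻¹ → θ γ (e s) = e t := by
    intro γ s t h
    change e (F.S.normalizerMonoidHom (inclusion hle γ) (e.symm (e s))) = e t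
    rw [e.symm_apply_apply]
    exact congrArg e (Subtype.ext h.symm)
  have hinj : Function.Injective θ := by
    rw [injective_iff_map_eq_one]
    intro γ hγ
    refine Subtype.ext (hcent hspan hsimple hnc γ γ.2 fun s hs => ?_)
    have h1 := hθ γ ⟨s, hs⟩ ⟨_, FR.conj_mem_S γ.2 hs⟩ rfl
    rw [hγ] at h1
    exact mul_inv_eq_iff_eq_mul.1 (congrArg Subtype.val (e.injective h1)).symm
  have hsub : ∀ s : F.S, θ ⟨s, F.S_le_Aut s.2⟩ = MulAut.conj (e s) := fun s => by
    refine MulEquiv.ext fun x => ?_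
    obtain ⟨t, rfl⟩ := e.surjective x
    rw [hθ ⟨s, F.S_le_Aut s.2⟩ t (s * t * s⁻¹) rfl, map_mul, map_mul, map_inv]
    rfl
  have h1 : (F.S.subgroupOf F.Aut).map θ = InnG T := by
    ext α
    constructor
    · rintro ⟨γ, hγ, rfl⟩
      exact ⟨e ⟨γ, hγ⟩, (hsub ⟨γ, hγ⟩).symm⟩
    · rintro ⟨x, rfl⟩
      obtain ⟨s, rfl⟩ := e.surjective x
      exact ⟨_, s.2, hsub s⟩
  have h2 : (S.comap θ).map θ = S := by
    refine map_comap_eq_self fun α hα => ?_
    obtain ⟨γ, hγ, h⟩ := hΓ' α (hΓ α hα)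
    refine ⟨⟨γ, hγ⟩, MulEquiv.ext fun x => ?_⟩
    obtain ⟨s, rfl⟩ := e.surjective x
    rw [hθ ⟨γ, hγ⟩ s ⟨_, FR.conj_mem_S hγ s.2⟩ rfl]
    exact h s _ rfl
  have h3 : (F.S.subgroupOf F.Aut).map F.Aut.subtype = F.S := map_subgroupOf_eq_of_le F.S_le_Aut
  have h4 : Group.IsSolvable (S.comap θ) :=
    Group.isSolvable_of_isSolvable_injective (f := θ.subgroupComap S) fun a b h =>
      Subtype.ext (hinj (congrArg Subtype.val h))
  rw [← h1, ← h2] at hm hn ⊢
  refine Good.map θ hinj (Good.of_map F.Aut.subtype F.Aut.subtype_injective ?_)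
  have h5 := (hm.of_map θ hinj).map F.Aut.subtype F.Aut.subtype_injective
  have h6 := (hn.of_map θ hinj).map F.Aut.subtype F.Aut.subtype_injective
  rw [h3] at h5 h6 ⊢
  exact hmain _ ⟨hss, hspan, hsimple, hnc, by rwa [Nat.card_congr e.toEquiv], hcent hspan hsimple hnc,
    map_subtype_le _, Group.isSolvable_of_surjective (F.Aut.subtype.subgroupMap_surjective _), h5,
    fun p' hp' h0 => by rwa [hp p' hp' h0]⟩

theorem char_eq {K : Type} [Field K] [Finite K] (p : ℕ) [CharP K p] {p' : ℕ} (hp' : p'.Prime) (h : (p' : K) = 0) :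
    p' = p := by
  have hp : p.Prime := CharP.char_is_prime K p
  exact ((Nat.prime_dvd_prime_iff_eq hp hp').1 ((CharP.cast_eq_zero_iff K p p').1 h)).symm

theorem char_EB {K V : Type} [Field K] [Finite K] [AddCommGroup V] [Module K V] [Nontrivial V] (h : HF K V) (p : ℕ)
    [CharP K p] (p' : ℕ) (hp' : p'.Prime) (h0 : (p' : h.EB) = 0) : p' = p := by
  refine char_eq (K := K) p hp' ?_
  obtain ⟨v, hv⟩ := exists_ne (0 : V)
  have h1 : (p' : Module.End K V) v = 0 := LinearMap.congr_fun (show (p' : Module.End K V) = 0 from h0) v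
  rw [Module.End.natCast_apply, ← Nat.cast_smul_eq_nsmul K] at h1
  exact (smul_eq_zero.1 h1).resolve_right hv

end transport

section families

variable {T : Type} [Group T]

theorem rowN_L (hL : MainL) (p : ℕ) (F : Type) [Field F] [Fintype F] [CharP F p] {n : ℕ} (hn : 3 ≤ n)
    (h4 : n ≤ 4 → 3 ≤ Nat.card F) [IsSimpleGroup (Matrix.ProjectiveSpecialLinearGroup (Fin n) F)]
    (hT : ¬ IsMulCommutative (Matrix.ProjectiveSpecialLinearGroup (Fin n) F))
    (hbig : 360 < Nat.card (Matrix.ProjectiveSpecialLinearGroup (Fin n) F)) :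
    RowN p (Matrix.ProjectiveSpecialLinearGroup (Fin n) F) := by
  intro S hS hm hnp
  obtain ⟨R, hR⟩ := modL F n (by omega) (by omega)
  refine good_of_modE hT hbig hR (cent_LR hn R) (fun p' hp' h0 => char_eq (K := F) p hp' ?_)
    (fun S' h => hL F n R S' hn h4 h) (fun _ _ => trivial) hS hm hnp
  let i : Fin n := ⟨0, by omega⟩
  have h1 : (p' : Matrix (Fin n) (Fin n) F) = 0 := congrArg Prod.fst h0
  have h2 := congrFun (congrFun h1 i) i
  rwa [Matrix.natCast_apply, if_pos rfl] at h2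

open Cfsg.Agent.LieClassical.HermBasic in
theorem rowN_U (hU : MainU) (p : ℕ) (F : Type) [Field F] [Fintype F] [CharP F p] {n q : ℕ}
    (hF : Fintype.card F = q ^ 2) (hn : 4 ≤ n) (h4 : n = 4 → q ≠ 2) [IsSimpleGroup (PSU n F q)]
    (hT : ¬ IsMulCommutative (PSU n F q)) (hbig : 360 < Nat.card (PSU n F q)) : RowN p (PSU n F q) := by
  intro S hS hm hnp
  obtain ⟨R, hRL, hR⟩ := modU F n q hF (by omega) (by omega)
  have : Nonempty (Fin n) := ⟨⟨0, by omega⟩⟩
  have h01 : (⟨0, by omega⟩ : Fin n) ≠ ⟨1, by omega⟩ := by simp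
  have h23 : (⟨2, by omega⟩ : Fin n) ≠ ⟨3, by omega⟩ := by simp
  obtain ⟨e₁, f₁, a₁, b₁, -, he₁, -, h11, -, hef₁⟩ := LieClassical.HermGen.exists_hyp_pair hF h01
  obtain ⟨e₂, f₂, a₂, b₂, -, he₂, hf₂, h22, hff, hef₂⟩ := LieClassical.HermGen.exists_hyp_pair hF h23
  have h1 : hermForm n F q e₁ (Pi.single ⟨2, by omega⟩ 1) = 0 := by
    rw [herm_single_right hF, he₁]
    simp
  have h2 : hermForm n F q e₁ e₂ = 0 := by
    rw [he₂, herm_add_right hF, herm_smul_right, h1, herm_single_right hF, he₁]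
    simp
  refine good_of_modE hT hbig hR (fun a b c => cent_HF (unH n hF) R a b c (e₁ := e₁) (e₂ := f₂) (f₂ := e₂) ?_ h11 hff
    h22 ?_ h2 (by change hermForm n F q e₂ f₂ ≠ 0; rw [hef₂]; exact one_ne_zero) (Or.inl hRL))
    (char_EB (unH n hF) p) (fun S' h => hU F _ (unH n hF) R S' ⟨rfl, exists_not_fixed hF⟩ ?_ ?_ h)
    (fun _ _ => trivial) hS hm hnp
  · rintro rfl
    exact zero_ne_one ((herm_zero_left f₁).symm.trans hef₁)
  · change hermForm n F q e₁ f₂ = 0
    rw [hf₂, herm_add_right hF, herm_smul_right, h1, h2, mul_zero, add_zero]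
  · rwa [Module.finrank_fin_fun]
  · rw [Module.finrank_fin_fun, Nat.card_eq_fintype_card, hF]
    intro h5 h6
    exact h4 h5 (Nat.pow_left_injective two_ne_zero (show q ^ 2 = 2 ^ 2 from h6))

open Cfsg.Agent.ClassicalGeometry.SympBasic in
/-- symplectic groups, semilinear automorphisms -/
theorem good_Sp (hSp : MainSp) (p : ℕ) (F : Type) [Field F] [Fintype F] [CharP F p] {m : ℕ} (hm : 2 ≤ m)
    (h4 : m = 2 → 4 ≤ Fintype.card F) [IsSimpleGroup (PSp m F)] (hT : ¬ IsMulCommutative (PSp m F))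
    (hbig : 360 < Nat.card (PSp m F)) {S : Subgroup (MulAut (PSp m F))}
    (hΓ : S ≤ (ClassicalGeometry.SympAutSemi.Psi m F).range) (hS : Group.IsSolvable S) (hmx : MaxInv (InnG _) S)
    (hnp : NPar p (InnG _) S) : Good (InnG _) S := by
  obtain ⟨R, hRL, hR⟩ := modSp F m hm (fun h => by have := h4 h; omega)
  have : Nonempty (Fin m ⊕ Fin m) := ⟨Sum.inl ⟨0, by omega⟩⟩
  have h1 : finrank F (Fin m ⊕ Fin m → F) = m + m := by
    rw [Module.finrank_fintype_fun_eq_card, Fintype.card_sum, Fintype.card_fin]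
  refine good_of_modE hT hbig hR (fun a b c => cent_HF (spH m F) R a b c (e₁ := Pi.single (Sum.inl ⟨0, by omega⟩) 1)
    (e₂ := Pi.single (Sum.inl ⟨1, by omega⟩) 1) (f₂ := Pi.single (Sum.inr ⟨1, by omega⟩) 1) (by simp)
    (sympForm_self _) (sympForm_self _) (sympForm_self _) ?_ ?_ ?_ (Or.inl hRL))
    (char_EB (spH m F) p) (fun S' h => hSp F _ (spH m F) R S' ⟨fun _ => rfl, sympForm_self, hRL⟩ (by omega) ?_ h)
    hΓ hS hmx hnp
  · exact (sympForm_single_inl_right _ _).trans (by simp)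
  · exact (sympForm_single_inr_right _ _).trans (by simp)
  · change sympForm m F _ _ ≠ 0
    rw [sympForm_single_inl_right]
    simp
  · rw [h1, Nat.card_eq_fintype_card]
    exact fun h => h4 (by omega)

open Cfsg.Agent.LieClassical.OrthCore Cfsg.Agent.ClassicalGeometry.OrthSemi QuadraticMap in
/-- orthogonal groups, semilinear automorphisms -/
theorem good_O (hO : MainO) (p : ℕ) (F V : Type) [Field F] [Finite F] [CharP F p] [AddCommGroup V] [Module F V]
    [Finite V] {Q : QuadraticForm F V} (hG : LieClassical.OrthTrans.Good Q) (h7 : 7 ≤ finrank F V)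
    [IsSimpleGroup (↥(E Q) ⧸ center ↥(E Q))] (hT : ¬ IsMulCommutative (↥(E Q) ⧸ center ↥(E Q)))
    (hbig : 360 < Nat.card (↥(E Q) ⧸ center ↥(E Q))) {S : Subgroup (MulAut (↥(E Q) ⧸ center ↥(E Q)))}
    (hΓ : S ≤ (Psi Q).range) (hS : Group.IsSolvable S) (hmx : MaxInv (InnG _) S) (hnp : NPar p (InnG _) S) :
    Good (InnG _) S := by
  obtain ⟨R, hRL, hl, hR⟩ := modO F V Q hG
  obtain ⟨x, y, hxy⟩ := hG.exists_hyp
  obtain ⟨z, w, hzw, h1, h2, -, -⟩ := hG.exists_hyp2 hxy
  have : Nontrivial V := ⟨x, 0, hxy.left_ne⟩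
  have h3 : ∀ v, Q v = 0 → polar Q v v = 0 := fun v hv => by rw [polar_self, hv, smul_zero]
  exact good_of_modE hT hbig hR (fun a b c => cent_HF (orH Q hG.nondeg) R a b c (e₁ := x) (e₂ := z) (f₂ := w)
    hxy.left_ne (h3 x hxy.left) (h3 z hzw.left) (h3 w hzw.right) h1 h2
    (by change polar Q w z ≠ 0; rw [hzw.pair']; exact one_ne_zero)
    (Or.inr ⟨(hl x).trans hxy.left, (hl z).trans hzw.left, (hl w).trans hzw.right⟩))
    (char_EB (orH Q hG.nondeg) p) (fun S' h => hO F V (orH Q hG.nondeg) R Q S' ⟨fun _ => rfl, fun _ _ => rfl, hRL, hl⟩ h7 h)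
    hΓ hS hmx hnp

theorem noncomm_of_equiv {K K' : Type*} [Group K] [Group K'] (e : K ≃* K') (h : ¬ IsMulCommutative K) :
    ¬ IsMulCommutative K' := fun h' => h ⟨⟨fun a b => e.injective (by rw [map_mul, map_mul, h'.1.1])⟩⟩

open Cfsg.Agent.LieClassical.OrthForms Cfsg.Agent.ClassicalGeometry.OrthSemiForms in
theorem rowN_O (hO : MainO) (p : ℕ) {K : Type} [Group K] [Finite K] [IsSimpleGroup K] (hK : ¬ IsMulCommutative K)
    (h1 : ¬ RankOne K) {F ι : Type} [Field F] [Fintype F] [CharP F p] [Fintype ι] [DecidableEq ι]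
    {Q : QuadraticForm F (ι → F)} (hG : LieClassical.OrthTrans.Good Q) (h7 : 7 ≤ Fintype.card ι)
    (hsurj : Function.Surjective (ClassicalGeometry.OrthSemi.Psi Q)) {f : (ι → F) → F} (hf : ⇑Q = f)
    (e : K ≃* POmega F f) : RowN p K := by
  subst hf
  let e' := e.trans (pomegaEquiv hG)
  have := e'.symm.isSimpleGroup
  refine RowN.of_equiv e' fun S hS hm hn => good_O hO p F _ hG (by rwa [Module.finrank_fintype_fun_eq_card])
    (noncomm_of_equiv e' hK) ?_ (fun α _ => hsurj α) hS hm hn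
  rw [← Nat.card_congr e'.toEquiv]
  exact big_of_not_rankOne K hK h1

/-- `U₄(2) = PSp₄(3)` -/
theorem row_U42 (hP : BoxPar) (K : Type) [Group K] [Finite K] [IsSimpleGroup K] (hK : ¬ IsMulCommutative K)
    (h1 : ¬ RankOne K) {F F' : Type} [Field F] [Fintype F] [Field F'] [Fintype F'] (hF : Fintype.card F = 4)
    (hF' : Fintype.card F' = 3) (e : K ≃* PSU 4 F 2) (e' : K ≃* PSp 2 F') : Row K := by
  have h3 : Fact (Nat.Prime 3) := ⟨Nat.prime_three⟩
  have h4 := SmallSimple.PSLFacts.card_psp_two_three hF'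
  have h5 := S0814.result 3 1 le_rfl hF' 2 le_rfl (fun _ => le_rfl)
  have c2 : CharP F 2 := by
    have h6 := ringChar.charP F
    have h7 : ringChar F = 2 := by
      have h8 := (CharP.cast_eq_zero_iff F (ringChar F) (2 ^ 2)).1 (by
        rw [show 2 ^ 2 = Fintype.card F from hF.symm]; exact FiniteField.cast_card_eq_zero F)
      exact (Nat.prime_dvd_prime_iff_eq (CharP.char_is_prime F _) Nat.prime_two).1
        ((CharP.char_is_prime F _).dvd_of_dvd_pow h8)
    rwa [h7] at h6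
  have c3 : CharP F' 3 := charP_of_card_eq_prime hF'
  refine row_five hP K hK h1 (Or.inr (Or.inr (Or.inl ⟨F, _, _, c2, 4, 2, hF, by norm_num, by norm_num, ⟨e⟩⟩)))
    (Or.inr (Or.inl ⟨F', _, _, c3, 2, le_rfl, fun _ => hF'.ge, ⟨e'⟩⟩)) ((Nat.card_congr e'.toEquiv).trans h4) ?_
  rw [Nat.card_congr (MulAut.congr e').toEquiv, h5, h4]
  norm_num

end families

open Cfsg.Agent.LieClassical.OrthForms Cfsg.Agent.ClassicalGeometry.OrthSemiForms in
/-- **The bridge.** -/
theorem boxBridge : BoxBridge := by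
  intro hL hU hSp hO hB hD hA hP
  have h2 : Fact (Nat.Prime 2) := ⟨Nat.prime_two⟩
  have h3 : Fact (Nat.Prime 3) := ⟨Nat.prime_three⟩
  refine ⟨?_, ?_, ?_, ?_, ?_, ?_⟩
  · rintro p K _ _ _ hK h1 ⟨F, _, _, _, n, hn, hn2, ⟨e⟩⟩
    by_cases h4 : n = 2
    · subst h4
      exact absurd (Or.inl ⟨F, _, _, hn2 rfl, ⟨e⟩⟩) h1
    by_cases h5 : n ≤ 4 ∧ Fintype.card F = 2
    · rcases (by omega : n = 3 ∨ n = 4) with rfl | rfl
      · have h7 : Fact (Nat.Prime 7) := ⟨by norm_num⟩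
        obtain ⟨e'⟩ := S0255.result (ZMod.card 7) h5.2
        exact absurd (Or.inl ⟨ZMod 7, _, _, by rw [ZMod.card]; norm_num, ⟨e.trans e'.symm⟩⟩) h1
      · obtain ⟨e'⟩ := S0256.result h5.2
        exact (hA K hK ⟨8, by norm_num, ⟨e.trans e'⟩⟩).rowN
    have := e.symm.isSimpleGroup
    refine RowN.of_equiv e (rowN_L hL p F (by omega) (fun h => ?_) (noncomm_of_equiv e hK) ?_)
    · have h6 : 1 < Fintype.card F := Fintype.one_lt_card
      rw [Nat.card_eq_fintype_card]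
      omega
    · rw [← Nat.card_congr e.toEquiv]
      exact big_of_not_rankOne K hK h1
  · rintro p K _ _ _ hK h1 ⟨F, _, _, _, n, q, hF, hn, h32, ⟨e⟩⟩
    by_cases h4 : n = 3
    · subst h4
      exact absurd (Or.inr (Or.inl ⟨F, _, _, q, hF, fun h => h32 ⟨rfl, h⟩, ⟨e⟩⟩)) h1
    by_cases h5 : n = 4 ∧ q = 2
    · obtain ⟨rfl, rfl⟩ := h5
      obtain ⟨e'⟩ := S0822.result hF (ZMod.card 3)
      exact (row_U42 hP K hK h1 hF (ZMod.card 3) e (e.trans e')).rowN
    have := e.symm.isSimpleGroup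
    refine RowN.of_equiv e (rowN_U hU p F hF (by omega) (fun h h' => h5 ⟨h, h'⟩) (noncomm_of_equiv e hK) ?_)
    rw [← Nat.card_congr e.toEquiv]
    exact big_of_not_rankOne K hK h1
  · rintro p K _ _ _ hK h1 ⟨F, _, _, _, m, hm, hm2, ⟨e⟩⟩
    by_cases h4 : m = 2 ∧ Fintype.card F = 3
    · obtain ⟨rfl, h4⟩ := h4
      have := Fintype.ofFinite (GaloisField 2 2)
      have h5 : Fintype.card (GaloisField 2 2) = 4 := by
        rw [← Nat.card_eq_fintype_card, GaloisField.card 2 2 two_ne_zero]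
        rfl
      obtain ⟨e'⟩ := S0822.result h5 h4
      exact (row_U42 hP K hK h1 h5 h4 (e.trans e'.symm) e).rowN
    have := e.symm.isSimpleGroup
    have h5 : m = 2 → 4 ≤ Fintype.card F := fun h => by have := hm2 h; omega
    refine RowN.of_equiv e fun S hS hmx hnp => ?_
    by_cases h6 : S ≤ (ClassicalGeometry.SympAutSemi.Psi m F).range
    · refine good_Sp hSp p F hm h5 (noncomm_of_equiv e hK) ?_ h6 hS hmx hnp
      rw [← Nat.card_congr e.toEquiv]
      exact big_of_not_rankOne K hK h1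
    have h7 : m = 2 ∧ (2 : F) = 0 := by
      by_contra h7
      refine h6 fun α _ => ClassicalGeometry.SympAutExists.exists_semi hm α
        (ClassicalGeometry.SympAutOddA.recog hm ?_ α)
      by_cases h : m = 2
      · exact Or.inr fun h2 => h7 ⟨h, h2⟩
      · left
        omega
    obtain ⟨rfl, h7⟩ := h7
    obtain rfl : 2 = p := char_eq (K := F) p Nat.prime_two (by exact_mod_cast h7)
    exact hB F (h5 rfl) S hS hmx hnp h6
  · rintro p K _ _ _ hK h1 ⟨F, _, _, _, m, hm, hq, ⟨e⟩⟩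
    have h4 : (2 : F) ≠ 0 := by
      intro h4
      have h5 : ringChar F = 2 := (ringChar.eq F p).trans (char_eq (K := F) p Nat.prime_two (by exact_mod_cast h4)).symm
      have h6 := FiniteField.even_card_of_char_two h5
      obtain ⟨k, hk⟩ := hq
      omega
    refine rowN_O hO p hK h1 (good_odd (by omega) h4) ?_ (AutOrth.Final.surjective_odd hm h4) (coe_oddForm _ _) e
    rw [Fintype.card_sum, Fintype.card_sum, Fintype.card_fin, Fintype.card_unit]
    omega
  · rintro p K _ _ _ hK h1 ⟨F, _, _, _, m, hm, ⟨e⟩⟩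
    by_cases h4 : m = 4
    · subst h4
      exact RowN.of_equiv e (hD p F hO)
    refine rowN_O hO p hK h1 (good_plus (by omega)) ?_ (AutOrth.Final.surjective_plus (by omega)) (coe_plusForm _ _) e
    rw [Fintype.card_sum, Fintype.card_fin]
    omega
  · rintro p K _ _ _ hK h1 ⟨F, _, _, _, m, a, b, hm, hab, ⟨e⟩⟩
    refine rowN_O hO p hK h1 (good_minus (by omega) a b hab) ?_ (AutOrth.Final.surjective_minus (by omega) hab)
      (coe_minusForm _ _ a b) e
    rw [Fintype.card_sum, Fintype.card_sum, Fintype.card_fin, Fintype.card_fin]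
    omega

end Cfsg.Agent.SB.Br
end

-- part: SB/D4/Main
section
/-!
# S5765, `PΩ₈⁺(q)` with triality (helper97)
-/

set_option autoImplicit false

namespace Cfsg.Agent.SB.D4

open Cfsg.Agent.ClassicalGeometry.OrthSemi Cfsg.Agent.H786.FC

theorem geo : Geo := ⟨G.boxA, boxFr, G.boxC, G.boxD2, G.boxD3, G.boxB, boxSL2, boxU2⟩

theorem four_of_cx {F : Type} [Field F] [Fintype F] {S : Subgroup (MulAut (G8 F))} {X : Subgroup (G8 F)} {r : ℕ}
    (h : Cx S X r) : Four (InnG (G8 F)) S := by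
  rcases h.prime.eq_two_or_odd' with rfl | ho
  · by_cases hx : ∀ a : E8 F, (a : G8 F) ∈ X → a * a = 1
    · exact four_of_kill3 (case_two_I geo h hx)
    · push Not at hx
      exact four_of_kill3 (case_two_II geo h hx)
  · exact case_odd geo h ho

theorem boxD4 : Cl.BoxD4 := by
  intro p F _ _ _ hO
  have h1 : RowN p (G8 F) := by
    intro S hS hm hn
    have := simple8 (F := F)
    rcases dichotomy S with ⟨β, hβ⟩ | ⟨h1, h2⟩
    · refine Good.of_conj (innG_normal _) β (Br.good_O hO p F _ good8 (by simp) noncomm8 card8 hβ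
        (Group.isSolvable_of_surjective (f := (MulAut.conj β).toMonoidHom.subgroupMap S)
          ((MulAut.conj β).toMonoidHom.subgroupMap_surjective S)) (hm.conj (innG_normal _) β) ?_)
      have h3 := hn.map (MulAut.conj β).toMonoidHom (MulAut.conj β).injective
      rwa [map_conj_normal' (innG_normal _)] at h3
    · obtain ⟨X, r, h⟩ := exists_cx hS hm hn h1 h2
      exact good_of_four hS (four_of_cx h)
  have h2 := h1.of_equiv (ClassicalGeometry.OrthSemiForms.pomegaEquiv good8)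
  rwa [LieClassical.QuadForms.coe_plusForm] at h2

end Cfsg.Agent.SB.D4
end
end

-- part: SB/SporE/J3
section
set_option linter.all false
open scoped Cfsg.Agent.FastGrp

/-!
# S5765, the row `J₃` (helper64)

The 2-local and the 3-local subgroups have regular orbits, the other local subgroups are small.
-/

set_option autoImplicit false

namespace Cfsg.Agent.SB.SporE

open Subgroup Cfsg Cfsg.Spor Cfsg.Agent.H786.FC Cfsg.Agent.SB.Spor Cfsg.Agent.SB.SporA
open Cfsg.Agent.H296.JT (fin_j3 card_j3 cn5)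
open Cfsg.Agent.H59.EP (ElAb)
open Cfsg.Agent.SP.NJ3 (B2)

namespace JThree

variable {K : Type} [Group K]

theorem cent_le (h : IsoJ3 K) (L3 : ∀ N : Subgroup K, ElAb 3 N → N ≠ ⊥ → B2 (normalizer (N : Set K))) {x : K}
    (hp : (orderOf x).Prime) : Nat.card (centralizer ({x} : Set K)) ≤ 7087 := by
  have := fin_j3 h
  have hd : orderOf x ∣ 50232960 := card_j3 h ▸ orderOf_dvd_natCard x
  rcases H898.J3Cent.prime_dvd_card hp hd with e | e | e | e | e
  · rw [SP.NJ3.cent_two h e]; norm_num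
  · obtain ⟨t, ht⟩ := (L3 (zpowers x) ⟨by
        rintro _ ⟨a, rfl⟩ _ ⟨b, rfl⟩
        exact (Commute.zpow_zpow_self x a b).eq, by
        rintro _ ⟨a, rfl⟩
        show (x ^ a) ^ 3 = 1
        rw [← zpow_natCast, ← zpow_mul, mul_comm, zpow_mul, zpow_natCast, ← e, pow_orderOf_eq_one, one_zpow]⟩
      (by rw [Ne, zpowers_eq_bot]; rintro rfl; simp at e)).mono (H := centralizer {x})
      fun g hg => SP.NJ3.comm_mem_norm (mem_centralizer_singleton_iff.1 hg)
    have h1 := sq_le_of_two ht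
    rw [card_j3 h] at h1
    by_contra h2
    nlinarith
  · rw [(cn5 h e).1]; norm_num
  · rw [(H898.J3Cent.seventeen h e).1]; norm_num
  · rw [H898.J3Cent.card_nineteen h e]; norm_num

theorem tri (h : IsoJ3 K) (L2 : ∀ N : Subgroup K, ElAb 2 N → N ≠ ⊥ → B2 (normalizer (N : Set K)))
    (L3 : ∀ N : Subgroup K, ElAb 3 N → N ≠ ⊥ → B2 (normalizer (N : Set K))) (S : Subgroup K)
    (hS : Group.IsSolvable S) : Tri S := by
  have := fin_j3 h
  have small : Nat.card S ≤ 361 → Tri S := fun h1 =>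
    tri_of_small (c := 7087) (m := 7088) h1 (fun _ => cent_le h L3) (by rw [card_j3 h]; norm_num) (by norm_num)
      (by rw [card_j3 h]; norm_num) (by rw [card_j3 h]; norm_num)
  by_cases h0 : S = ⊥
  · exact small (by rw [h0, card_bot]; norm_num)
  obtain ⟨X, r, k, z, hr, -, hXn, hab, hXr, hk, hz, hz1, ho⟩ := exists_el hS h0
  have hX0 : X ≠ ⊥ := fun e => hz1 (by simpa [e] using hz)
  have two : B2 (normalizer (X : Set K)) → Tri S := fun h1 => by
    obtain ⟨t, ht⟩ := h1.mono (le_normalizer_of_conj hXn)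
    exact tri_of_two (by rw [card_j3 h]; norm_num) ht
  have h4 := card_subgroup_dvd_card X
  rw [card_j3 h, hk] at h4
  have fin : ¬ r ^ 2 ∣ 50232960 → (r - 1) * Nat.card (centralizer ({z} : Set K)) ≤ 361 → Tri S := fun h1 h2 => by
    refine small (((card_le_sub hXn hz hz1).trans (Nat.mul_le_mul ?_ (card_le_of_le inf_le_right))).trans h2)
    have h3 : k ≤ 1 := not_lt.1 fun h3 => h1 ((pow_dvd_pow r h3).trans h4)
    have h5 := Nat.pow_le_pow_right hr.pos h3
    rw [pow_one] at h5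
    rw [hk]
    omega
  have hd : r ∣ 50232960 := ho ▸ card_j3 h ▸ orderOf_dvd_natCard z
  rcases H898.J3Cent.prime_dvd_card hr hd with rfl | rfl | rfl | rfl | rfl
  · exact two (L2 X ⟨hab, hXr⟩ hX0)
  · exact two (L3 X ⟨hab, hXr⟩ hX0)
  · exact fin (by norm_num) (by rw [(cn5 h ho).1]; norm_num)
  · exact fin (by norm_num) (by rw [(H898.J3Cent.seventeen h ho).1]; norm_num)
  · exact fin (by norm_num) (by rw [H898.J3Cent.card_nineteen h ho]; norm_num)

end JThree

/-- **The row of the third Janko group.** -/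
theorem row_J3 (K : Type*) [Group K] (h : IsoJ3 K) : Row K := by
  obtain ⟨F, _, _, ω, hF, hω, ⟨e⟩⟩ := h
  refine Row.of_equiv e ?_
  have H := J3.Core.good_of_card hF hω
  have h := SP.NJ3.iso hF H
  have := fin_j3 h
  have := (H898.J3Cent.base h).1
  exact row_of_four (not_comm_of_card (by rw [card_j3 h]; norm_num)) (S2067.result hF ω hω).le
    (JThree.tri h (fun _ => SP.NJ3.two_local H hF) fun _ => SP.NJ3.three_local hF H)

end Cfsg.Agent.SB.SporE
end
end
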